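import Mathlib
import Cfsg.Agent.S1137
import Cfsg.Agent.Lib.Helper86.SuzDefs

set_option autoImplicit false
set_option linter.style.haveILetI false
set_option linter.unusedSectionVars false

namespace Cfsg.Agent.Lib.Helper86.Suz

universe u v
variable {𝕂 : Type v} [Group 𝕂] {G : Type u} [Group G] {φ : 𝕂 →* MulAut G}

theorem Ctx.isSuzuki (h : Ctx φ) (hcyc : IsCyclic 𝕂) : Cfsg.IsSuzukiTwoGroup G := by
  refine ⟨h.fin, h.pg, h.nonab, ?_, φ.range, ?_, ?_⟩
  · obtain ⟨s, t, hst, hs1, hs, ht1, ht⟩ := h.two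
    exact ⟨s, t, hst, hs1, hs, ht1, ht⟩
  · haveI := hcyc
    exact isCyclic_of_surjective φ.rangeRestrict φ.rangeRestrict_surjective
  · intro x y hx1 hx hy1 hy
    obtain ⟨k, hk⟩ := h.trans x y hx1 hx hy1 hy
    refine ⟨⟨φ k, k, rfl⟩, hk, ?_⟩
    rintro ⟨_, k', rfl⟩ hk'
    have hk'' : φ k' x = y := hk'
    have h1 : φ (k⁻¹ * k') x = x := by
      rw [map_mul, MulAut.mul_apply, hk'', ← hk, map_inv, MulAut.inv_apply_self]
    have h2 := h.free _ x hx1 hx h1
    have h3 : k' = k := (inv_mul_eq_one.mp h2).symm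
    subst h3
    rfl

theorem Ctx.mem_center_iff (h : Ctx φ) (hcyc : IsCyclic 𝕂) (x : G) :
    x ∈ Subgroup.center G ↔ x * x = 1 := by
  obtain ⟨hinv, hzsq⟩ := Cfsg.Agent.S1137.result (h.isSuzuki hcyc)
  constructor
  · exact hzsq x
  · intro hx
    by_cases h1 : x = 1
    · rw [h1]; exact Subgroup.one_mem _
    · exact ((hinv x).mp ⟨h1, hx⟩).1

theorem Ctx.fpf (h : Ctx φ) {k : 𝕂} {g : G} (hg : g ≠ 1) (hk : φ k g = g) : k = 1 := by
  have hex : ∃ a : ℕ, g ^ 2 ^ a = 1 := h.pg g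
  classical
  let a := Nat.find hex
  have ha : g ^ 2 ^ a = 1 := Nat.find_spec hex
  have ha0 : a ≠ 0 := by
    intro h0
    rw [h0, pow_zero, pow_one] at ha
    exact hg ha
  obtain ⟨b, hb⟩ : ∃ b, a = b + 1 := ⟨a - 1, by omega⟩
  have hmin : g ^ 2 ^ b ≠ 1 := Nat.find_min hex (by omega : b < a)
  have htt : g ^ 2 ^ b * g ^ 2 ^ b = 1 := by
    rw [← pow_add, ← two_mul, ← pow_succ', ← hb, ha]
  have hkt : φ k (g ^ 2 ^ b) = g ^ 2 ^ b := by rw [map_pow, hk]
  exact h.free k _ hmin htt hkt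

theorem Ctx.injK_h59 (h : Ctx φ) {s : G} (hs1 : s ≠ 1) {k k' : 𝕂} (hkk : φ k s = φ k' s) : k = k' := by
  have h1 : φ (k⁻¹ * k') s = s := by
    rw [map_mul, MulAut.mul_apply, ← hkk, map_inv, MulAut.inv_apply_self]
  exact inv_mul_eq_one.mp (h.fpf hs1 h1)

theorem Ctx.finiteK (h : Ctx φ) : Finite 𝕂 := by
  haveI := h.fin
  obtain ⟨s, _, _, hs1, _, _, _⟩ := h.two
  exact Finite.of_injective (fun k : 𝕂 => φ k s) (fun k k' hkk => h.injK_h59 hs1 hkk)

theorem Ctx.card_K (h : Ctx φ) (hcyc : IsCyclic 𝕂) :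
    Nat.card 𝕂 + 1 = Nat.card (Subgroup.center G) := by
  haveI := h.fin
  haveI := h.finiteK
  obtain ⟨s, _, _, hs1, hs, _, _⟩ := h.two
  have hsc : s ∈ Subgroup.center G := (h.mem_center_iff hcyc s).mpr hs
  have hmap : ∀ k : 𝕂, φ k s ∈ Subgroup.center G := by
    intro k
    rw [h.mem_center_iff hcyc, ← map_mul, hs, map_one]
  let g : Option 𝕂 → Subgroup.center G := fun o =>
    match o with
    | none => 1
    | some k => ⟨φ k s, hmap k⟩
  have hg : Function.Bijective g := by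
    constructor
    · intro o o' hoo
      match o, o' with
      | none, none => rfl
      | none, some k =>
        exfalso
        have h1 : (1 : G) = φ k s := congrArg Subtype.val hoo
        apply hs1
        have := congrArg ((φ k)⁻¹) h1
        simpa using this.symm
      | some k, none =>
        exfalso
        have h1 : φ k s = (1 : G) := congrArg Subtype.val hoo
        apply hs1
        have := congrArg ((φ k)⁻¹) h1
        simpa using this
      | some k, some k' =>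
        have h1 : φ k s = φ k' s := congrArg Subtype.val hoo
        rw [h.injK_h59 hs1 h1]
    · intro z
      by_cases hz : z = 1
      · exact ⟨none, hz.symm⟩
      · have hz1 : z.1 ≠ 1 := fun hh => hz (Subtype.ext hh)
        obtain ⟨k, hk⟩ := h.trans s z.1 hs1 hs hz1 ((h.mem_center_iff hcyc z.1).mp z.2)
        exact ⟨some k, Subtype.ext hk⟩
  rw [← Nat.card_congr (Equiv.ofBijective g hg), Finite.card_option]

end Cfsg.Agent.Lib.Helper86.Suz
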