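import Mathlib
import Cfsg.Agent.S1137
import Cfsg.Agent.S3773
import Cfsg.Agent.Lib.Helper86.SuzDefs
import Cfsg.Agent.Lib.Helper59.SuzT1

set_option autoImplicit false
set_option linter.style.haveILetI false
set_option linter.unusedSectionVars false

namespace Cfsg.Agent.Lib.Helper86.Suz

universe u v
variable {𝕂 : Type v} [Group 𝕂] {G : Type u} [Group G] {φ : 𝕂 →* MulAut G}

open scoped commutatorElement

/-- exponent four forces squares and commutators to be central -/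
theorem Ctx.sq_mem_center_of_exp4 (h : Ctx φ) (hcyc : IsCyclic 𝕂) (h4 : ∀ g : G, g ^ 4 = 1)
    (g : G) : g * g ∈ Subgroup.center G := by
  rw [h.mem_center_iff hcyc]
  rw [← h4 g]
  simp [pow_succ, mul_assoc]

theorem Ctx.cm_mem_center_of_exp4 (h : Ctx φ) (hcyc : IsCyclic 𝕂) (h4 : ∀ g : G, g ^ 4 = 1)
    (x y : G) : x⁻¹ * y⁻¹ * x * y ∈ Subgroup.center G := by
  have e : x⁻¹ * y⁻¹ * x * y = (x⁻¹ * x⁻¹) * ((x * y⁻¹) * (x * y⁻¹)) * (y * y) := by group
  rw [e]
  exact Subgroup.mul_mem _ (Subgroup.mul_mem _ (h.sq_mem_center_of_exp4 hcyc h4 _)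
    (h.sq_mem_center_of_exp4 hcyc h4 _)) (h.sq_mem_center_of_exp4 hcyc h4 _)

theorem Ctx.card_le_cube (h : Ctx φ) (hcyc : IsCyclic 𝕂) (h4 : ∀ g : G, g ^ 4 = 1) :
    Nat.card G ≤ Nat.card (Subgroup.center G) ^ 3 := by
  haveI := h.fin
  have hinv2 : ∀ x : G, x ^ 2 = 1 ↔ x ∈ Subgroup.center G := by
    intro x
    rw [pow_two, h.mem_center_iff hcyc]
  have hN : ∀ x y : G, x ^ 2 = 1 → y ^ 2 = 1 → (x * y) ^ 2 = 1 := by
    intro x y hx hy
    rw [hinv2] at hx hy ⊢
    exact Subgroup.mul_mem _ hx hy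
  have hcl : (⊤ : Subgroup G).lowerCentralSeries 2 = ⊥ := by
    rw [Subgroup.lowerCentralSeries_succ, Subgroup.lowerCentralSeries_succ,
      Subgroup.lowerCentralSeries_zero, Subgroup.commutator_eq_bot_iff_le_centralizer,
      Subgroup.coe_top, Subgroup.centralizer_univ, Subgroup.commutator_le]
    intro p _ q _
    have := h.cm_mem_center_of_exp4 hcyc h4 p⁻¹ q⁻¹
    rw [commutatorElement_def]
    simpa using this
  have key := (Cfsg.Agent.S3773.result h.pg hcl h4 hN).1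
  have hcardZ : Nat.card {x : G // x ^ 2 = 1} = Nat.card (Subgroup.center G) :=
    Nat.card_congr (Equiv.subtypeEquivRight (fun x => hinv2 x))
  rw [hcardZ] at key
  exact key

end Cfsg.Agent.Lib.Helper86.Suz
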