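import Cfsg.Agent.Lib.Helper59.SuzBase
import Cfsg.Agent.S3773

/-!
# Suzuki 2-groups: the order and the exponent, once `P/Z(P)` is known to be elementary abelian
-/

set_option autoImplicit false
set_option linter.style.haveILetI false

namespace Cfsg.Agent.Lib.Helper59.SuzTail

open Cfsg.Agent.Lib.Helper59.SuzBase
open scoped commutatorElement

theorem tail {P : Type*} [Group P] (hP : Cfsg.IsSuzukiTwoGroup P)
    (hsq : ∀ x : P, x * x ∈ Subgroup.center P)
    (hcm : ∀ x y : P, x⁻¹ * y⁻¹ * x * y ∈ Subgroup.center P) :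
    (Nat.card P = Nat.card (Subgroup.center P) ^ 2 ∨
      Nat.card P = Nat.card (Subgroup.center P) ^ 3) ∧ Monoid.exponent P = 4 := by
  obtain ⟨K, hB⟩ := sbase_of hP
  haveI := hB.fin
  have h4 : ∀ x : P, x ^ 4 = 1 := fun x => by
    have := hB.zsq _ (hsq x)
    calc x ^ 4 = (x * x) * (x * x) := by simp [pow_succ, mul_assoc]
      _ = 1 := this
  have hinv2 : ∀ x : P, x ^ 2 = 1 ↔ x ∈ Subgroup.center P := by
    intro x
    rw [pow_two]
    exact ⟨hB.invc x, hB.zsq x⟩
  have hN : ∀ x y : P, x ^ 2 = 1 → y ^ 2 = 1 → (x * y) ^ 2 = 1 := by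
    intro x y hx hy
    rw [hinv2] at hx hy ⊢
    exact Subgroup.mul_mem _ hx hy
  have hcl : (⊤ : Subgroup P).lowerCentralSeries 2 = ⊥ := by
    rw [Subgroup.lowerCentralSeries_succ, Subgroup.lowerCentralSeries_succ,
      Subgroup.lowerCentralSeries_zero, Subgroup.commutator_eq_bot_iff_le_centralizer,
      Subgroup.coe_top, Subgroup.centralizer_univ, Subgroup.commutator_le]
    intro p _ q _
    have := hcm p⁻¹ q⁻¹
    rw [commutatorElement_def]
    simpa using this
  have key := (Cfsg.Agent.S3773.result hB.pg hcl h4 hN).1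
  have hcardZ : Nat.card {x : P // x ^ 2 = 1} = Nat.card (Subgroup.center P) :=
    Nat.card_congr (Equiv.subtypeEquivRight (fun x => hinv2 x))
  rw [hcardZ] at key
  -- the exponent
  have hexp : Monoid.exponent P = 4 := by
    have h1 : Monoid.exponent P ∣ 2 ^ 2 := Monoid.exponent_dvd_of_forall_pow_eq_one h4
    obtain ⟨k, hk, hek⟩ := (Nat.dvd_prime_pow Nat.prime_two).mp h1
    have hnot : ¬ Monoid.exponent P ∣ 2 := by
      intro hd
      obtain ⟨x, y, hxy⟩ := hB.nonab
      apply hxy
      have hy : y ^ 2 = 1 := Monoid.exponent_dvd_iff_forall_pow_eq_one.mp hd y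
      rw [hinv2] at hy
      exact (Subgroup.mem_center_iff.mp hy x)
    interval_cases k
    · exfalso; apply hnot; rw [hek]; norm_num
    · exfalso; apply hnot; rw [hek]; norm_num
    · rw [hek]; norm_num
  refine ⟨?_, hexp⟩
  -- the order
  obtain ⟨n, hn⟩ := IsPGroup.iff_card.mp (hB.pg.to_subgroup (Subgroup.center P))
  obtain ⟨N, hNc⟩ := IsPGroup.iff_card.mp hB.pg
  have hK := hB.card_K
  have hdvd := hB.card_K_dvd
  have hKeq : Nat.card K = 2 ^ n - 1 := by omega
  rw [hKeq, hNc] at hdvd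
  have hmod : (2 ^ N - 1) % (2 ^ n - 1) = 0 := Nat.mod_eq_zero_of_dvd hdvd
  rw [Nat.pow_sub_one_mod_pow_sub_one] at hmod
  have hNn : N % n = 0 := by
    by_contra h
    have : 2 ≤ 2 ^ (N % n) := by
      calc 2 = 2 ^ 1 := by norm_num
        _ ≤ 2 ^ (N % n) := Nat.pow_le_pow_right (by norm_num) (by omega)
    omega
  -- n < N
  have hlt : Nat.card (Subgroup.center P) < Nat.card P := by
    have hle : Nat.card (Subgroup.center P) ≤ Nat.card P := Subgroup.card_le_card_group _
    rcases Nat.lt_or_ge (Nat.card (Subgroup.center P)) (Nat.card P) with h | h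
    · exact h
    · exfalso
      have heq : Subgroup.center P = ⊤ := Subgroup.eq_top_of_card_eq _ (le_antisymm hle h)
      obtain ⟨x, y, hxy⟩ := hB.nonab
      apply hxy
      have hy : y ∈ Subgroup.center P := by rw [heq]; exact Subgroup.mem_top _
      exact (Subgroup.mem_center_iff.mp hy x)
  rw [hn, hNc] at hlt
  have hnN : n < N := (Nat.pow_lt_pow_iff_right (by norm_num)).mp hlt
  rw [hn, hNc, ← pow_mul] at key
  have hN3 : N ≤ n * 3 := (Nat.pow_le_pow_iff_right (by norm_num)).mp key
  obtain ⟨c, hc⟩ := Nat.dvd_of_mod_eq_zero hNn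
  have hn0 : 0 < n := by
    rcases Nat.eq_zero_or_pos n with h | h
    · subst h; simp at hNn; omega
    · exact h
  have hc2 : 1 < c := by
    by_contra h
    have : c ≤ 1 := by omega
    have : n * c ≤ n * 1 := Nat.mul_le_mul_left n this
    omega
  have hc3 : c ≤ 3 := by
    by_contra h
    have : 4 ≤ c := by omega
    have : n * 4 ≤ n * c := Nat.mul_le_mul_left n this
    omega
  rw [hn, hNc, hc]
  interval_cases c
  · left; rw [pow_mul]
  · right; rw [pow_mul]

end Cfsg.Agent.Lib.Helper59.SuzTail
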