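import Mathlib
import Cfsg.Agent.S1140

set_option autoImplicit false
set_option linter.style.haveILetI false
set_option linter.unusedSectionVars false
set_option linter.unusedVariables false

namespace Cfsg.Agent.Lib.Helper86.Suz

open Cfsg.Agent.S1140

section field
variable {F : Type*} [Field F] [Fintype F] [CharP F 2]

/-- The only linear relation `π + ρ + 1 + π∘σ = 0` among automorphisms with `ρ ≠ 1`, `σ ≠ 1`
has `π = 1` or `π ∘ σ = 1`. -/
theorem rel_four_h59 (π ρ σ : F ≃+* F) (hρ : ρ ≠ 1)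
    (hrel : ∀ x : F, π x + ρ x = x + π (σ x)) : π = 1 ∨ π * σ = 1 := by
  classical
  by_contra hcon
  push Not at hcon
  obtain ⟨hπ, hπσ⟩ := hcon
  have hli := Fintype.linearIndependent_iff.mp (li (F := F))
  let d : (F ≃+* F) → F := fun τ =>
    (if τ = π then 1 else 0) + (if τ = ρ then 1 else 0) + (if τ = 1 then 1 else 0) +
      (if τ = π * σ then 1 else 0)
  have hsum : ∑ τ : F ≃+* F, d τ • (fun x : F => ((τ : F →+* F) : F → F) x) = 0 := by
    funext x
    simp only [Finset.sum_apply, Pi.smul_apply, smul_eq_mul, Pi.zero_apply, d, add_mul,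
      Finset.sum_add_distrib, ite_mul, one_mul, zero_mul, Finset.sum_ite_eq', Finset.mem_univ,
      if_true]
    have h1 := hrel x
    have e1 : ((π : F →+* F) : F → F) x = π x := rfl
    have e2 : ((ρ : F →+* F) : F → F) x = ρ x := rfl
    have e3 : (((1 : F ≃+* F) : F →+* F) : F → F) x = x := rfl
    have e4 : (((π * σ : F ≃+* F) : F →+* F) : F → F) x = π (σ x) := rfl
    rw [e1, e2, e3, e4, h1]
    have : x + π (σ x) + x + π (σ x) = (x + x) + (π (σ x) + π (σ x)) := by ring
    rw [this, CharTwo.add_self_eq_zero, CharTwo.add_self_eq_zero, add_zero]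
  have h1 := hli d hsum 1
  have : d 1 = 1 := by
    show (if (1 : F ≃+* F) = π then (1 : F) else 0) + (if (1 : F ≃+* F) = ρ then 1 else 0) +
      (if (1 : F ≃+* F) = 1 then 1 else 0) + (if (1 : F ≃+* F) = π * σ then 1 else 0) = 1
    rw [if_neg (Ne.symm hπ), if_neg (Ne.symm hρ), if_pos rfl, if_neg (Ne.symm hπσ)]
    simp
  rw [this] at h1
  exact one_ne_zero h1

-- T5 LemA
theorem lemA {M : Type*} [Group M] (ξ : M → M) (S : Subgroup M) (hS : ∀ g ∈ S, ξ g ∈ S)
    (f₁ f₂ : M → F) (add₁ : ∀ g h, f₁ (g * h) = f₁ g + f₁ h)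
    (add₂ : ∀ g h, f₂ (g * h) = f₂ g + f₂ h)
    (ν : F) (hν0 : ν ≠ 0) (hν : ∀ x : F, x ≠ 0 → ∃ i : ℕ, x = ν ^ i)
    (σ ρ : F ≃+* F) (hσ : σ ≠ 1) (hρ : ρ ≠ 1)
    (eq₁ : ∀ g, f₁ (ξ g) = ν / σ ν * f₁ g) (eq₂ : ∀ g, f₂ (ξ g) = ν / ρ ν * f₂ g)
    (hker : ∀ g ∈ S, f₁ g = 0 → f₂ g = 0) (hsurj : ∀ x : F, ∃ g ∈ S, f₁ g = x)
    (hne : ∃ g ∈ S, f₂ g ≠ 0) : σ = ρ := by
  classical
  -- basic additivity facts
  have one₁ : f₁ 1 = 0 := by
    have := add₁ 1 1
    rw [mul_one] at this
    exact left_eq_add.mp this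
  have one₂ : f₂ 1 = 0 := by
    have := add₂ 1 1
    rw [mul_one] at this
    exact left_eq_add.mp this
  have inv₁ : ∀ g, f₁ g⁻¹ = f₁ g := by
    intro g
    have := add₁ g g⁻¹
    rw [mul_inv_cancel, one₁] at this
    have h2 : f₁ g⁻¹ = - f₁ g := (neg_eq_of_add_eq_zero_right this.symm).symm
    rw [h2, CharTwo.neg_eq]
  have inv₂ : ∀ g, f₂ g⁻¹ = f₂ g := by
    intro g
    have := add₂ g g⁻¹
    rw [mul_inv_cancel, one₂] at this
    have h2 : f₂ g⁻¹ = - f₂ g := (neg_eq_of_add_eq_zero_right this.symm).symm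
    rw [h2, CharTwo.neg_eq]
  -- well-definedness
  have wd : ∀ a ∈ S, ∀ b ∈ S, f₁ a = f₁ b → f₂ a = f₂ b := by
    intro a ha b hb hab
    have h1 : f₁ (a * b⁻¹) = 0 := by
      rw [add₁, inv₁, hab, CharTwo.add_self_eq_zero]
    have h2 := hker _ (S.mul_mem ha (S.inv_mem hb)) h1
    rw [add₂, inv₂] at h2
    have : f₂ a = - f₂ b := eq_neg_of_add_eq_zero_left h2
    rw [this, CharTwo.neg_eq]
  choose g hgS hg using hsurj
  let φ : F →+ F := AddMonoidHom.mk' (fun x => f₂ (g x)) (by
    intro x y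
    show f₂ (g (x + y)) = f₂ (g x) + f₂ (g y)
    rw [← add₂]
    apply wd _ (hgS _) _ (S.mul_mem (hgS _) (hgS _))
    rw [hg, add₁, hg, hg])
  have hφ : ∀ x, φ x = f₂ (g x) := fun x => rfl
  have hφeq : ∀ x, φ (ν / σ ν * x) = ν / ρ ν * φ x := by
    intro x
    rw [hφ, hφ, ← eq₂]
    apply wd _ (hgS _) _ (hS _ (hgS _))
    rw [hg, eq₁, hg]
  obtain ⟨g₀, hg₀S, hg₀⟩ := hne
  have hφne : φ (f₁ g₀) ≠ 0 := by
    rw [hφ]
    have : f₂ (g (f₁ g₀)) = f₂ g₀ := wd _ (hgS _) _ hg₀S (hg _)
    rw [this]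
    exact hg₀
  obtain ⟨a, ha⟩ := (comb_bijective (F := F)).2 φ
  have hax : ∀ x, φ x = ∑ π : F ≃+* F, a π * π x := by
    intro x
    rw [← ha, comb_apply]
  have hcoef : ∀ π : F ≃+* F, a π * π (ν / σ ν) = ν / ρ ν * a π := by
    have h1 : comb (fun π : F ≃+* F => a π * π (ν / σ ν)) =
        comb (fun π : F ≃+* F => ν / ρ ν * a π) := by
      ext x
      rw [comb_apply, comb_apply]
      have h2 := hφeq x
      rw [hax, hax, Finset.mul_sum] at h2
      calc ∑ π : F ≃+* F, a π * π (ν / σ ν) * π x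
          = ∑ π : F ≃+* F, a π * π (ν / σ ν * x) := by
            apply Finset.sum_congr rfl
            intro π _
            rw [map_mul]; ring
        _ = ∑ π : F ≃+* F, ν / ρ ν * (a π * π x) := h2
        _ = ∑ π : F ≃+* F, ν / ρ ν * a π * π x := by
            apply Finset.sum_congr rfl
            intro π _
            ring
    have h3 := comb_injective h1
    intro π
    exact congrFun h3 π
  have hane : ∃ π, a π ≠ 0 := by
    by_contra hall
    push Not at hall
    apply hφne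
    rw [hax]
    apply Finset.sum_eq_zero
    intro π _
    rw [hall π, zero_mul]
  obtain ⟨π, hπ⟩ := hane
  have h1 : π (ν / σ ν) = ν / ρ ν := by
    have := hcoef π
    rw [mul_comm] at this
    exact mul_right_cancel₀ hπ this
  have hσν : σ ν ≠ 0 := by simpa using hν0
  have hρν : ρ ν ≠ 0 := by simpa using hν0
  have hπσν : π (σ ν) ≠ 0 := by simpa using hν0
  have h2 : π ν * ρ ν = ν * π (σ ν) := by
    rw [map_div₀] at h1
    field_simp at h1
    rw [h1]; ring
  have hmult : ∀ x : F, π x * ρ x = x * π (σ x) := by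
    intro x
    by_cases hx : x = 0
    · subst hx; simp
    · obtain ⟨i, rfl⟩ := hν x hx
      rw [map_pow, map_pow, map_pow, map_pow, ← mul_pow, ← mul_pow, h2]
  have hpol : ∀ x : F, π x + ρ x = x + π (σ x) := by
    intro x
    have h3 := hmult (x + 1)
    simp only [map_add, map_one] at h3
    have h4 := hmult x
    have h5 : (π x + 1) * (ρ x + 1) = π x * ρ x + (π x + ρ x) + 1 := by ring
    have h6 : (x + 1) * (π (σ x) + 1) = x * π (σ x) + (x + π (σ x)) + 1 := by ring
    rw [h5, h6, h4] at h3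
    exact add_left_cancel (add_right_cancel h3)
  rcases rel_four_h59 π ρ σ hρ hpol with hπ1 | hπσ
  · subst hπ1
    ext x
    have := hpol x
    simp only [RingAut.one_apply] at this
    exact (add_left_cancel this).symm
  · exfalso
    have hπσx : ∀ x, π (σ x) = x := fun x => by
      have := DFunLike.congr_fun hπσ x
      simpa using this
    have hπρ : ∀ x, π x = ρ x := by
      intro x
      have := hpol x
      rw [hπσx, CharTwo.add_self_eq_zero] at this
      exact CharTwo.add_eq_zero.mp this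
    have hπid : ∀ x, π x = x := by
      intro x
      have := hmult x
      rw [← hπρ, hπσx] at this
      have h7 : (π x + x) * (π x + x) = 0 := by
        have : (π x + x) * (π x + x) = π x * π x + x * x + (π x * x + π x * x) := by ring
        rw [this, CharTwo.add_self_eq_zero, add_zero, ‹π x * π x = x * x›,
          CharTwo.add_self_eq_zero]
      have h8 : π x + x = 0 := mul_self_eq_zero.mp h7
      exact CharTwo.add_eq_zero.mp h8
    apply hρ
    ext x
    rw [← hπρ, hπid]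
    rfl

end field

end Cfsg.Agent.Lib.Helper86.Suz
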