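import Mathlib
import Cfsg.Prelude.Def_ClassicalGeometry
import Cfsg.Prelude.Def_GeometricClasses

/-! # Definitions for the Tq hive (helper59): S5973 + S5987
(`PΩ^±_{2d}(q)` acting on totally singular `m`-spaces). -/

set_option autoImplicit false

namespace Cfsg.Agent.Lib.Helper59.Tq

open Module

section defs

variable {ι : Type} [Fintype ι] [DecidableEq ι] {F : Type*} [Field F]

/-- `x` fixes a totally singular `m`-space of the function `Q` -/
def FixTS (Q : (ι → F) → F) (m : ℕ) (x : GL ι F) : Prop :=
  ∃ W : Submodule F (ι → F), finrank F W = m ∧ (∀ w ∈ W, Q w = 0) ∧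
    W.map (Matrix.toLin' (x : Matrix ι ι F)) ≤ W

/-- `Q` is the function of a nondegenerate quadratic form on `ι → F`, and `card ι = 2 d` -/
structure Std (Q : (ι → F) → F) (d : ℕ) : Prop where
  exists_form : ∃ QF : QuadraticForm F (ι → F), (⇑QF = Q) ∧
    (QuadraticMap.polarBilin QF).Nondegenerate
  card : Fintype.card ι = 2 * d

/-- plus type: there is a totally singular subspace of half the dimension -/
def IsPlus (Q : (ι → F) → F) : Prop :=
  ∃ U : Submodule F (ι → F), (∀ u ∈ U, Q u = 0) ∧ 2 * finrank F U = Fintype.card ι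

/-- the type as a number: `e = 0` for plus type, `e = 1` for minus type -/
def TypeE (Q : (ι → F) → F) (e : ℕ) : Prop :=
  (e = 0 ∧ IsPlus Q) ∨ (e = 1 ∧ ¬ IsPlus Q)

/-- `x` is not a scalar matrix -/
def NonScalar (x : GL ι F) : Prop :=
  ∀ z : F, (x : Matrix ι ι F) ≠ z • (1 : Matrix ι ι F)

end defs

section abstract

variable {F : Type*} [Field F] {V : Type*} [AddCommGroup V] [Module F V]

/-- the subspace `Z` is of plus type for the quadratic form `Q`: it contains a totally singular
subspace of half its dimension -/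
def PlusOn (Q : QuadraticForm F V) (Z : Submodule F V) : Prop :=
  ∃ U : Submodule F V, U ≤ Z ∧ (∀ u ∈ U, Q u = 0) ∧ 2 * finrank F U = finrank F Z

end abstract

end Cfsg.Agent.Lib.Helper59.Tq
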