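import Mathlib
import Cfsg.Agent.Lib.Helper41.PsDefs

/-!
# Ps hive (S4321), leaf PS1 `ps_chain` (helper59).
-/

set_option autoImplicit false

namespace Cfsg.Agent.Lib.Helper41.Ps

open Subgroup
open Cfsg.Agent.Lib.Helper22.Cg

universe u

/-- two distinct primes dividing `n`: their product divides `n`. -/
theorem ps1_mul_dvd {a b n : ℕ} (ha : a.Prime) (hb : b.Prime) (hab : a ≠ b) (h1 : a ∣ n)
    (h2 : b ∣ n) : a * b ∣ n :=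
  ((Nat.coprime_primes ha hb).2 hab).mul_dvd_of_dvd_of_dvd h1 h2

/-- PS1. chain `r -(x)- r' -(y)- s' -(z)- s` gives the goal. -/
theorem ps_chain {G : Type u} [Group G] (p r s r' s' : ℕ) (x y z : G)
    (hx : p ∣ orderOf x) (hy : p ∣ orderOf y) (hz : p ∣ orderOf z)
    (hr : r.Prime) (hs : s.Prime) (hr' : r'.Prime) (hs' : s'.Prime)
    (h1 : r ∣ cs x) (h2 : r' ∣ cs x) (h3 : r' ∣ cs y) (h4 : s' ∣ cs y) (h5 : s' ∣ cs z)
    (h6 : s ∣ cs z) (hne : r' ≠ s') (hrs : r ≠ s) : Goal G p r s := by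
  by_cases e1 : r' = r
  · -- chain r -(y)- s' -(z)- s
    have h3r : r ∣ cs y := e1 ▸ h3
    have hrs' : r ≠ s' := e1 ▸ hne
    by_cases e2 : s' = s
    · exact Or.inl ⟨y, hy, ps1_mul_dvd hr hs hrs h3r (e2 ▸ h4)⟩
    · refine Or.inr (Or.inl ⟨s', ⟨hs', y, hy, h4⟩, fun h => hrs' h.symm, e2, ?_, ?_⟩)
      · exact ⟨y, hy, ps1_mul_dvd hr hs' hrs' h3r h4⟩
      · exact ⟨z, hz, ps1_mul_dvd hs' hs e2 h5 h6⟩
  · have hrr' : r ≠ r' := fun h => e1 h.symm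
    by_cases e2 : s' = s
    · -- chain r -(x)- r' -(y)- s
      have hr's : r' ≠ s := e2 ▸ hne
      refine Or.inr (Or.inl ⟨r', ⟨hr', x, hx, h2⟩, e1, hr's, ?_, ?_⟩)
      · exact ⟨x, hx, ps1_mul_dvd hr hr' hrr' h1 h2⟩
      · exact ⟨y, hy, ps1_mul_dvd hr' hs hr's h3 (e2 ▸ h4)⟩
    · refine Or.inr (Or.inr ⟨r', s', ⟨hr', x, hx, h2⟩, ⟨hs', y, hy, h4⟩, e1, e2, hne, ?_, ?_, ?_⟩)
      · exact ⟨x, hx, ps1_mul_dvd hr hr' hrr' h1 h2⟩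
      · exact ⟨y, hy, ps1_mul_dvd hr' hs' hne h3 h4⟩
      · exact ⟨z, hz, ps1_mul_dvd hs' hs e2 h5 h6⟩

end Cfsg.Agent.Lib.Helper41.Ps
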