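import Mathlib
import Cfsg.Prelude.Def_ClassicalGeometry
import Cfsg.Prelude.Def_GeometricClasses
import Cfsg.Agent.Lib.Helper59.TqDefs
import Cfsg.Agent.Lib.Helper79.OmegaOddAny

/-! # Tq hive (helper59), chunk TQ-OMEGA: an isometry of odd order lies in `Ω` (any characteristic);
a wrapper around helper79's `OmegaOddAny.mem_omegaGL_of_odd`. -/

set_option autoImplicit false

namespace Cfsg.Agent.Lib.Helper59.Tq

open Module

section tools2

variable {ι : Type} [Fintype ι] [DecidableEq ι] {F : Type*} [Field F] [Fintype F]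

/-- TQ-OMEGA: an isometry of odd order lies in `Ω`, ANY characteristic. -/
theorem mem_omegaGL_of_odd (Q : (ι → F) → F) (d : ℕ) (hd : 3 ≤ d) (hS : Std Q d) (x : GL ι F)
    (hx : x ∈ Cfsg.isometryGroup F Q) (n : ℕ) (hn : Odd n) (hxn : x ^ n = 1) :
    x ∈ Cfsg.Geo.omegaGL Q := by
  obtain ⟨QF, hQF, hnd⟩ := hS.exists_form
  subst hQF
  refine Cfsg.Agent.Lib.Helper79.OmegaOddAny.mem_omegaGL_of_odd QF hnd (Or.inr ?_) x hx n hn hxn
  rw [Module.finrank_pi, hS.card]
  omega

end tools2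

end Cfsg.Agent.Lib.Helper59.Tq
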