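import Mathlib
import Cfsg.Agent.Lib.Helper81.Q4Defs

/-!
# Q4-A2E (S6002 hive, owner helper81): the non-scalar involutions of `R` are `± e i`.

Direct proof from `minus`: a non-scalar involution `g ∈ R` commuting with some `e i` has `g * e i`
scalar (`minus`), i.e. `g = ± e i`; if `g` anticommutes with all `e i` then `c = e0 e1 e2 g` is an
involution of `R` commuting with `e3`, `e4` and anticommuting with `e0`, which contradicts `minus`.
-/

set_option autoImplicit false

namespace Cfsg.Agent.Lib.Helper81.Q4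

open Matrix

variable {F : Type*} [Field F] [Fintype F]

/-- two involutions cannot both commute and anticommute (`2 ≠ 0`). -/
theorem a2e_false (h2 : (2 : F) ≠ 0) {X Y : Matrix I4 I4 F} (hX : X * X = 1) (hY : Y * Y = 1)
    (h1 : X * Y = -(Y * X)) (h3 : X * Y = Y * X) : False := by
  have h4 : (2 : F) • (X * Y) = 0 := by
    rw [two_smul]
    nth_rewrite 1 [h1]
    rw [← h3]; simp
  have h5 : X * Y = 0 := by
    rcases smul_eq_zero.mp h4 with h | h
    · exact absurd h h2
    · exact h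
  have h6 : (1 : Matrix I4 I4 F) = 0 := by
    calc (1 : Matrix I4 I4 F) = X * X := hX.symm
      _ = X * (Y * Y) * X := by rw [hY, mul_one]
      _ = (X * Y) * (Y * X) := by simp only [mul_assoc]
      _ = 0 := by rw [h5, zero_mul]
  exact one_ne_zero h6

/-- assoc'd form of an anticommutation rule. -/
theorem a2e_anti' {X Y : Matrix I4 I4 F} (h : X * Y = -(Y * X)) (Z : Matrix I4 I4 F) :
    X * (Y * Z) = -(Y * (X * Z)) := by
  rw [← mul_assoc, h, neg_mul, mul_assoc]

/-- assoc'd form of a square rule. -/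
theorem a2e_sq' {X : Matrix I4 I4 F} (h : X * X = 1) (Z : Matrix I4 I4 F) :
    X * (X * Z) = Z := by
  rw [← mul_assoc, h, one_mul]

theorem involution_eq_frame (h2 : (2 : F) ≠ 0) (R : Subgroup (GL I4 F)) (hR : MinusLike R)
    (e : Fin 5 → GL I4 F) (he : Frame R e) (g : GL I4 F) (hg : g ∈ R)
    (hsq : (g : Matrix I4 I4 F) * (g : Matrix I4 I4 F) = 1) (hns : ¬ IsScalar g) :
    ∃ i, (g : Matrix I4 I4 F) = ((e i : GL I4 F) : Matrix I4 I4 F) ∨
      (g : Matrix I4 I4 F) = -((e i : GL I4 F) : Matrix I4 I4 F) := by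
  -- no `e i` is scalar
  have hens : ∀ i, ¬ IsScalar (e i) := by
    intro i ⟨c, hc⟩
    obtain ⟨j, hj⟩ : ∃ j : Fin 5, i ≠ j := by
      by_cases h0 : i = 0
      · exact ⟨1, by rw [h0]; decide⟩
      · exact ⟨0, h0⟩
    refine a2e_false h2 (he.sq i) (he.sq j) (he.anti i j hj) ?_
    rw [hc]; simp
  by_cases hc : ∃ i, (g : Matrix I4 I4 F) * ((e i : GL I4 F) : Matrix I4 I4 F) =
      ((e i : GL I4 F) : Matrix I4 I4 F) * (g : Matrix I4 I4 F)
  · obtain ⟨i, hi⟩ := hc
    refine ⟨i, ?_⟩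
    rcases hR.minus g hg (e i) (he.mem i) hsq (he.sq i) hi with h | h | h
    · exact absurd h hns
    · exact absurd h (hens i)
    · obtain ⟨c, hc⟩ := h
      have hc' : (g : Matrix I4 I4 F) * ((e i : GL I4 F) : Matrix I4 I4 F) =
          c • (1 : Matrix I4 I4 F) := by
        rw [← hc]; rfl
      have hgc : (g : Matrix I4 I4 F) = c • ((e i : GL I4 F) : Matrix I4 I4 F) := by
        calc (g : Matrix I4 I4 F)
            = (g : Matrix I4 I4 F) * (((e i : GL I4 F) : Matrix I4 I4 F) *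
                ((e i : GL I4 F) : Matrix I4 I4 F)) := by rw [he.sq i, mul_one]
          _ = ((g : Matrix I4 I4 F) * ((e i : GL I4 F) : Matrix I4 I4 F)) *
                ((e i : GL I4 F) : Matrix I4 I4 F) := by simp only [mul_assoc]
          _ = c • ((e i : GL I4 F) : Matrix I4 I4 F) := by rw [hc']; simp
      rcases hR.scal (g * e i) (R.mul_mem hg (he.mem i)) c hc with h1 | h1
      · left; rw [hgc, h1, one_smul]
      · right; rw [hgc, h1]; simp
  · exfalso
    push Not at hc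
    have ha : ∀ i, (g : Matrix I4 I4 F) * ((e i : GL I4 F) : Matrix I4 I4 F) =
        -(((e i : GL I4 F) : Matrix I4 I4 F) * (g : Matrix I4 I4 F)) := fun i =>
      (hR.anti g hg (e i) (he.mem i)).resolve_left (hc i)
    -- abbreviations
    set G : Matrix I4 I4 F := (g : Matrix I4 I4 F) with hG
    set E0 : Matrix I4 I4 F := ((e 0 : GL I4 F) : Matrix I4 I4 F) with hE0
    set E1 : Matrix I4 I4 F := ((e 1 : GL I4 F) : Matrix I4 I4 F) with hE1
    set E2 : Matrix I4 I4 F := ((e 2 : GL I4 F) : Matrix I4 I4 F) with hE2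
    set E3 : Matrix I4 I4 F := ((e 3 : GL I4 F) : Matrix I4 I4 F) with hE3
    set E4 : Matrix I4 I4 F := ((e 4 : GL I4 F) : Matrix I4 I4 F) with hE4
    have s0 : E0 * E0 = 1 := he.sq 0
    have s1 : E1 * E1 = 1 := he.sq 1
    have s2 : E2 * E2 = 1 := he.sq 2
    have s3 : E3 * E3 = 1 := he.sq 3
    have s4 : E4 * E4 = 1 := he.sq 4
    have g0 : G * E0 = -(E0 * G) := ha 0
    have g1 : G * E1 = -(E1 * G) := ha 1
    have g2 : G * E2 = -(E2 * G) := ha 2
    have g3 : G * E3 = -(E3 * G) := ha 3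
    have g4 : G * E4 = -(E4 * G) := ha 4
    have a10 : E1 * E0 = -(E0 * E1) := he.anti 1 0 (by decide)
    have a20 : E2 * E0 = -(E0 * E2) := he.anti 2 0 (by decide)
    have a21 : E2 * E1 = -(E1 * E2) := he.anti 2 1 (by decide)
    have a30 : E3 * E0 = -(E0 * E3) := he.anti 3 0 (by decide)
    have a31 : E3 * E1 = -(E1 * E3) := he.anti 3 1 (by decide)
    have a32 : E3 * E2 = -(E2 * E3) := he.anti 3 2 (by decide)
    have a40 : E4 * E0 = -(E0 * E4) := he.anti 4 0 (by decide)
    have a41 : E4 * E1 = -(E1 * E4) := he.anti 4 1 (by decide)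
    have a42 : E4 * E2 = -(E2 * E4) := he.anti 4 2 (by decide)
    have a43 : E4 * E3 = -(E3 * E4) := he.anti 4 3 (by decide)
    -- the element c
    have hcR : e 0 * e 1 * e 2 * g ∈ R :=
      R.mul_mem (R.mul_mem (R.mul_mem (he.mem 0) (he.mem 1)) (he.mem 2)) hg
    have hcM : ((e 0 * e 1 * e 2 * g : GL I4 F) : Matrix I4 I4 F) = E0 * E1 * E2 * G := rfl
    have hcsq : (E0 * E1 * E2 * G) * (E0 * E1 * E2 * G) = 1 := by
      simp only [mul_assoc, g0, g1, g2, a10, a20, a21, s0, s1, s2, hsq,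
        a2e_anti' g0, a2e_anti' g1, a2e_anti' g2, a2e_anti' a10, a2e_anti' a20, a2e_anti' a21,
        a2e_sq' s0, a2e_sq' s1, a2e_sq' s2, a2e_sq' hsq, neg_mul, mul_neg, neg_neg, mul_one]
    have hc3 : (E0 * E1 * E2 * G) * E3 = E3 * (E0 * E1 * E2 * G) := by
      simp only [mul_assoc, g3, a30, a31, a32, a2e_anti' a30, a2e_anti' a31, a2e_anti' a32,
        neg_mul, mul_neg, neg_neg]
    have hc4 : (E0 * E1 * E2 * G) * E4 = E4 * (E0 * E1 * E2 * G) := by
      simp only [mul_assoc, g4, a40, a41, a42, a2e_anti' a40, a2e_anti' a41, a2e_anti' a42,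
        neg_mul, mul_neg, neg_neg]
    have hc0 : (E0 * E1 * E2 * G) * E0 = -(E0 * (E0 * E1 * E2 * G)) := by
      simp only [mul_assoc, g0, a10, a20, a2e_anti' a10, a2e_anti' a20, a2e_sq' s0,
        neg_mul, mul_neg, neg_neg]
    rcases hR.minus (e 0 * e 1 * e 2 * g) hcR (e 3) (he.mem 3) (by rw [hcM]; exact hcsq)
        (he.sq 3) (by rw [hcM]; exact hc3) with h | h | h
    · obtain ⟨k, hk⟩ := h
      rw [hcM] at hk
      refine a2e_false h2 hcsq s0 hc0 ?_
      rw [hk]; simp
    · exact hens 3 h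
    · obtain ⟨k, hk⟩ := h
      have hk' : (E0 * E1 * E2 * G) * E3 = k • (1 : Matrix I4 I4 F) := by
        rw [← hk]; rfl
      have hck : E0 * E1 * E2 * G = k • E3 := by
        calc E0 * E1 * E2 * G = (E0 * E1 * E2 * G) * (E3 * E3) := by rw [s3, mul_one]
          _ = ((E0 * E1 * E2 * G) * E3) * E3 := by simp only [mul_assoc]
          _ = k • E3 := by rw [hk']; simp
      refine a2e_false h2 hcsq s4 ?_ hc4
      rw [hck]
      rw [smul_mul_assoc, mul_smul_comm, ← smul_neg]
      congr 1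
      have : E3 * E4 = -(E4 * E3) := he.anti 3 4 (by decide)
      exact this

end Cfsg.Agent.Lib.Helper81.Q4
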