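import Mathlib
import Cfsg.Agent.Lib.Helper20.SuBNDefs
import Cfsg.Agent.Lib.Helper13.SuBNR2
import Cfsg.Agent.Lib.Helper82.SuBNCONJ

/-!
# SuBN-X1 (S2546 hive, owner helper20): the support of a root element.
-/

set_option autoImplicit false

namespace Cfsg.Agent.Lib.Helper20.SuBN

open Matrix Subgroup Cfsg.Agent.Lib.Helper20.PslF Cfsg.Agent.Lib.Helper20.SuF

variable {n : ℕ} {K : Type*} [Field K] [Fintype K] (F : SuF.Inv K)

/-- (copy of the assembly lemma `mt_sr`, from `det_srM`) -/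
theorem x1_mt_sr (i : Fin (n / 2)) : mt (sr F i) = monM (rr i) (sd F i) := by
  unfold sr
  rw [dif_pos (det_srM F i)]
  rfl

/-- (copy of the assembly lemma `sr_isMon`) -/
theorem x1_sr_isMon (i : Fin (n / 2)) : IsMon (sr F i) (rr i) := by
  intro a b hab
  rw [x1_mt_sr, monM_apply, if_neg hab]

/-- SuBN-X1. -/
theorem Xr_support (i : Fin (n / 2)) {x : SLn n K} (hx : x ∈ Xr F i) {a b : Fin n} (hab : a < b)
    (h : mt x a b ≠ 0) : rr i b < rr i a := by
  have hm := x1_sr_isMon F i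
  have hL := ((mem_Xr F i x).mp hx).2.2
  have hentry := conj_mon_entry hm x a b
  have h1 : mt (sr F i) (rr i a) a ≠ 0 := conj_entry_ne_zero hm a
  have h2 : mt (sr F i)⁻¹ b (rr i b) ≠ 0 := by
    intro h0
    have h3 := conj_inv_mul_entry hm b b
    rw [h0, zero_mul, Matrix.one_apply_eq] at h3
    exact zero_ne_one h3
  have h3 : mt (sr F i * x * (sr F i)⁻¹) (rr i a) (rr i b) ≠ 0 := by
    rw [hentry]
    exact mul_ne_zero (mul_ne_zero h1 h) h2
  have h4 : ¬ rr i a < rr i b := fun hlt => h3 (((mem_LL _).mp hL).1 _ _ hlt)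
  have h5 : rr i a ≠ rr i b := fun he => hab.ne ((rr i).injective he)
  exact lt_of_le_of_ne (not_lt.mp h4) (Ne.symm h5)

end Cfsg.Agent.Lib.Helper20.SuBN
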