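import Mathlib
import Cfsg.Agent.Lib.Helper20.SuBNDefs
import Cfsg.Agent.Lib.Helper59.SuBNX1

/-!
# SuBN-Y2 core (S2546 hive, owner helper20): the conjugate `sr i * x * (sr i)⁻¹` of a root element is
block triangular, with `bk_of_inversion` (leaf SuBN-P3) as a hypothesis.
-/

set_option autoImplicit false

namespace Cfsg.Agent.Lib.Helper20.SuBN

open Matrix Subgroup Cfsg.Agent.Lib.Helper20.PslF Cfsg.Agent.Lib.Helper20.SuF

variable {n : ℕ} {K : Type*} [Field K] [Fintype K] (F : SuF.Inv K)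

/-- SuBN-Y2 with SuBN-P3 `bk_of_inversion` as hypothesis `hP3`. -/
theorem y2_core (i : Fin (n / 2))
    (hP3 : ∀ {a b : Fin n}, a < b → rr i b < rr i a → bk i (rr i a) = bk i (rr i b))
    {x : SLn n K} (hx : x ∈ Xr F i) (a b : Fin n)
    (h : bk i b < bk i a) : mt (sr F i * x * (sr F i)⁻¹) a b = 0 := by
  have hm := x1_sr_isMon F i
  have hU := ((mem_Xr F i x).mp hx).1
  set a' : Fin n := (rr i)⁻¹ a with ha'
  set b' : Fin n := (rr i)⁻¹ b with hb'
  have haa : rr i a' = a := by simp [ha']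
  have hbb : rr i b' = b := by simp [hb']
  have hentry := conj_mon_entry hm x a' b'
  rw [haa, hbb] at hentry
  by_contra hne
  rw [hentry] at hne
  have hx0 : mt x a' b' ≠ 0 := by
    intro h0
    apply hne
    rw [h0, mul_zero, zero_mul]
  -- `a' ≤ b'` as `x` is upper triangular
  have hle : ¬ b' < a' := fun hlt => hx0 (((mem_UU x).mp hU).1 a' b' hlt)
  have hne' : a' ≠ b' := by
    intro he
    have : a = b := by rw [← haa, ← hbb, he]
    rw [this] at h
    exact lt_irrefl _ h
  have hlt : a' < b' := lt_of_le_of_ne (not_lt.mp hle) hne'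
  have hinv : rr i b' < rr i a' := Xr_support F i hx hlt hx0
  have hbk := hP3 hlt hinv
  rw [haa, hbb] at hbk
  rw [hbk] at h
  exact lt_irrefl _ h

end Cfsg.Agent.Lib.Helper20.SuBN
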