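import Mathlib
import Cfsg.Agent.Lib.Helper20.SuBNDefs
import Cfsg.Agent.Lib.Helper59.SuBNY2core
import Cfsg.Agent.Lib.Helper39.SuBNP3

/-!
# SuBN-Y2 (S2546 hive, owner helper20): the conjugate `sr i * x * (sr i)⁻¹` of a root element is
block triangular (`y2_core` + `bk_of_inversion`).
-/

set_option autoImplicit false

namespace Cfsg.Agent.Lib.Helper20.SuBN

open Matrix Subgroup Cfsg.Agent.Lib.Helper20.PslF Cfsg.Agent.Lib.Helper20.SuF

variable {n : ℕ} {K : Type*} [Field K] [Fintype K] (F : SuF.Inv K)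

/-- SuBN-Y2. -/
theorem sr_conj_block (i : Fin (n / 2)) {x : SLn n K} (hx : x ∈ Xr F i) (a b : Fin n)
    (h : bk i b < bk i a) : mt (sr F i * x * (sr F i)⁻¹) a b = 0 :=
  y2_core F i (fun hab h' => bk_of_inversion i hab h') hx a b h

end Cfsg.Agent.Lib.Helper20.SuBN
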