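import Mathlib
import Cfsg.Agent.Lib.Helper81.Q4Defs
import Cfsg.Agent.Lib.Helper60.P4A1A

/-! # S6002 hive (helper81), leaf Q4-A1: abstract structure of the symplectic-type group of
order 32, exponent 4, centre of order 2 (= helper60's P4-A1A proof with 32/2; reuses
`Cfsg.Agent.Lib.Helper14.P4.a1a_cyclic`). -/

set_option autoImplicit false
set_option linter.style.haveILetI false

namespace Cfsg.Agent.Lib.Helper81.Q4

open scoped commutatorElement

/-- Q4-A1 (= P4-A1A with 32/2). -/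
theorem abstract_structure32 {G : Type*} [Group G] [Finite G] (hG : IsPGroup 2 G)
    (hsymp : ∀ A : Subgroup G, A.Characteristic → IsMulCommutative A → IsCyclic A)
    (hexp : Monoid.exponent G = 4) (hcard : Nat.card G = 32)
    (hZ : Nat.card (Subgroup.center G) = 2) (g h : G) :
    g * h * g⁻¹ * h⁻¹ ∈ Subgroup.center G ∧ (g * h * g⁻¹ * h⁻¹) ^ 2 = 1 ∧
      g ^ 2 ∈ Subgroup.center G := by
  haveI : Fact (Nat.Prime 2) := ⟨Nat.prime_two⟩
  have hexp4 : ∀ g : G, g ^ 4 = 1 := fun g => by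
    rw [← hexp]; exact Monoid.pow_exponent_eq_one g
  obtain ⟨E, R, hcomm, hsup, hE, hR⟩ := Cfsg.Agent.S3762.result hG hsymp
  have hRc : IsCyclic R := Cfsg.Agent.Lib.Helper14.P4.a1a_cyclic hexp4 R hR
  -- `R` is central
  have hRZ : R ≤ Subgroup.center G := by
    intro r hr
    rw [Subgroup.mem_center_iff]
    have hle : E ⊔ R ≤ Subgroup.centralizer ({r} : Set G) := by
      apply sup_le
      · intro e he
        rw [Subgroup.mem_centralizer_iff]
        intro x hx
        rw [Set.mem_singleton_iff.mp hx]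
        exact (hcomm e he r hr).symm
      · intro s hs
        rw [Subgroup.mem_centralizer_iff]
        intro x hx
        rw [Set.mem_singleton_iff.mp hx]
        obtain ⟨t, ht⟩ := hRc.exists_generator
        obtain ⟨a, ha⟩ := Subgroup.mem_zpowers_iff.mp (ht ⟨r, hr⟩)
        obtain ⟨b, hb⟩ := Subgroup.mem_zpowers_iff.mp (ht ⟨s, hs⟩)
        have h1 : r = (t : G) ^ a := by
          have := congrArg Subtype.val ha
          simpa using this.symm
        have h2 : s = (t : G) ^ b := by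
          have := congrArg Subtype.val hb
          simpa using this.symm
        rw [h1, h2]
        exact ((Commute.refl (t : G)).zpow_zpow a b).eq
    intro x
    have hx : x ∈ Subgroup.centralizer ({r} : Set G) := hle (hsup ▸ Subgroup.mem_top x)
    exact (Subgroup.mem_centralizer_iff.mp hx r rfl).symm
  haveI hRn : R.Normal := by
    refine ⟨fun n hn g => ?_⟩
    have h1 : g * n = n * g := Subgroup.mem_center_iff.mp (hRZ hn) g
    have h2 : g * n * g⁻¹ = n := by rw [h1, mul_inv_cancel_right]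
    rw [h2]; exact hn
  -- `E` is not trivial
  have hE1 : E ≠ ⊥ := by
    rintro rfl
    rw [bot_sup_eq] at hsup
    have : Subgroup.center G = ⊤ := top_le_iff.mp (hsup ▸ hRZ)
    rw [this, Subgroup.card_top, hcard] at hZ
    omega
  obtain ⟨⟨-, hfr, hco⟩, hcE⟩ := hE.resolve_left hE1
  -- the centre of `E` is central in `G` and has exponent `2`
  have hZE : ∀ z : ↥E, z ∈ Subgroup.center ↥E → (z : G) ∈ Subgroup.center G ∧ (z : G) ^ 2 = 1 := by
    intro z hz
    constructor
    · rw [Subgroup.mem_center_iff]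
      intro x
      obtain ⟨e, he, r, hr, rfl⟩ := Subgroup.mem_sup_of_normal_right.mp
        (show x ∈ E ⊔ R from hsup ▸ Subgroup.mem_top x)
      have h1 : e * (z : G) = (z : G) * e := by
        have := Subgroup.mem_center_iff.mp hz ⟨e, he⟩
        simpa using congrArg Subtype.val this
      have h2 : r * (z : G) = (z : G) * r := (hcomm z z.2 r hr).symm
      calc e * r * (z : G) = e * ((z : G) * r) := by rw [mul_assoc, h2]
        _ = (e * (z : G)) * r := by rw [mul_assoc]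
        _ = (z : G) * (e * r) := by rw [h1, mul_assoc]
    · have h1 : (⟨z, hz⟩ : ↥(Subgroup.center ↥E)) ^ Nat.card ↥(Subgroup.center ↥E) = 1 :=
        pow_card_eq_one'
      rw [hcE] at h1
      have := congrArg (fun w : ↥(Subgroup.center ↥E) => ((w : ↥E) : G)) h1
      simpa using this
  -- decompose `g` and `h`
  obtain ⟨e, he, r, hr, rfl⟩ := Subgroup.mem_sup_of_normal_right.mp
    (show g ∈ E ⊔ R from hsup ▸ Subgroup.mem_top g)
  obtain ⟨e', he', r', hr', rfl⟩ := Subgroup.mem_sup_of_normal_right.mp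
    (show h ∈ E ⊔ R from hsup ▸ Subgroup.mem_top h)
  have hrc : ∀ x : G, r * x = x * r := fun x => (Subgroup.mem_center_iff.mp (hRZ hr) x).symm
  have hrc' : ∀ x : G, r' * x = x * r' := fun x => (Subgroup.mem_center_iff.mp (hRZ hr') x).symm
  have hcommEq : e * r * (e' * r') * (e * r)⁻¹ * (e' * r')⁻¹ = e * e' * e⁻¹ * e'⁻¹ := by
    have h1 : e * r * (e' * r') = e * e' * (r * r') := by
      rw [mul_assoc e r, ← mul_assoc r e' r', hrc e', mul_assoc e' r r', ← mul_assoc e e']
    have h2 : (e * r)⁻¹ = r⁻¹ * e⁻¹ := mul_inv_rev e r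
    have h3 : (e' * r')⁻¹ = r'⁻¹ * e'⁻¹ := mul_inv_rev e' r'
    have hri : ∀ x : G, r⁻¹ * x = x * r⁻¹ := fun x =>
      (Subgroup.mem_center_iff.mp (Subgroup.inv_mem _ (hRZ hr)) x).symm
    have hri' : ∀ x : G, r'⁻¹ * x = x * r'⁻¹ := fun x =>
      (Subgroup.mem_center_iff.mp (Subgroup.inv_mem _ (hRZ hr')) x).symm
    rw [h1, h2, h3]
    calc e * e' * (r * r') * (r⁻¹ * e⁻¹) * (r'⁻¹ * e'⁻¹)
        = e * e' * (r * r' * r⁻¹) * e⁻¹ * (r'⁻¹ * e'⁻¹) := by group
      _ = e * e' * r' * e⁻¹ * (r'⁻¹ * e'⁻¹) := by rw [hrc r']; group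
      _ = e * e' * e⁻¹ * (r' * r'⁻¹) * e'⁻¹ := by rw [mul_assoc (e * e') r' e⁻¹, hrc' e⁻¹]; group
      _ = e * e' * e⁻¹ * e'⁻¹ := by group
  have hcE' : (⁅(⟨e, he⟩ : ↥E), ⟨e', he'⟩⁆ : ↥E) ∈ Subgroup.center ↥E := by
    rw [← hco, commutator_def]
    exact Subgroup.commutator_mem_commutator (Subgroup.mem_top _) (Subgroup.mem_top _)
  have hval : ((⁅(⟨e, he⟩ : ↥E), ⟨e', he'⟩⁆ : ↥E) : G) = e * e' * e⁻¹ * e'⁻¹ := by
    rw [commutatorElement_def]
    simp
  obtain ⟨hc1, hc2⟩ := hZE _ hcE'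
  rw [hval] at hc1 hc2
  refine ⟨by rw [hcommEq]; exact hc1, by rw [hcommEq]; exact hc2, ?_⟩
  -- squares
  have hsq : (e * r) ^ 2 = e ^ 2 * r ^ 2 := by
    rw [pow_two, pow_two, pow_two, mul_assoc e r, ← mul_assoc r e r, hrc e]; group
  rw [hsq]
  apply Subgroup.mul_mem
  · have h1 : (⟨e, he⟩ : ↥E) ^ 2 ∈ frattini ↥E :=
      Cfsg.Agent.Lib.Helper2.pow_mem_frattini (hG.to_subgroup E) ⟨e, he⟩
    rw [hfr] at h1
    have := (hZE _ h1).1
    simpa using this
  · exact Subgroup.pow_mem _ (hRZ hr) 2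

end Cfsg.Agent.Lib.Helper81.Q4
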