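import Mathlib
import Cfsg.Agent.Lib.Helper81.Mi.Defs
import Cfsg.Agent.Lib.Helper43.MiTV1

/-!
# Mi hive (S2140, owner helper81), sub-hive MI-DS (owner helper59): definitions

`dsTau x ψ : φ ↦ φ - x φ • ψ`, `dsM lam x = ker (lam ∘ x)`, `dsPhi F n = {φ | φ ⬝ᵥ e0 = 0}`,
`dsA H ω = {φ ∈ dsPhi | T(e0, φ) fixes the coset ω}`.
-/

set_option autoImplicit false

namespace Cfsg.Agent.Lib.Helper81.Mi

open Matrix

section abstract

variable {F V : Type*} [Field F] [AddCommGroup V] [Module F V]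

/-- the additive map `φ ↦ φ - x φ • ψ` (a transvection of `V` when `x ψ = 0`). -/
def dsTau (x : Module.Dual F V) (ψ : V) : V →+ V :=
  AddMonoidHom.mk' (fun φ => φ - x φ • ψ) (by
    intro a b
    simp only [map_add, add_smul]
    abel)

theorem dsTau_apply (x : Module.Dual F V) (ψ φ : V) : dsTau x ψ φ = φ - x φ • ψ := rfl

/-- `M_x = {φ | lam (x φ) = 0}`. -/
def dsM {p : ℕ} (lam : F →+ ZMod p) (x : Module.Dual F V) : AddSubgroup V :=
  (lam.comp (x : V →ₗ[F] F).toAddMonoidHom).ker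

theorem mem_dsM {p : ℕ} (lam : F →+ ZMod p) (x : Module.Dual F V) (φ : V) :
    φ ∈ dsM lam x ↔ lam (x φ) = 0 := by
  unfold dsM
  rw [AddMonoidHom.mem_ker]
  rfl

end abstract

section concrete

variable {F : Type*} [Field F] {n : ℕ}

/-- the covectors vanishing at `e0`. -/
def dsPhi (F : Type*) [Field F] (n : ℕ) : Submodule F (Fin n → F) where
  carrier := {φ | φ ⬝ᵥ e0 F n = 0}
  add_mem' := by
    intro a b ha hb
    simp only [Set.mem_setOf_eq] at ha hb ⊢
    rw [add_dotProduct, ha, hb, add_zero]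
  zero_mem' := by
    simp only [Set.mem_setOf_eq]
    exact zero_dotProduct _
  smul_mem' := by
    intro c a ha
    simp only [Set.mem_setOf_eq] at ha ⊢
    rw [smul_dotProduct, ha, smul_zero]

theorem mem_dsPhi (φ : Fin n → F) : φ ∈ dsPhi F n ↔ φ ⬝ᵥ e0 F n = 0 := Iff.rfl

/-- `A_ω`: the covectors `φ ⊥ e0` such that `T(e0, φ)` fixes the coset `ω`. -/
def dsA (H : Subgroup (SLn n F)) (ω : SLn n F ⧸ H) : AddSubgroup (dsPhi F n) where
  carrier := {φ | tv (e0 F n) (φ : Fin n → F) • ω = ω}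
  zero_mem' := by
    simp only [Set.mem_setOf_eq, ZeroMemClass.coe_zero]
    rw [tv_zero_right, one_smul]
  add_mem' := by
    intro a b ha hb
    simp only [Set.mem_setOf_eq] at ha hb ⊢
    rw [Submodule.coe_add, ← tv_mul _ _ _ a.2 b.2, mul_smul, hb, ha]
  neg_mem' := by
    intro a ha
    simp only [Set.mem_setOf_eq] at ha ⊢
    rw [Submodule.coe_neg, ← tv_inv, inv_smul_eq_iff, ha]

theorem mem_dsA (H : Subgroup (SLn n F)) (ω : SLn n F ⧸ H) (φ : dsPhi F n) :
    φ ∈ dsA H ω ↔ tv (e0 F n) (φ : Fin n → F) • ω = ω := Iff.rfl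

end concrete

end Cfsg.Agent.Lib.Helper81.Mi
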