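import Mathlib

/-!
# S1936, step (2): two subgroups with cyclic quotients of the abelian Hall subgroup `A` meet nontrivially

Abstract version: `A` a nontrivial finite group of exponent dividing `p - 1`, of order `≡ 1 mod p`.
If two homomorphisms of `A` into finite cyclic groups have no common nontrivial kernel element, then
`|A| = (p - 1) ^ 2` and `A` has at least one and at most three involutions.  A `p`-group (`p ≥ 5`)
acting on `A` then fixes an involution.
-/

set_option autoImplicit false

namespace Cfsg.Agent.Lib.Helper59.S1936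

open Subgroup

/-- In a finite cyclic group the equation `x ^ 2 = 1` has at most two solutions. -/
theorem k2_card_sq_eq_one_le {C : Type*} [Group C] [Finite C] [IsCyclic C] :
    Nat.card {x : C // x ^ 2 = 1} ≤ 2 := by
  classical
  have := Fintype.ofFinite C
  have h := IsCyclic.card_pow_eq_one_le (α := C) (n := 2) (by norm_num)
  rw [Nat.card_eq_fintype_card, Fintype.card_subtype]
  exact h

/-- Arithmetic: a divisor `a ≠ 1` of `(p - 1) ^ 2` with `a ≡ 1 mod p` is `(p - 1) ^ 2`. -/
theorem k2_arith (p a : ℕ) (hp : 2 ≤ p) (ha : a ∣ (p - 1) ^ 2) (ha1 : a % p = 1) (hne : a ≠ 1) :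
    a = (p - 1) ^ 2 := by
  obtain ⟨q, rfl⟩ : ∃ q, p = q + 1 := ⟨p - 1, by omega⟩
  simp only [Nat.add_sub_cancel] at ha ⊢
  obtain ⟨e, he⟩ := ha
  -- a = (q+1) k + 1 with k ≥ 1
  obtain ⟨k, hk⟩ : ∃ k, a = (q + 1) * k + 1 := ⟨a / (q + 1), by
    have := Nat.div_add_mod a (q + 1); rw [ha1] at this; omega⟩
  have hk1 : 1 ≤ k := by
    rcases Nat.eq_zero_or_pos k with h | h
    · subst h; simp at hk; exact absurd hk hne
    · exact h
  -- e % (q+1) = 1
  have hq2 : q ^ 2 % (q + 1) = 1 := by
    have : q ^ 2 = (q + 1) * (q - 1) + 1 := by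
      obtain ⟨r, rfl⟩ : ∃ r, q = r + 1 := ⟨q - 1, by omega⟩
      simp only [Nat.add_sub_cancel]; ring
    rw [this, Nat.mul_add_mod]; exact Nat.mod_eq_of_lt (by omega)
  have he1 : e % (q + 1) = 1 := by
    have h1 : (a * e) % (q + 1) = 1 := by rw [← he]; exact hq2
    have h2 : (a * e) % (q + 1) = (e % (q + 1)) % (q + 1) := by
      rw [Nat.mul_mod, ha1, one_mul]
    rw [h2, Nat.mod_mod] at h1; exact h1
  obtain ⟨l, hl⟩ : ∃ l, e = (q + 1) * l + 1 := ⟨e / (q + 1), by
    have := Nat.div_add_mod e (q + 1); rw [he1] at this; omega⟩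
  rcases Nat.eq_zero_or_pos l with h | h
  · subst h; simp at hl; subst hl; simp at he; exact he.symm
  · exfalso
    have h1 : q + 2 ≤ a := by rw [hk]; nlinarith
    have h2 : q + 2 ≤ e := by rw [hl]; nlinarith
    have : (q + 2) * (q + 2) ≤ a * e := Nat.mul_le_mul h1 h2
    nlinarith

/-- The range of a homomorphism from a group of exponent dividing `n` into a finite cyclic group has
order dividing `n`. -/
theorem k2_card_range_dvd {A C : Type*} [Group A] [Group C] [Finite C] [IsCyclic C] (n : ℕ)
    (hexp : ∀ x : A, x ^ n = 1) (f : A →* C) : Nat.card f.range ∣ n := by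
  have hcyc : IsCyclic f.range := inferInstance
  rw [← IsCyclic.exponent_eq_card]
  apply Monoid.exponent_dvd_of_forall_pow_eq_one
  rintro ⟨y, x, rfl⟩
  ext
  simp [← map_pow, hexp]

/-- Core of step (2), abstract form. -/
theorem k2_abstract {A C C' : Type*} [Group A] [Finite A] [Nontrivial A]
    [Group C] [Finite C] [IsCyclic C] [Group C'] [Finite C'] [IsCyclic C']
    (p : ℕ) [hp : Fact p.Prime] (hp2 : p ≠ 2)
    (hcard : Nat.card A % p = 1)
    (f : A →* C) (f' : A →* C') (hr : Nat.card f.range ∣ p - 1) (hr' : Nat.card f'.range ∣ p - 1)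
    (hno : ∀ c : A, f c = 1 → f' c = 1 → c = 1) :
    1 ≤ Nat.card {x : A // x ≠ 1 ∧ x ^ 2 = 1} ∧ Nat.card {x : A // x ≠ 1 ∧ x ^ 2 = 1} ≤ 3 := by
  classical
  have hpp := hp.out
  -- the product map is injective
  let g : A →* f.range × f'.range := f.rangeRestrict.prod f'.rangeRestrict
  have hg : Function.Injective g := by
    rw [injective_iff_map_eq_one]
    intro c hc
    have h1 : f.rangeRestrict c = 1 := congrArg Prod.fst hc
    have h2 : f'.rangeRestrict c = 1 := congrArg Prod.snd hc
    exact hno c (by simpa using congrArg Subtype.val h1) (by simpa using congrArg Subtype.val h2)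
  -- |A| divides (p-1)^2
  have hdvd : Nat.card A ∣ (p - 1) ^ 2 := by
    have h1 : Nat.card A ∣ Nat.card (f.range × f'.range) := by
      have := Subgroup.card_subgroup_dvd_card g.range
      rwa [Nat.card_congr (MonoidHom.ofInjective hg).toEquiv.symm] at this
    rw [Nat.card_prod] at h1
    refine h1.trans ?_
    rw [pow_two]
    exact Nat.mul_dvd_mul hr hr'
  have hne1 : Nat.card A ≠ 1 := by
    intro h
    have := (Nat.card_eq_one_iff_unique.mp h).1
    exact not_subsingleton A this
  have hcardA : Nat.card A = (p - 1) ^ 2 := k2_arith p _ hpp.two_le hdvd hcard hne1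
  constructor
  · -- an involution exists
    have h2 : 2 ∣ Nat.card A := by
      rw [hcardA]
      have hodd : Odd p := hpp.odd_of_ne_two hp2
      obtain ⟨m, hm⟩ := hodd
      have : p - 1 = 2 * m := by omega
      rw [this]; exact ⟨2 * m * m, by ring⟩
    obtain ⟨x, hx⟩ := exists_prime_orderOf_dvd_card' (G := A) 2 h2
    have hx1 : x ≠ 1 := by
      intro h; rw [h, orderOf_one] at hx; norm_num at hx
    have hx2 : x ^ 2 = 1 := by rw [← hx]; exact pow_orderOf_eq_one x
    exact Nat.one_le_iff_ne_zero.mpr (by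
      have : Nonempty {x : A // x ≠ 1 ∧ x ^ 2 = 1} := ⟨⟨x, hx1, hx2⟩⟩
      exact Nat.card_pos.ne')
  · -- at most three involutions: inject {x // x^2 = 1} into the product of the two 2-torsion sets
    have hT : Nat.card {x : A // x ^ 2 = 1} ≤ 4 := by
      let φ : {x : A // x ^ 2 = 1} → {u : f.range // u ^ 2 = 1} × {v : f'.range // v ^ 2 = 1} :=
        fun x => (⟨f.rangeRestrict x.1, by rw [← map_pow, x.2, map_one]⟩,
                  ⟨f'.rangeRestrict x.1, by rw [← map_pow, x.2, map_one]⟩)
      have hφ : Function.Injective φ := by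
        intro x y hxy
        apply Subtype.ext
        apply hg
        have h1 := congrArg (fun z => (z.1.1 : f.range)) hxy
        have h2 := congrArg (fun z => (z.2.1 : f'.range)) hxy
        exact Prod.ext h1 h2
      calc Nat.card {x : A // x ^ 2 = 1}
          ≤ Nat.card ({u : f.range // u ^ 2 = 1} × {v : f'.range // v ^ 2 = 1}) :=
            Nat.card_le_card_of_injective φ hφ
        _ = Nat.card {u : f.range // u ^ 2 = 1} * Nat.card {v : f'.range // v ^ 2 = 1} :=
            Nat.card_prod _ _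
        _ ≤ 2 * 2 := Nat.mul_le_mul k2_card_sq_eq_one_le k2_card_sq_eq_one_le
    -- involutions = 2-torsion minus identity
    have hI : Nat.card {x : A // x ≠ 1 ∧ x ^ 2 = 1} + 1 ≤ Nat.card {x : A // x ^ 2 = 1} := by
      let ψ : Option {x : A // x ≠ 1 ∧ x ^ 2 = 1} → {x : A // x ^ 2 = 1} := fun o =>
        match o with
        | none => ⟨1, one_pow 2⟩
        | some x => ⟨x.1, x.2.2⟩
      have hψ : Function.Injective ψ := by
        intro a b hab
        match a, b with
        | none, none => rfl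
        | none, some y =>
          have h : (ψ none).1 = (ψ (some y)).1 := congrArg Subtype.val hab
          exact absurd h.symm y.2.1
        | some x, none =>
          have h : (ψ (some x)).1 = (ψ none).1 := congrArg Subtype.val hab
          exact absurd h x.2.1
        | some x, some y =>
          have h : (ψ (some x)).1 = (ψ (some y)).1 := congrArg Subtype.val hab
          exact congrArg some (Subtype.ext h)
      have := Nat.card_le_card_of_injective ψ hψ
      rwa [Finite.card_option] at this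
    omega


/-- The conjugation action of a subgroup `S ≤ N_G(A)` on `A`. -/
@[reducible] def k2_act {G : Type*} [Group G] (A S : Subgroup G)
    (hSA : S ≤ normalizer (A : Set G)) : MulAction S A where
  smul s a := ⟨s.1 * a.1 * s.1⁻¹, ((mem_normalizer_iff.mp (hSA s.2)) a.1).mp a.2⟩
  one_smul a := by ext; change (1 : G) * a.1 * (1 : G)⁻¹ = a.1; simp
  mul_smul s t a := by
    ext; change (s.1 * t.1) * a.1 * (s.1 * t.1)⁻¹ = s.1 * (t.1 * a.1 * t.1⁻¹) * s.1⁻¹
    simp [mul_assoc]

/-- **Step (2) of the S1936 finish.**  Let `A ≠ 1` be a subgroup of exponent dividing `p - 1` (`p ≥ 5`)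
and `S ≤ N_G(A)` a `p`-subgroup with `C_A(S) = 1`.  Then any two homomorphisms of `A` into finite
cyclic groups have a common nontrivial kernel element. -/
theorem k2_kernels_meet_of_range {G C C' : Type*} [Group G] [Finite G]
    [Group C] [Finite C] [IsCyclic C] [Group C'] [Finite C'] [IsCyclic C']
    (p : ℕ) [hp : Fact p.Prime] (hp5 : 5 ≤ p) (A S : Subgroup G) (hA1 : A ≠ ⊥)
    (hS : IsPGroup p S) (hSA : S ≤ normalizer (A : Set G))
    (hfix : ∀ x ∈ A, (∀ s ∈ S, s * x * s⁻¹ = x) → x = 1)
    (f : A →* C) (f' : A →* C') (hr : Nat.card f.range ∣ p - 1) (hr' : Nat.card f'.range ∣ p - 1) :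
    ∃ c : A, c ≠ 1 ∧ f c = 1 ∧ f' c = 1 := by
  classical
  by_contra hcon
  have hno : ∀ c : A, f c = 1 → f' c = 1 → c = 1 := by
    intro c h1 h2
    by_contra hc
    exact hcon ⟨c, hc, h1, h2⟩
  have hnt : Nontrivial A := (Subgroup.nontrivial_iff_ne_bot A).mpr hA1
  let act : MulAction S A := k2_act A S hSA
  have hsmul : ∀ (s : S) (a : A), ((s • a : A) : G) = s.1 * a.1 * s.1⁻¹ := fun _ _ => rfl
  -- fixed points of S on A are trivial
  have hfp : ∀ a : A, a ∈ MulAction.fixedPoints S A → a = 1 := by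
    intro a ha
    apply Subtype.ext
    apply hfix a.1 a.2
    intro s hs
    have := ha ⟨s, hs⟩
    have h2 := congrArg Subtype.val this
    rwa [hsmul] at h2
  have hcardfp : Nat.card (MulAction.fixedPoints S A) = 1 := by
    rw [Nat.card_eq_one_iff_unique]
    refine ⟨⟨fun x y => ?_⟩, ⟨⟨1, fun s => ?_⟩⟩⟩
    · apply Subtype.ext; rw [hfp x.1 x.2, hfp y.1 y.2]
    · apply Subtype.ext; rw [hsmul]; simp
  have hcard : Nat.card A % p = 1 := by
    have h := hS.card_modEq_card_fixedPoints A
    rw [hcardfp] at h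
    have : Nat.card A % p = 1 % p := h
    rwa [Nat.mod_eq_of_lt (by omega : 1 < p)] at this
  obtain ⟨hI1, hI3⟩ := k2_abstract p (by omega) hcard f f' hr hr' hno
  -- S acts on the involutions of A without fixed points
  let I := {x : A // x ≠ 1 ∧ x ^ 2 = 1}
  let actI : MulAction S I :=
    { smul := fun s x => ⟨s • x.1, by
        refine ⟨fun h => x.2.1 ?_, ?_⟩
        · have h2 := congrArg Subtype.val h
          rw [hsmul] at h2
          apply Subtype.ext
          have : x.1.1 = s.1⁻¹ * 1 * s.1 := by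
            rw [show ((1 : A) : G) = 1 from rfl] at h2; rw [← h2]; group
          simpa using this
        · apply Subtype.ext
          have hx2 : x.1.1 ^ 2 = 1 := by simpa using congrArg Subtype.val x.2.2
          change (s.1 * x.1.1 * s.1⁻¹) ^ 2 = 1
          rw [conj_pow, hx2]; simp⟩
      one_smul := fun x => Subtype.ext (one_smul S x.1)
      mul_smul := fun s t x => Subtype.ext (mul_smul s t x.1) }
  have hIfp : Nat.card (MulAction.fixedPoints S I) = 0 := by
    have : IsEmpty (MulAction.fixedPoints S I) := by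
      refine ⟨fun x => x.1.2.1 (hfp x.1.1 ?_)⟩
      intro s
      exact congrArg Subtype.val (x.2 s)
    exact Nat.card_of_isEmpty
  have h := hS.card_modEq_card_fixedPoints I
  rw [hIfp] at h
  have hdvd : p ∣ Nat.card {x : A // x ≠ 1 ∧ x ^ 2 = 1} := (Nat.modEq_zero_iff_dvd).mp h
  have := Nat.le_of_dvd (by omega) hdvd
  omega


/-- Version with the exponent hypothesis on `A`. -/
theorem k2_kernels_meet {G C C' : Type*} [Group G] [Finite G]
    [Group C] [Finite C] [IsCyclic C] [Group C'] [Finite C'] [IsCyclic C']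
    (p : ℕ) [hp : Fact p.Prime] (hp5 : 5 ≤ p) (A S : Subgroup G) (hA1 : A ≠ ⊥)
    (hexp : ∀ x ∈ A, x ^ (p - 1) = 1) (hS : IsPGroup p S) (hSA : S ≤ normalizer (A : Set G))
    (hfix : ∀ x ∈ A, (∀ s ∈ S, s * x * s⁻¹ = x) → x = 1)
    (f : A →* C) (f' : A →* C') : ∃ c : A, c ≠ 1 ∧ f c = 1 ∧ f' c = 1 := by
  have hexp' : ∀ x : A, x ^ (p - 1) = 1 := fun x => Subtype.ext (by simpa using hexp x.1 x.2)
  exact k2_kernels_meet_of_range p hp5 A S hA1 hS hSA hfix f f'
    (k2_card_range_dvd _ hexp' f) (k2_card_range_dvd _ hexp' f')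

/-- Version for characters with values in `(ZMod p)ˣ`. -/
theorem k2_kernels_meet_zmod {G : Type*} [Group G] [Finite G]
    (p : ℕ) [hp : Fact p.Prime] (hp5 : 5 ≤ p) (A S : Subgroup G) (hA1 : A ≠ ⊥)
    (hS : IsPGroup p S) (hSA : S ≤ normalizer (A : Set G))
    (hfix : ∀ x ∈ A, (∀ s ∈ S, s * x * s⁻¹ = x) → x = 1)
    (f f' : A →* (ZMod p)ˣ) : ∃ c : A, c ≠ 1 ∧ f c = 1 ∧ f' c = 1 := by
  have hcardU : Nat.card (ZMod p)ˣ = p - 1 := by
    rw [Nat.card_eq_fintype_card, ZMod.card_units_eq_totient, Nat.totient_prime hp.out]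
  refine k2_kernels_meet_of_range p hp5 A S hA1 hS hSA hfix f f' ?_ ?_
  · rw [← hcardU]; exact Subgroup.card_subgroup_dvd_card _
  · rw [← hcardU]; exact Subgroup.card_subgroup_dvd_card _

end Cfsg.Agent.Lib.Helper59.S1936
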