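import Mathlib
import Cfsg.Prelude.Def_GeometricClasses

/-!
# SPT-T2 (S5980 hive, owner helper31): `2 b ≤ rank (A ⊗ B - c)` when `v, A v, A² v` are independent
and `B` is invertible.

With dual functionals `φ₁, φ₂` (`φ_i (A^j v) = δ_ij`), `L = [φ₁; φ₂] ⊗ 1`, `R = [v, A v] ⊗ B⁻¹`:
`L (A ⊗ B - c) R = 1 - c (N ⊗ B⁻¹)` with `N = [[0,1],[0,0]]`, `N² = 0`, which is invertible.
-/

set_option autoImplicit false
open scoped MatrixGroups Kronecker
open Matrix Polynomial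

namespace Cfsg.Agent.Lib.Helper31.SpTns

universe v

variable {F : Type v} [Field F]

/-- dual functionals for an independent triple. -/
theorem t2_exists_dual {a : ℕ} (w : Fin 3 → (Fin a → F)) (hw : LinearIndependent F w) :
    ∃ Φ : Matrix (Fin 3) (Fin a) F, ∀ i j, Φ i ⬝ᵥ w j = if i = j then 1 else 0 := by
  classical
  have hinj := hw.fintypeLinearCombination_injective
  obtain ⟨g, hg⟩ := LinearMap.exists_leftInverse_of_injective (Fintype.linearCombination F w)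
    (LinearMap.ker_eq_bot.mpr hinj)
  refine ⟨LinearMap.toMatrix' g, fun i j => ?_⟩
  have h1 : (LinearMap.toMatrix' g) *ᵥ (w j) = g (w j) := by
    rw [← Matrix.toLin'_apply, Matrix.toLin'_toMatrix']
  have h2 : g (w j) = Pi.single j 1 := by
    have h3 : Fintype.linearCombination F w (Pi.single j 1) = w j := by
      simp [Fintype.linearCombination_apply, Pi.single_apply]
    rw [← h3]
    exact LinearMap.congr_fun hg (Pi.single j 1)
  have h4 : (LinearMap.toMatrix' g) i ⬝ᵥ w j = ((LinearMap.toMatrix' g) *ᵥ (w j)) i := rfl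
  rw [h4, h1, h2, Pi.single_apply]

/-- SPT-T2. -/
theorem le_rank_kronecker_sub_two {a b : ℕ} (A : Matrix (Fin a) (Fin a) F)
    (B : Matrix (Fin b) (Fin b) F) (v : Fin a → F)
    (hv : LinearIndependent F ![v, A *ᵥ v, A *ᵥ (A *ᵥ v)]) (hB : IsUnit B.det) (c : F) :
    2 * b ≤ (A ⊗ₖ B - c • (1 : Matrix (Fin a × Fin b) (Fin a × Fin b) F)).rank := by
  classical
  obtain ⟨Φ3, hΦ3⟩ := t2_exists_dual _ hv
  -- rows φ₁, φ₂ and columns v, A v
  let Φ : Matrix (Fin 2) (Fin a) F := Matrix.of ![Φ3 1, Φ3 2]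
  let V : Matrix (Fin a) (Fin 2) F := (Matrix.of ![v, A *ᵥ v])ᵀ
  let N : Matrix (Fin 2) (Fin 2) F := !![0, 1; 0, 0]
  have hΦ0 : (Matrix.of ![Φ3 1, Φ3 2] : Matrix (Fin 2) (Fin a) F) 0 = Φ3 1 := rfl
  have hΦ1 : (Matrix.of ![Φ3 1, Φ3 2] : Matrix (Fin 2) (Fin a) F) 1 = Φ3 2 := rfl
  have hΦV : Φ * V = N := by
    ext i j
    have : (Φ * V) i j = Φ i ⬝ᵥ (![v, A *ᵥ v] j) := by
      simp [Matrix.mul_apply, dotProduct, V]
    rw [this]
    fin_cases i <;> fin_cases j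
    · simpa [Φ, N, hΦ0, hΦ1] using hΦ3 1 0
    · simpa [Φ, N, hΦ0, hΦ1] using hΦ3 1 1
    · simpa [Φ, N, hΦ0, hΦ1] using hΦ3 2 0
    · simpa [Φ, N, hΦ0, hΦ1] using hΦ3 2 1
  have hΦAV : Φ * A * V = 1 := by
    ext i j
    have : (Φ * A * V) i j = Φ i ⬝ᵥ (A *ᵥ (![v, A *ᵥ v] j)) := by
      rw [Matrix.mul_assoc, Matrix.mul_apply]
      simp [Matrix.mul_apply, dotProduct, mulVec, V]
    rw [this]
    fin_cases i <;> fin_cases j
    · simpa [Φ, hΦ0, hΦ1] using hΦ3 1 1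
    · simpa [Φ, hΦ0, hΦ1] using hΦ3 1 2
    · simpa [Φ, hΦ0, hΦ1] using hΦ3 2 1
    · simpa [Φ, hΦ0, hΦ1] using hΦ3 2 2
  have hNN : N * N = 0 := by
    ext i j
    fin_cases i <;> fin_cases j <;> simp [N, Matrix.mul_apply, Fin.sum_univ_two]
  let L : Matrix (Fin 2 × Fin b) (Fin a × Fin b) F := Φ ⊗ₖ (1 : Matrix (Fin b) (Fin b) F)
  let R : Matrix (Fin a × Fin b) (Fin 2 × Fin b) F := V ⊗ₖ B⁻¹
  let X : Matrix (Fin 2 × Fin b) (Fin 2 × Fin b) F := N ⊗ₖ B⁻¹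
  have hLR : L * R = X := by
    show Φ ⊗ₖ (1 : Matrix (Fin b) (Fin b) F) * (V ⊗ₖ B⁻¹) = N ⊗ₖ B⁻¹
    rw [← Matrix.mul_kronecker_mul, hΦV, Matrix.one_mul]
  have hLAR : L * (A ⊗ₖ B) * R = 1 := by
    show Φ ⊗ₖ (1 : Matrix (Fin b) (Fin b) F) * (A ⊗ₖ B) * (V ⊗ₖ B⁻¹) = 1
    rw [← Matrix.mul_kronecker_mul, ← Matrix.mul_kronecker_mul, Matrix.one_mul,
      Matrix.mul_nonsing_inv B hB, hΦAV, Matrix.one_kronecker_one]
  have hXX : X * X = 0 := by
    show N ⊗ₖ B⁻¹ * (N ⊗ₖ B⁻¹) = 0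
    rw [← Matrix.mul_kronecker_mul, hNN, Matrix.zero_kronecker]
  have hprod : L * (A ⊗ₖ B - c • (1 : Matrix (Fin a × Fin b) (Fin a × Fin b) F)) * R
      = 1 - c • X := by
    rw [Matrix.mul_sub, Matrix.sub_mul, hLAR, Matrix.mul_smul, Matrix.mul_one, Matrix.smul_mul,
      hLR]
  have hunit : IsUnit (1 - c • X) := by
    have h1 : (1 - c • X) * (1 + c • X) = 1 := by
      rw [Matrix.sub_mul, Matrix.mul_add, Matrix.mul_add, Matrix.one_mul, Matrix.mul_one,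
        Matrix.one_mul, Matrix.smul_mul, Matrix.mul_smul, hXX]
      simp
    have h2 : (1 + c • X) * (1 - c • X) = 1 := by
      rw [Matrix.add_mul, Matrix.mul_sub, Matrix.mul_sub, Matrix.one_mul, Matrix.mul_one,
        Matrix.one_mul, Matrix.smul_mul, Matrix.mul_smul, hXX]
      simp
    exact ⟨⟨1 - c • X, 1 + c • X, h1, h2⟩, rfl⟩
  have hrank : (1 - c • X).rank = 2 * b := by
    rw [Matrix.rank_of_isUnit _ hunit]
    simp
  calc 2 * b = (L * (A ⊗ₖ B - c • (1 : Matrix (Fin a × Fin b) (Fin a × Fin b) F)) * R).rank := by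
        rw [hprod, hrank]
    _ ≤ (L * (A ⊗ₖ B - c • (1 : Matrix (Fin a × Fin b) (Fin a × Fin b) F))).rank :=
        Matrix.rank_mul_le_left _ _
    _ ≤ (A ⊗ₖ B - c • (1 : Matrix (Fin a × Fin b) (Fin a × Fin b) F)).rank :=
        Matrix.rank_mul_le_right _ _

end Cfsg.Agent.Lib.Helper31.SpTns
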