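import Mathlib

set_option autoImplicit false

namespace Cfsg.Agent.Lib.Helper59

/-- a multiplicative subgroup `C` of a field together with a `C`-stable additive subgroup `V` -/
structure AffDatum (F : Type) [Field F] where
  C : Subgroup Fˣ
  V : AddSubgroup F
  stable : ∀ c ∈ C, ∀ v ∈ V, ((c : Fˣ) : F) * v ∈ V

/-- the group of affine maps `x ↦ c x + v`, `c ∈ C`, `v ∈ V` -/
structure Aff {F : Type} [Field F] (D : AffDatum F) where
  lin : D.C
  tr : D.V

namespace Aff

variable {F : Type} [Field F] {D : AffDatum F}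

/-- linear part as a field element -/
def linF (a : Aff D) : F := ((a.lin : Fˣ) : F)

/-- translation part as a field element -/
def trF (a : Aff D) : F := (a.tr : F)

theorem ext_iff' (a b : Aff D) : a = b ↔ a.linF = b.linF ∧ a.trF = b.trF := by
  constructor
  · rintro rfl; exact ⟨rfl, rfl⟩
  · rintro ⟨h1, h2⟩
    cases a with | mk la ta =>
    cases b with | mk lb tb =>
    have e1 : la = lb := Subtype.ext (Units.ext h1)
    have e2 : ta = tb := Subtype.ext h2
    rw [e1, e2]

instance : Mul (Aff D) :=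
  ⟨fun a b => ⟨a.lin * b.lin,
    ⟨a.trF + a.linF * b.trF, D.V.add_mem a.tr.2 (D.stable _ a.lin.2 _ b.tr.2)⟩⟩⟩

instance : One (Aff D) := ⟨⟨1, 0⟩⟩

instance : Inv (Aff D) :=
  ⟨fun a => ⟨a.lin⁻¹, ⟨-((((a.lin⁻¹ : D.C) : Fˣ) : F) * a.trF),
    D.V.neg_mem (D.stable _ (a.lin⁻¹).2 _ a.tr.2)⟩⟩⟩

@[simp] theorem mul_linF (a b : Aff D) : (a * b).linF = a.linF * b.linF := by
  show (((a.lin * b.lin : D.C) : Fˣ) : F) = _
  simp [linF]

@[simp] theorem mul_trF (a b : Aff D) : (a * b).trF = a.trF + a.linF * b.trF := rfl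

@[simp] theorem one_linF : (1 : Aff D).linF = 1 := by
  show (((1 : D.C) : Fˣ) : F) = 1
  simp

@[simp] theorem one_trF : (1 : Aff D).trF = 0 := rfl

@[simp] theorem inv_linF (a : Aff D) : (a⁻¹).linF = (a.linF)⁻¹ := by
  show ((((a.lin)⁻¹ : D.C) : Fˣ) : F) = _
  simp [linF]

@[simp] theorem inv_trF (a : Aff D) : (a⁻¹).trF = -((a.linF)⁻¹ * a.trF) := by
  show -((((a.lin⁻¹ : D.C) : Fˣ) : F) * a.trF) = _
  simp [linF]

theorem linF_ne_zero (a : Aff D) : a.linF ≠ 0 := Units.ne_zero _

instance : Group (Aff D) :=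
  Group.ofLeftAxioms
    (by
      intro a b c
      rw [ext_iff']
      constructor
      · simp [mul_assoc]
      · simp only [mul_trF, mul_linF]; ring)
    (by
      intro a
      rw [ext_iff']
      simp)
    (by
      intro a
      rw [ext_iff']
      constructor
      · simp [linF_ne_zero]
      · simp only [mul_trF, inv_trF, inv_linF, one_trF]; ring)

/-- the underlying product -/
def equivProd : Aff D ≃ D.C × D.V where
  toFun a := (a.lin, a.tr)
  invFun p := ⟨p.1, p.2⟩
  left_inv a := by cases a; rfl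
  right_inv p := rfl

theorem card_eq : Nat.card (Aff D) = Nat.card D.C * Nat.card D.V := by
  rw [Nat.card_congr equivProd, Nat.card_prod]

theorem pow_linF (a : Aff D) (k : ℕ) : (a ^ k).linF = a.linF ^ k := by
  induction k with
  | zero => simp
  | succ k ih => rw [pow_succ, mul_linF, ih, pow_succ]

theorem pow_trF (a : Aff D) (k : ℕ) :
    (a ^ k).trF = (∑ i ∈ Finset.range k, a.linF ^ i) * a.trF := by
  induction k with
  | zero => simp
  | succ k ih =>
    rw [pow_succ, mul_trF, ih, pow_linF, Finset.sum_range_succ]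
    ring

theorem eq_one_iff (a : Aff D) : a = 1 ↔ a.linF = 1 ∧ a.trF = 0 := by
  rw [ext_iff']; simp

/-- the translation by `v` -/
def transl (v : D.V) : Aff D := ⟨1, v⟩

@[simp] theorem transl_linF (v : D.V) : (transl v : Aff D).linF = 1 := by
  show (((1 : D.C) : Fˣ) : F) = 1
  simp

@[simp] theorem transl_trF (v : D.V) : (transl v : Aff D).trF = v := rfl

theorem conj_transl (g : Aff D) (w : D.V) :
    (g * transl w * g⁻¹).linF = 1 ∧ (g * transl w * g⁻¹).trF = g.linF * w := by
  constructor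
  · simp [linF_ne_zero]
  · simp only [mul_trF, mul_linF, transl_linF, transl_trF, inv_trF, mul_one]
    field_simp [linF_ne_zero]
    ring

section Orders

variable [Finite F] (q r : ℕ) (hq : q.Prime) (hr : r.Prime) [CharP F q] (hC : Nat.card D.C = r)

include hr hC in
theorem linF_pow_r (a : Aff D) : a.linF ^ r = 1 := by
  have h : a.lin ^ r = 1 := by
    rw [← hC]
    exact pow_card_eq_one'
  have := congrArg (fun x : D.C => ((x : Fˣ) : F)) h
  simpa [linF] using this

include hr hC in
theorem pow_r_eq_one_of_lin_ne (a : Aff D) (ha : a.linF ≠ 1) : a ^ r = 1 := by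
  rw [eq_one_iff, pow_linF, pow_trF, linF_pow_r r hr hC]
  refine ⟨rfl, ?_⟩
  have h1 : (∑ i ∈ Finset.range r, a.linF ^ i) * (a.linF - 1) = 0 := by
    rw [geom_sum_mul, linF_pow_r r hr hC, sub_self]
  have h2 : a.linF - 1 ≠ 0 := sub_ne_zero.2 ha
  rcases mul_eq_zero.1 h1 with h | h
  · rw [h, zero_mul]
  · exact absurd h h2

include hq in
theorem pow_q_eq_one_of_lin_eq (a : Aff D) (ha : a.linF = 1) : a ^ q = 1 := by
  rw [eq_one_iff, pow_linF, pow_trF, ha, one_pow]
  refine ⟨rfl, ?_⟩
  simp only [one_pow, Finset.sum_const, Finset.card_range, nsmul_eq_mul, mul_one]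
  rw [CharP.cast_eq_zero F q, zero_mul]

include hq hr hC in
theorem orderOf_cases (a : Aff D) : orderOf a = 1 ∨ orderOf a = q ∨ orderOf a = r := by
  by_cases h1 : a = 1
  · left; rw [h1, orderOf_one]
  · by_cases hl : a.linF = 1
    · right; left
      have : Fact q.Prime := ⟨hq⟩
      exact orderOf_eq_prime (pow_q_eq_one_of_lin_eq q hq a hl) h1
    · right; right
      have : Fact r.Prime := ⟨hr⟩
      exact orderOf_eq_prime (pow_r_eq_one_of_lin_ne r hr hC a hl) h1

end Orders

section Crit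

theorem transl_mul (v w : D.V) : (transl v * transl w : Aff D) = transl (v + w) := by
  rw [ext_iff']
  simp

theorem transl_zero : (transl 0 : Aff D) = 1 := by
  rw [ext_iff']
  simp

theorem transl_inv (v : D.V) : (transl v : Aff D)⁻¹ = transl (-v) := by
  rw [ext_iff']
  simp

theorem eq_transl_of_linF_eq_one (a : Aff D) (h : a.linF = 1) : a = transl a.tr := by
  rw [ext_iff']
  refine ⟨by simp [h], rfl⟩

/-- the translations contained in a subgroup, as an additive subgroup of the field -/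
def translPart (H : Subgroup (Aff D)) : AddSubgroup F where
  carrier := {w | ∃ hw : w ∈ D.V, transl ⟨w, hw⟩ ∈ H}
  zero_mem' := ⟨D.V.zero_mem, by
    have : (transl ⟨0, D.V.zero_mem⟩ : Aff D) = 1 := transl_zero
    rw [this]; exact H.one_mem⟩
  add_mem' := by
    rintro v w ⟨hv, hv'⟩ ⟨hw, hw'⟩
    refine ⟨D.V.add_mem hv hw, ?_⟩
    have := H.mul_mem hv' hw'
    rwa [transl_mul] at this
  neg_mem' := by
    rintro v ⟨hv, hv'⟩
    refine ⟨D.V.neg_mem hv, ?_⟩
    have := H.inv_mem hv'
    rwa [transl_inv] at this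

theorem translPart_le (H : Subgroup (Aff D)) : translPart H ≤ D.V := by
  rintro w ⟨hw, -⟩
  exact hw

theorem mem_translPart (H : Subgroup (Aff D)) (w : F) :
    w ∈ translPart H ↔ ∃ hw : w ∈ D.V, transl ⟨w, hw⟩ ∈ H := Iff.rfl

theorem translPart_stable_of_conj (H : Subgroup (Aff D)) (g : Aff D)
    (hg : ∀ x ∈ H, g * x * g⁻¹ ∈ H) (w : F) (hw : w ∈ translPart H) :
    g.linF * w ∈ translPart H := by
  obtain ⟨hwV, hwH⟩ := hw
  refine ⟨D.stable _ g.lin.2 _ hwV, ?_⟩
  have h := hg _ hwH
  have e : g * transl ⟨w, hwV⟩ * g⁻¹ = transl ⟨g.linF * w, D.stable _ g.lin.2 _ hwV⟩ := by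
    rw [ext_iff']
    have := conj_transl g ⟨w, hwV⟩
    simp only [transl_linF, transl_trF]
    exact this
  rwa [e] at h

variable [Finite F] (q r : ℕ) (hq : q.Prime) (hr : r.Prime) (hqr : q ≠ r) [CharP F q]
  (hC : Nat.card D.C = r)

include hr hC in
theorem exists_pow_eq_of_lin_ne (g : Aff D) (hg : g.linF ≠ 1) (c : D.C) :
    ∃ k : ℕ, g.lin ^ k = c := by
  have : Fact r.Prime := ⟨hr⟩
  have hne : g.lin ≠ 1 := by
    intro h
    apply hg
    show (((g.lin : D.C) : Fˣ) : F) = 1
    rw [h]; simp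
  have htop : Subgroup.zpowers g.lin = ⊤ := zpowers_eq_top_of_prime_card hC hne
  have hmem : c ∈ Subgroup.zpowers g.lin := by rw [htop]; trivial
  have hfin : Finite D.C := Nat.finite_of_card_ne_zero (by rw [hC]; exact hr.ne_zero)
  rw [← mem_powers_iff_mem_zpowers] at hmem
  obtain ⟨k, hk⟩ := hmem
  exact ⟨k, hk⟩

include hr hC in
theorem translPart_stable (H : Subgroup (Aff D)) (g : Aff D) (hgl : g.linF ≠ 1)
    (hg : ∀ x ∈ H, g * x * g⁻¹ ∈ H) :
    ∀ c ∈ D.C, ∀ w ∈ translPart H, ((c : Fˣ) : F) * w ∈ translPart H := by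
  intro c hc w hw
  obtain ⟨k, hk⟩ := exists_pow_eq_of_lin_ne r hr hC g hgl ⟨c, hc⟩
  have hpow : ∀ k : ℕ, g.linF ^ k * w ∈ translPart H := by
    intro k
    induction k with
    | zero => simpa using hw
    | succ k ih =>
      have := translPart_stable_of_conj H g hg _ ih
      rwa [← mul_assoc, ← pow_succ'] at this
  have e : ((c : Fˣ) : F) = g.linF ^ k := by
    have := congrArg (fun x : D.C => ((x : Fˣ) : F)) hk
    simp only [Subgroup.coe_pow, Units.val_pow_eq_pow_val] at this
    exact this.symm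
  rw [e]
  exact hpow k

variable (hVne : D.V ≠ ⊥)
  (hirr : ∀ W : AddSubgroup F, W ≤ D.V →
    (∀ c ∈ D.C, ∀ w ∈ W, ((c : Fˣ) : F) * w ∈ W) → W = ⊥ ∨ W = D.V)

include hq hr hqr hC hVne hirr in
theorem critical (H N : Subgroup (Aff D)) (hNH : N ≤ H)
    (hnorm : ∀ h ∈ H, ∀ n ∈ N, h * n * h⁻¹ ∈ N)
    (hqd : q ∣ N.relIndex H) (hrd : r ∣ N.relIndex H) : H = ⊤ ∧ N = ⊥ := by
  classical
  have hfinC : Finite D.C := Nat.finite_of_card_ne_zero (by rw [hC]; exact hr.ne_zero)
  have hfinAff : Finite (Aff D) := Finite.of_equiv _ equivProd.symm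
  have hqH : q ∣ Nat.card H := hqd.trans (Subgroup.relIndex_dvd_card N H)
  have hrH : r ∣ Nat.card H := hrd.trans (Subgroup.relIndex_dvd_card N H)
  have : Fact q.Prime := ⟨hq⟩
  have : Fact r.Prime := ⟨hr⟩
  obtain ⟨g, hg⟩ := exists_prime_orderOf_dvd_card' r hrH
  obtain ⟨u, hu⟩ := exists_prime_orderOf_dvd_card' q hqH
  rw [← Subgroup.orderOf_coe] at hg hu
  -- g has nontrivial linear part
  have hgl : (g : Aff D).linF ≠ 1 := by
    intro h
    have := pow_q_eq_one_of_lin_eq q hq (g : Aff D) h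
    have hdvd := orderOf_dvd_of_pow_eq_one this
    rw [hg] at hdvd
    exact hqr ((Nat.prime_dvd_prime_iff_eq hr hq).1 hdvd).symm
  -- u is a nontrivial translation
  have hul : (u : Aff D).linF = 1 := by
    by_contra h
    have := pow_r_eq_one_of_lin_ne r hr hC (u : Aff D) h
    have hdvd := orderOf_dvd_of_pow_eq_one this
    rw [hu] at hdvd
    exact hqr ((Nat.prime_dvd_prime_iff_eq hq hr).1 hdvd)
  have hu1 : (u : Aff D) ≠ 1 := by
    intro h
    rw [h, orderOf_one] at hu
    exact hq.one_lt.ne hu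
  have hutr : (u : Aff D).trF ≠ 0 := by
    intro h
    exact hu1 ((eq_one_iff _).2 ⟨hul, h⟩)
  -- translation part of H is everything
  have hWst := translPart_stable r hr hC H (g : Aff D) hgl
    (fun x hx => H.mul_mem (H.mul_mem g.2 hx) (H.inv_mem g.2))
  have hWne : translPart H ≠ ⊥ := by
    intro h
    have hmem : (u : Aff D).trF ∈ translPart H := by
      refine ⟨(u : Aff D).tr.2, ?_⟩
      have := eq_transl_of_linF_eq_one (u : Aff D) hul
      have h2 : (transl ⟨(u : Aff D).trF, (u : Aff D).tr.2⟩ : Aff D) = (u : Aff D) := by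
        rw [this]; rfl
      rw [h2]; exact u.2
    rw [h, AddSubgroup.mem_bot] at hmem
    exact hutr hmem
  have hWV : translPart H = D.V := by
    rcases hirr _ (translPart_le H) hWst with h | h
    · exact absurd h hWne
    · exact h
  have htrH : ∀ v : D.V, transl v ∈ H := by
    intro v
    have : (v : F) ∈ translPart H := by rw [hWV]; exact v.2
    obtain ⟨_, h⟩ := this
    exact h
  have hHtop : H = ⊤ := by
    rw [eq_top_iff]
    intro a _
    obtain ⟨k, hk⟩ := exists_pow_eq_of_lin_ne r hr hC (g : Aff D) hgl a.lin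
    have hgk : (g : Aff D) ^ k ∈ H := H.pow_mem g.2 k
    have hlin : ((g : Aff D) ^ k).linF = a.linF := by
      rw [pow_linF]
      have := congrArg (fun x : D.C => ((x : Fˣ) : F)) hk
      simp only [Subgroup.coe_pow, Units.val_pow_eq_pow_val] at this
      exact this
    have hq' : (a * ((g : Aff D) ^ k)⁻¹).linF = 1 := by
      rw [mul_linF, inv_linF, hlin, mul_inv_cancel₀ (linF_ne_zero a)]
    have h3 := eq_transl_of_linF_eq_one _ hq'
    have h4 : a * ((g : Aff D) ^ k)⁻¹ ∈ H := by rw [h3]; exact htrH _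
    have := H.mul_mem h4 hgk
    simpa using this
  refine ⟨hHtop, ?_⟩
  subst hHtop
  -- N is normal
  have hNn : ∀ x : Aff D, ∀ n ∈ N, x * n * x⁻¹ ∈ N := fun x n hn => hnorm x trivial n hn
  by_contra hNne
  have hWNst := translPart_stable r hr hC N (g : Aff D) hgl (fun x hx => hNn _ x hx)
  rcases hirr _ (translPart_le N) hWNst with h | h
  · -- N contains no translations
    obtain ⟨n, hnN, hn1⟩ := (Subgroup.ne_bot_iff_exists_ne_one).1 hNne |>.choose_spec |> fun h' =>
      (⟨_, (Subgroup.ne_bot_iff_exists_ne_one.1 hNne).choose.2, fun e => h' (Subtype.ext e)⟩ :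
        ∃ n : Aff D, n ∈ N ∧ n ≠ 1)
    have hnl : n.linF ≠ 1 := by
      intro hl
      have e := eq_transl_of_linF_eq_one n hl
      have hmem : n.trF ∈ translPart N := by
        refine ⟨n.tr.2, ?_⟩
        have h2 : (transl ⟨n.trF, n.tr.2⟩ : Aff D) = n := by rw [e]; rfl
        rw [h2]; exact hnN
      rw [h, AddSubgroup.mem_bot] at hmem
      exact hn1 ((eq_one_iff _).2 ⟨hl, hmem⟩)
    apply hVne
    rw [AddSubgroup.eq_bot_iff_forall]
    intro w hw
    -- commutator of n with the translation by w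
    have hc1 : transl ⟨w, hw⟩ * n⁻¹ * (transl ⟨w, hw⟩)⁻¹ ∈ N := hNn _ _ (N.inv_mem hnN)
    have hc2 : n * (transl ⟨w, hw⟩ * n⁻¹ * (transl ⟨w, hw⟩)⁻¹) ∈ N := N.mul_mem hnN hc1
    set x := n * (transl ⟨w, hw⟩ * n⁻¹ * (transl ⟨w, hw⟩)⁻¹) with hx
    have hxl : x.linF = 1 := by
      rw [hx]
      simp [linF_ne_zero]
    have hxt : x.trF = (n.linF - 1) * w := by
      rw [hx]
      simp only [mul_trF, mul_linF, transl_linF, transl_trF, inv_trF, inv_linF, one_mul,
        inv_one, mul_one]
      field_simp [linF_ne_zero]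
      ring
    have hmem : x.trF ∈ translPart N := by
      refine ⟨x.tr.2, ?_⟩
      have e := eq_transl_of_linF_eq_one x hxl
      have h2 : (transl ⟨x.trF, x.tr.2⟩ : Aff D) = x := by rw [e]; rfl
      rw [h2]; exact hc2
    rw [h, AddSubgroup.mem_bot, hxt] at hmem
    rcases mul_eq_zero.1 hmem with h0 | h0
    · exact absurd (sub_eq_zero.1 h0) hnl
    · exact h0
  · -- N contains all translations
    have htrN : ∀ v : D.V, transl v ∈ N := by
      intro v
      have : (v : F) ∈ translPart N := by rw [h]; exact v.2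
      obtain ⟨_, h'⟩ := this
      exact h'
    -- the subgroup of translations
    let T : Subgroup (Aff D) :=
      { carrier := {a | a.linF = 1}
        mul_mem' := by intro a b ha hb; simp only [Set.mem_ofPred_eq] at *; simp [ha, hb]
        one_mem' := by simp
        inv_mem' := by intro a ha; simp only [Set.mem_ofPred_eq] at *; simp [ha] }
    have hTN : T ≤ N := by
      intro a ha
      have e := eq_transl_of_linF_eq_one a ha
      rw [e]; exact htrN _
    have hTcard : Nat.card T = Nat.card D.V := by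
      apply Nat.card_congr
      refine ⟨fun a => a.1.tr, fun v => ⟨transl v, by simp [T]⟩, ?_, ?_⟩
      · rintro ⟨a, ha⟩
        apply Subtype.ext
        exact (eq_transl_of_linF_eq_one a ha).symm
      · intro v; rfl
    have hVfin : Finite D.V := inferInstance
    have hTidx : T.index = r := by
      have h1 := T.card_mul_index
      rw [hTcard, card_eq, hC] at h1
      have hVpos : 0 < Nat.card D.V := Nat.card_pos
      have : Nat.card D.V * T.index = Nat.card D.V * r := by rw [h1, mul_comm]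
      exact Nat.eq_of_mul_eq_mul_left hVpos this
    have hNidx : N.index ∣ r := by
      rw [← hTidx]
      exact Subgroup.index_dvd_of_le hTN
    rw [Subgroup.relIndex_top_right] at hqd
    have := hqd.trans hNidx
    exact hqr ((Nat.prime_dvd_prime_iff_eq hq hr).1 this)

end Crit

end Aff

end Cfsg.Agent.Lib.Helper59
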