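import Mathlib
import Cfsg.Agent.Lib.Helper59.AffCrit

set_option autoImplicit false

namespace Cfsg.Agent.Lib.Helper59

open MulAction

/-- the action of `C` on `V` by multiplication -/
def affMulAction {F : Type} [Field F] (D : AffDatum F) : MulAction D.C D.V where
  smul c v := ⟨((c : Fˣ) : F) * v, D.stable _ c.2 _ v.2⟩
  one_smul v := by
    apply Subtype.ext
    show (((1 : D.C) : Fˣ) : F) * v = v
    simp
  mul_smul c c' v := by
    apply Subtype.ext
    show (((c * c' : D.C) : Fˣ) : F) * v = ((c : Fˣ) : F) * (((c' : Fˣ) : F) * v)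
    simp [mul_assoc]

theorem card_V_modEq {F : Type} [Field F] [Finite F] (D : AffDatum F) (r : ℕ) (hr : r.Prime)
    (hC : Nat.card D.C = r) : Nat.card D.V ≡ 1 [MOD r] := by
  have : Fact r.Prime := ⟨hr⟩
  letI := affMulAction D
  have hP : IsPGroup r D.C := IsPGroup.of_card (n := 1) (by rw [hC, pow_one])
  have h := hP.card_modEq_card_fixedPoints D.V
  have hfix : Nat.card (fixedPoints D.C D.V) = 1 := by
    have hfinC : Finite D.C := Nat.finite_of_card_ne_zero (by rw [hC]; exact hr.ne_zero)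
    have hne : ∃ c : D.C, c ≠ 1 := by
      by_contra hcon
      push Not at hcon
      have : Subsingleton D.C := ⟨fun a b => by rw [hcon a, hcon b]⟩
      have := Nat.card_eq_one_iff_unique.2 ⟨this, ⟨1⟩⟩
      rw [hC] at this
      exact hr.one_lt.ne' this
    obtain ⟨c, hc⟩ := hne
    have hcF : ((c : Fˣ) : F) ≠ 1 := by
      intro h1
      apply hc
      apply Subtype.ext
      apply Units.ext
      simpa using h1
    rw [Nat.card_eq_one_iff_unique]
    refine ⟨⟨?_⟩, ⟨⟨0, fun c' => ?_⟩⟩⟩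
    · rintro ⟨a, ha⟩ ⟨b, hb⟩
      have key : ∀ w : D.V, w ∈ fixedPoints D.C D.V → (w : F) = 0 := by
        intro w hw
        have h1 := hw c
        have h2 : ((c : Fˣ) : F) * (w : F) = (w : F) := congrArg Subtype.val h1
        have h3 : (((c : Fˣ) : F) - 1) * (w : F) = 0 := by rw [sub_mul, h2, one_mul, sub_self]
        rcases mul_eq_zero.1 h3 with h4 | h4
        · exact absurd (sub_eq_zero.1 h4) hcF
        · exact h4
      apply Subtype.ext
      apply Subtype.ext
      rw [key a ha, key b hb]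
    · apply Subtype.ext
      show ((c' : Fˣ) : F) * ((0 : D.V) : F) = ((0 : D.V) : F)
      simp
  rw [hfix] at h
  exact h

theorem exists_crit (q r : ℕ) (hq : q.Prime) (hr : r.Prime) (hqr : q ≠ r) :
    ∃ (Φ : Type) (_ : Group Φ) (_ : Fintype Φ) (d : ℕ), 1 ≤ d ∧ Nat.card Φ = q ^ d * r ∧
      r ∣ q ^ d - 1 ∧
      (∀ x : Φ, orderOf x = 1 ∨ orderOf x = q ∨ orderOf x = r) ∧
      (∀ H N : Subgroup Φ, N ≤ H → (∀ h ∈ H, ∀ n ∈ N, h * n * h⁻¹ ∈ N) →
        q ∣ N.relIndex H → r ∣ N.relIndex H → H = ⊤ ∧ N = ⊥) := by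
  classical
  have : Fact q.Prime := ⟨hq⟩
  have : Fact r.Prime := ⟨hr⟩
  have hr1 : r - 1 ≠ 0 := by have := hr.two_le; omega
  let F := GaloisField q (r - 1)
  have hFcard : Nat.card F = q ^ (r - 1) := GaloisField.card q (r - 1) hr1
  have : Fintype F := Fintype.ofFinite F
  have hcop : Nat.Coprime q r := (Nat.coprime_primes hq hr).2 hqr
  have hferm : r ∣ q ^ (r - 1) - 1 := by
    have h := Nat.ModEq.pow_totient hcop
    rw [Nat.totient_prime hr] at h
    exact (Nat.modEq_iff_dvd' (Nat.one_le_pow _ _ hq.pos)).1 h.symm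
  have hunits : Nat.card Fˣ = q ^ (r - 1) - 1 := by
    rw [Nat.card_units, hFcard]
  obtain ⟨c, hc⟩ := exists_prime_orderOf_dvd_card' (G := Fˣ) r (by rw [hunits]; exact hferm)
  let C : Subgroup Fˣ := Subgroup.zpowers c
  have hCcard : Nat.card C = r := by rw [Nat.card_zpowers, hc]
  let S : Set (AddSubgroup F) :=
    {W | W ≠ ⊥ ∧ ∀ c' ∈ C, ∀ w ∈ W, ((c' : Fˣ) : F) * w ∈ W}
  have hS : S.Nonempty := by
    refine ⟨⊤, ?_, fun _ _ _ _ => trivial⟩
    intro h
    have : (1 : F) ∈ (⊤ : AddSubgroup F) := trivial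
    rw [h, AddSubgroup.mem_bot] at this
    exact one_ne_zero this
  let W₀ := Function.argminOn (fun W : AddSubgroup F => Nat.card W) S hS
  have hW₀S : W₀ ∈ S := Function.argminOn_mem _ S hS
  have hW₀min : ∀ W ∈ S, Nat.card W₀ ≤ Nat.card W := fun W hW =>
    Function.argminOn_le (fun W : AddSubgroup F => Nat.card W) S hW
  let D : AffDatum F := ⟨C, W₀, hW₀S.2⟩
  have hirr : ∀ W : AddSubgroup F, W ≤ D.V →
      (∀ c' ∈ D.C, ∀ w ∈ W, ((c' : Fˣ) : F) * w ∈ W) → W = ⊥ ∨ W = D.V := by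
    intro W hWV hWst
    by_cases hW : W = ⊥
    · exact Or.inl hW
    · right
      exact AddSubgroup.eq_of_le_of_card_ge hWV (hW₀min W ⟨hW, hWst⟩)
  have hVne : D.V ≠ ⊥ := hW₀S.1
  have hVdvd : Nat.card D.V ∣ q ^ (r - 1) := by
    rw [← hFcard]
    exact AddSubgroup.card_addSubgroup_dvd_card D.V
  obtain ⟨d, -, hd⟩ := (Nat.dvd_prime_pow hq).1 hVdvd
  have hd1 : 1 ≤ d := by
    by_contra h
    have : d = 0 := by omega
    rw [this, pow_zero] at hd
    exact hVne (AddSubgroup.eq_bot_of_card_eq D.V hd)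
  have hmod := card_V_modEq D r hr hCcard
  rw [hd] at hmod
  have hrdvd : r ∣ q ^ d - 1 :=
    (Nat.modEq_iff_dvd' (Nat.one_le_pow _ _ hq.pos)).1 hmod.symm
  have hfin : Finite (Aff D) := Finite.of_equiv _ (Aff.equivProd (D := D)).symm
  refine ⟨Aff D, inferInstance, Fintype.ofFinite _, d, hd1, ?_, hrdvd, ?_, ?_⟩
  · rw [Aff.card_eq, hCcard, hd, mul_comm]
  · exact Aff.orderOf_cases q r hq hr hCcard
  · exact Aff.critical q r hq hr hqr hCcard hVne hirr

end Cfsg.Agent.Lib.Helper59
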