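import Mathlib

set_option autoImplicit false
set_option linter.unusedVariables false
set_option linter.unusedSectionVars false

/-!
Agreement counts between conjugates of two permutations: for non-identity `b c : Perm α`
(`5 ≤ card α`) the number of points where `b'` and `c'` agree is not constant over
`alternatingGroup`-conjugates.  (helper59, for S2271)
-/

namespace Cfsg.Agent.Lib.Helper59.AC

open Equiv

variable {α : Type*} [Fintype α] [DecidableEq α]

/-- agreement count -/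
def Ag (b c : Perm α) : ℕ := (Finset.univ.filter (fun z => b z = c z)).card

lemma Ag_comm (b c : Perm α) : Ag b c = Ag c b := by
  unfold Ag
  congr 1
  ext z
  simp [eq_comm]

lemma ag_lt {b γ₁ γ₂ : Perm α} (Z : α → Prop) (hout : ∀ z, ¬ Z z → γ₂ z = γ₁ z)
    (hR : ∀ z, Z z → b z ≠ γ₂ z) (z₀ : α) (hz₀ : Z z₀) (hL : b z₀ = γ₁ z₀) :
    Ag b γ₂ < Ag b γ₁ := by
  unfold Ag
  apply Finset.card_lt_card
  rw [Finset.ssubset_iff_of_subset]
  · refine ⟨z₀, by simp [hL], ?_⟩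
    simp only [Finset.mem_filter, Finset.mem_univ, true_and]
    exact hR z₀ hz₀
  · intro z hz
    simp only [Finset.mem_filter, Finset.mem_univ, true_and] at hz ⊢
    have : ¬ Z z := fun h => hR z h hz
    rw [hz, hout z this]

lemma conj_apply (t c : Perm α) (z : α) : (t * c * t⁻¹) z = t (c (t⁻¹ z)) := rfl

lemma inv_apply_of (t : Perm α) {a b : α} (h : t a = b) : t⁻¹ b = a := by
  rw [Perm.inv_eq_iff_eq, h]

/-- a 3-cycle `p → q → r → p` with all its values. -/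
lemma cyc3 (p q r : α) (hpq : p ≠ q) (hqr : q ≠ r) (hpr : p ≠ r) :
    ∃ t : Perm α, t ∈ alternatingGroup α ∧ t p = q ∧ t q = r ∧ t r = p ∧
      (∀ z, z ≠ p → z ≠ q → z ≠ r → t z = z) ∧
      t⁻¹ q = p ∧ t⁻¹ r = q ∧ t⁻¹ p = r ∧ (∀ z, z ≠ p → z ≠ q → z ≠ r → t⁻¹ z = z) := by
  have h1 : (swap p q * swap q r) p = q := by
    rw [Perm.mul_apply, swap_apply_of_ne_of_ne hpq hpr, swap_apply_left]
  have h2 : (swap p q * swap q r) q = r := by
    rw [Perm.mul_apply, swap_apply_left, swap_apply_of_ne_of_ne hpr.symm hqr.symm]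
  have h3 : (swap p q * swap q r) r = p := by
    rw [Perm.mul_apply, swap_apply_right, swap_apply_right]
  have h4 : ∀ z, z ≠ p → z ≠ q → z ≠ r → (swap p q * swap q r) z = z := by
    intro z hz1 hz2 hz3
    rw [Perm.mul_apply, swap_apply_of_ne_of_ne hz2 hz3, swap_apply_of_ne_of_ne hz1 hz2]
  refine ⟨swap p q * swap q r, ?_, h1, h2, h3, h4, inv_apply_of _ h1, inv_apply_of _ h2,
    inv_apply_of _ h3, ?_⟩
  · rw [Perm.mem_alternatingGroup, Perm.sign_mul, Perm.sign_swap hpq, Perm.sign_swap hqr]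
    simp
  · intro z hz1 hz2 hz3
    exact inv_apply_of _ (h4 z hz1 hz2 hz3)

lemma exists_notMem_of_card_lt (F : Finset α) (h : F.card < Fintype.card α) : ∃ s, s ∉ F := by
  by_contra hcon
  push Not at hcon
  have : F = Finset.univ := Finset.eq_univ_iff_forall.2 hcon
  rw [this, Finset.card_univ] at h
  exact lt_irrefl _ h

lemma exists_alt3 (hcard : 5 ≤ Fintype.card α) {u₁ u₂ u₃ x₁ x₂ x₃ : α}
    (hu12 : u₁ ≠ u₂) (hu13 : u₁ ≠ u₃) (hu23 : u₂ ≠ u₃)
    (hx12 : x₁ ≠ x₂) (hx13 : x₁ ≠ x₃) (hx23 : x₂ ≠ x₃) :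
    ∃ h : Perm α, h ∈ alternatingGroup α ∧ h u₁ = x₁ ∧ h u₂ = x₂ ∧ h u₃ = x₃ := by
  have inj1 : Function.Injective ![u₁, u₂, u₃] := by
    intro i j hij
    fin_cases i <;> fin_cases j <;> simp_all
  have inj2 : Function.Injective ![x₁, x₂, x₃] := by
    intro i j hij
    fin_cases i <;> fin_cases j <;> simp_all
  obtain ⟨σ, hσ⟩ := Equiv.Perm.exists_extending_pair ![u₁, u₂, u₃] ![x₁, x₂, x₃] inj1 inj2
  have h1 : σ u₁ = x₁ := hσ 0
  have h2 : σ u₂ = x₂ := hσ 1
  have h3 : σ u₃ = x₃ := hσ 2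
  by_cases hs : Perm.sign σ = 1
  · exact ⟨σ, Perm.mem_alternatingGroup.2 hs, h1, h2, h3⟩
  · have hs' : Perm.sign σ = -1 := by
      rcases Int.units_eq_one_or (Perm.sign σ) with h | h
      · exact absurd h hs
      · exact h
    obtain ⟨a, ha⟩ : ∃ a, a ∉ ({x₁, x₂, x₃} : Finset α) :=
      exists_notMem_of_card_lt _ (lt_of_le_of_lt Finset.card_le_three (by omega))
    obtain ⟨b, hb⟩ : ∃ b, b ∉ ({x₁, x₂, x₃, a} : Finset α) :=
      exists_notMem_of_card_lt _ (lt_of_le_of_lt Finset.card_le_four (by omega))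
    simp only [Finset.mem_insert, Finset.mem_singleton, not_or] at ha hb
    obtain ⟨ha1, ha2, ha3⟩ := ha
    obtain ⟨hb1, hb2, hb3, hba⟩ := hb
    refine ⟨swap a b * σ, ?_, ?_, ?_, ?_⟩
    · rw [Perm.mem_alternatingGroup, Perm.sign_mul, Perm.sign_swap (Ne.symm hba), hs']
      simp
    · rw [Perm.mul_apply, h1, swap_apply_of_ne_of_ne (Ne.symm ha1) (Ne.symm hb1)]
    · rw [Perm.mul_apply, h2, swap_apply_of_ne_of_ne (Ne.symm ha2) (Ne.symm hb2)]
    · rw [Perm.mul_apply, h3, swap_apply_of_ne_of_ne (Ne.symm ha3) (Ne.symm hb3)]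

lemma exists_alt2 (hcard : 5 ≤ Fintype.card α) {u₁ u₂ x₁ x₂ : α}
    (hu12 : u₁ ≠ u₂) (hx12 : x₁ ≠ x₂) :
    ∃ h : Perm α, h ∈ alternatingGroup α ∧ h u₁ = x₁ ∧ h u₂ = x₂ := by
  obtain ⟨u₃, hu3⟩ : ∃ a, a ∉ ({u₁, u₂} : Finset α) :=
    exists_notMem_of_card_lt _ (lt_of_le_of_lt Finset.card_le_two (by omega))
  obtain ⟨x₃, hx3⟩ : ∃ a, a ∉ ({x₁, x₂} : Finset α) :=
    exists_notMem_of_card_lt _ (lt_of_le_of_lt Finset.card_le_two (by omega))
  simp only [Finset.mem_insert, Finset.mem_singleton, not_or] at hu3 hx3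
  obtain ⟨h, hh, h1, h2, -⟩ := exists_alt3 hcard hu12 (Ne.symm hu3.1) (Ne.symm hu3.2)
    hx12 (Ne.symm hx3.1) (Ne.symm hx3.2)
  exact ⟨h, hh, h1, h2⟩

/-- the target statement, in agreement-count form -/
def Q (c b : Perm α) : Prop :=
  ∃ g₁ h₁ g₂ h₂ : Perm α, g₁ ∈ alternatingGroup α ∧ h₁ ∈ alternatingGroup α ∧
    g₂ ∈ alternatingGroup α ∧ h₂ ∈ alternatingGroup α ∧
    Ag (h₁ * b * h₁⁻¹) (g₁ * c * g₁⁻¹) ≠ Ag (h₂ * b * h₂⁻¹) (g₂ * c * g₂⁻¹)

lemma Q_symm {c b : Perm α} (h : Q c b) : Q b c := by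
  obtain ⟨g₁, h₁, g₂, h₂, hg₁, hh₁, hg₂, hh₂, hne⟩ := h
  refine ⟨h₁, g₁, h₂, g₂, hh₁, hg₁, hh₂, hg₂, ?_⟩
  rw [Ag_comm, Ag_comm (g₂ * c * g₂⁻¹)]
  exact hne

lemma Q_of (c b : Perm α) (t h : Perm α) (ht : t ∈ alternatingGroup α)
    (hh : h ∈ alternatingGroup α)
    (hlt : Ag (h * b * h⁻¹) (t * c * t⁻¹) < Ag (h * b * h⁻¹) c) : Q c b := by
  refine ⟨1, h, t, h, one_mem _, hh, ht, hh, ?_⟩
  simp only [one_mul, inv_one, mul_one]
  exact hlt.ne'

/-- `c` has a cycle of length at least four. -/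
def L (c : Perm α) : Prop := ∃ r, c r ≠ r ∧ c (c r) ≠ r ∧ c (c (c r)) ≠ r

lemma exists_moved {b : Perm α} (hb : b ≠ 1) : ∃ u, b u ≠ u := by
  by_contra hcon
  push Not at hcon
  exact hb (Perm.ext hcon)


/-! ### Case L: `c` has a cycle of length at least four -/

lemma coreL (c b' : Perm α) {r' r q p : α} (h1 : c r' = r) (h2 : c r = q) (h3 : c q = p)
    (d1 : r' ≠ r) (d2 : r' ≠ q) (d3 : r' ≠ p) (d4 : r ≠ q) (d5 : r ≠ p) (d6 : q ≠ p)
    (hb1 : b' q = p) (hb2 : b' p ≠ r) :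
    ∃ t : Perm α, t ∈ alternatingGroup α ∧ Ag b' (t * c * t⁻¹) < Ag b' c := by
  obtain ⟨t, ht, tp, tq, tr, tfix, tiq, tir, tip, tifix⟩ := cyc3 p q r d6.symm d4.symm d5.symm
  refine ⟨t, ht, ?_⟩
  -- `c p` is outside `{p, q, r}`
  have s1 : c p ≠ p := fun h => d6 (c.injective (h3.trans h.symm))
  have s2 : c p ≠ q := fun h => d5 (c.injective (h2.trans h.symm))
  have s3 : c p ≠ r := fun h => d3 (c.injective (h1.trans h.symm))
  refine ag_lt (fun z => z = p ∨ z = q ∨ z = r') ?_ ?_ q (Or.inr (Or.inl rfl)) (hb1.trans h3.symm)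
  · intro z hz
    push Not at hz
    obtain ⟨z1, z2, z3⟩ := hz
    rw [conj_apply]
    by_cases hzr : z = r
    · subst hzr
      rw [tir, h3, tp, h2]
    · rw [tifix z z1 z2 hzr]
      apply tfix
      · intro h
        exact z2 (c.injective (h.trans h3.symm))
      · intro h
        exact hzr (c.injective (h.trans h2.symm))
      · intro h
        exact z3 (c.injective (h.trans h1.symm))
  · rintro z (rfl | rfl | rfl)
    · rw [conj_apply, tip, h2, tq]
      exact hb2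
    · rw [conj_apply, tiq, tfix _ s1 s2 s3, hb1]
      exact fun h => s1 h.symm
    · rw [conj_apply, tifix _ d3 d2 d1, h1, tr]
      intro h
      exact d2 (b'.injective (h.trans hb1.symm))

lemma caseL (hcard : 5 ≤ Fintype.card α) (c b : Perm α) (hL : L c) (hb : b ≠ 1) : Q c b := by
  obtain ⟨r', e1, e2, e3⟩ := hL
  obtain ⟨u, hu⟩ := exists_moved hb
  have d1 : r' ≠ c r' := fun h => e1 h.symm
  have d2 : r' ≠ c (c r') := fun h => e2 h.symm
  have d3 : r' ≠ c (c (c r')) := fun h => e3 h.symm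
  have d4 : c r' ≠ c (c r') := fun h => d1 (c.injective h)
  have d5 : c r' ≠ c (c (c r')) := fun h => d2 (c.injective h)
  have d6 : c (c r') ≠ c (c (c r')) := fun h => d4 (c.injective h)
  have huv : u ≠ b u := fun h => hu h.symm
  by_cases hbv : b (b u) = u
  · obtain ⟨h, hh, hu1, hu2⟩ := exists_alt2 hcard huv d6
    have hb1 : (h * b * h⁻¹) (c (c r')) = c (c (c r')) := by
      rw [conj_apply, inv_apply_of h hu1, hu2]
    have hb2 : (h * b * h⁻¹) (c (c (c r'))) ≠ c r' := by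
      rw [conj_apply, inv_apply_of h hu2, hbv, hu1]
      exact d4.symm
    obtain ⟨t, ht, hlt⟩ := coreL c (h * b * h⁻¹) rfl rfl rfl d1 d2 d3 d4 d5 d6 hb1 hb2
    exact Q_of c b t h ht hh hlt
  · have hv1 : b u ≠ b (b u) := fun h => huv (b.injective h)
    obtain ⟨h, hh, hu1, hu2, hu3⟩ := exists_alt3 hcard huv (Ne.symm hbv) hv1 d6 d2.symm d3.symm
    have hb1 : (h * b * h⁻¹) (c (c r')) = c (c (c r')) := by
      rw [conj_apply, inv_apply_of h hu1, hu2]
    have hb2 : (h * b * h⁻¹) (c (c (c r'))) ≠ c r' := by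
      rw [conj_apply, inv_apply_of h hu2, hu3]
      exact d1
    obtain ⟨t, ht, hlt⟩ := coreL c (h * b * h⁻¹) rfl rfl rfl d1 d2 d3 d4 d5 d6 hb1 hb2
    exact Q_of c b t h ht hh hlt


/-! ### Case Inv: `c` is an involution -/

lemma coreInv (c b' : Perm α) {x y w w' : α} (hxy : c x = y) (hyx : c y = x)
    (hw : c w = w') (hw' : c w' = w) (dxy : x ≠ y) (dwx : w ≠ x) (dwy : w ≠ y)
    (hb1 : b' x = y) (hb2 : b' y ≠ w) (hb3 : b' w' ≠ x) :
    ∃ t : Perm α, t ∈ alternatingGroup α ∧ Ag b' (t * c * t⁻¹) < Ag b' c := by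
  obtain ⟨t, ht, tx, ty, tw, tfix, tiy, tiw, tix, tifix⟩ := cyc3 x y w dxy dwy.symm dwx.symm
  refine ⟨t, ht, ?_⟩
  have dw'x : w' ≠ x := fun h => dwy (c.injective (hw.trans (h.trans hyx.symm)))
  have dw'y : w' ≠ y := fun h => dwx (c.injective (hw.trans (h.trans hxy.symm)))
  refine ag_lt (fun z => z = x ∨ z = y ∨ z = w ∨ z = w') ?_ ?_ x (Or.inl rfl)
    (hb1.trans hxy.symm)
  · intro z hz
    push Not at hz
    obtain ⟨z1, z2, z3, z4⟩ := hz
    rw [conj_apply, tifix z z1 z2 z3]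
    apply tfix
    · intro h
      exact z2 (c.injective (h.trans hyx.symm))
    · intro h
      exact z1 (c.injective (h.trans hxy.symm))
    · intro h
      exact z4 (c.injective (h.trans hw'.symm))
  · have key_w : b' w ≠ (t * c * t⁻¹) w := by
      rw [conj_apply, tiw, hyx, tx]
      intro h
      exact dwx (b'.injective (h.trans hb1.symm))
    rintro z (rfl | rfl | rfl | rfl)
    · rw [conj_apply, tix, hw, hb1]
      intro h
      exact dw'x (t.injective (h.symm.trans tx.symm))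
    · rw [conj_apply, tiy, hxy, ty]
      exact hb2
    · exact key_w
    · by_cases hww : z = w
      · rw [hww]
        exact key_w
      · rw [conj_apply, tifix _ dw'x dw'y hww, hw', tw]
        exact hb3

lemma caseInv (hcard : 5 ≤ Fintype.card α) (c b : Perm α) (hinv : ∀ z, c (c z) = z)
    (hc : c ≠ 1) (hb : b ≠ 1) (hnL : ¬ L b) : Q c b := by
  obtain ⟨x, hx⟩ := exists_moved hc
  obtain ⟨u, hu⟩ := exists_moved hb
  have dxy : x ≠ c x := fun h => hx h.symm
  have huv : u ≠ b u := fun h => hu h.symm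
  obtain ⟨w, hw⟩ : ∃ a, a ∉ ({x, c x} : Finset α) :=
    exists_notMem_of_card_lt _ (lt_of_le_of_lt Finset.card_le_two (by omega))
  obtain ⟨s, hs⟩ : ∃ a, a ∉ ({x, c x, w, c w} : Finset α) :=
    exists_notMem_of_card_lt _ (lt_of_le_of_lt Finset.card_le_four (by omega))
  simp only [Finset.mem_insert, Finset.mem_singleton, not_or] at hw hs
  obtain ⟨hw1, hw2⟩ := hw
  obtain ⟨hs1, hs2, hs3, hs4⟩ := hs
  by_cases hbv : b (b u) = u
  · obtain ⟨h, hh, hu1, hu2⟩ := exists_alt2 hcard huv dxy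
    have hb1 : (h * b * h⁻¹) x = c x := by
      rw [conj_apply, inv_apply_of h hu1, hu2]
    have hb2' : (h * b * h⁻¹) (c x) = x := by
      rw [conj_apply, inv_apply_of h hu2, hbv, hu1]
    have hb2 : (h * b * h⁻¹) (c x) ≠ w := by
      rw [hb2']
      exact Ne.symm hw1
    have hb3 : (h * b * h⁻¹) (c w) ≠ x := by
      intro hcon
      have := (h * b * h⁻¹).injective (hcon.trans hb2'.symm)
      exact hw1 (c.injective this)
    obtain ⟨t, ht, hlt⟩ := coreInv c (h * b * h⁻¹) rfl (hinv x) rfl (hinv w) dxy hw1 hw2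
      hb1 hb2 hb3
    exact Q_of c b t h ht hh hlt
  · have hb3u : b (b (b u)) = u := by
      by_contra hcon
      exact hnL ⟨u, hu, hbv, hcon⟩
    have hv1 : b u ≠ b (b u) := fun h => huv (b.injective h)
    obtain ⟨h, hh, hu1, hu2, hu3⟩ := exists_alt3 hcard huv (Ne.symm hbv) hv1 dxy
      (Ne.symm hs1) (Ne.symm hs2)
    have hb1 : (h * b * h⁻¹) x = c x := by
      rw [conj_apply, inv_apply_of h hu1, hu2]
    have hb2 : (h * b * h⁻¹) (c x) ≠ w := by
      rw [conj_apply, inv_apply_of h hu2, hu3]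
      exact hs3
    have hbs : (h * b * h⁻¹) s = x := by
      rw [conj_apply, inv_apply_of h hu3, hb3u, hu1]
    have hb3 : (h * b * h⁻¹) (c w) ≠ x := by
      intro hcon
      have := (h * b * h⁻¹).injective (hcon.trans hbs.symm)
      exact hs4 this.symm
    obtain ⟨t, ht, hlt⟩ := coreInv c (h * b * h⁻¹) rfl (hinv x) rfl (hinv w) dxy hw1 hw2
      hb1 hb2 hb3
    exact Q_of c b t h ht hh hlt

/-! ### Case M: both have a 3-cycle -/

lemma coreM (c b' : Perm α) {x y z p : α} (hxy : c x = y) (hyz : c y = z) (hzx : c z = x)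
    (dxy : x ≠ y) (dyz : y ≠ z) (dxz : x ≠ z) (dpx : p ≠ x) (dpy : p ≠ y) (dpz : p ≠ z)
    (hb1 : b' x = y) (hb2 : b' y = z) (hb3 : b' z = x) :
    ∃ t : Perm α, t ∈ alternatingGroup α ∧ Ag b' (t * c * t⁻¹) < Ag b' c := by
  obtain ⟨t, ht, tx, ty, tp, tfix, tiy, tip, tix, tifix⟩ := cyc3 x y p dxy dpy.symm dpx.symm
  refine ⟨t, ht, ?_⟩
  obtain ⟨r, hr⟩ : ∃ r, c r = p := ⟨c⁻¹ p, by simp⟩
  have drx : r ≠ x := fun h => dpy (by rw [← hr, h, hxy])
  have dry : r ≠ y := fun h => dpz (by rw [← hr, h, hyz])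
  have drz : r ≠ z := fun h => dpx (by rw [← hr, h, hzx])
  refine ag_lt (fun a => a = x ∨ a = y ∨ a = p ∨ a = z ∨ a = r) ?_ ?_ x (Or.inl rfl)
    (hb1.trans hxy.symm)
  · intro a ha
    push Not at ha
    obtain ⟨a1, a2, a3, a4, a5⟩ := ha
    rw [conj_apply, tifix a a1 a2 a3]
    apply tfix
    · intro h
      exact a4 (c.injective (h.trans hzx.symm))
    · intro h
      exact a1 (c.injective (h.trans hxy.symm))
    · intro h
      exact a5 (c.injective (h.trans hr.symm))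
  · have key_p : b' p ≠ (t * c * t⁻¹) p := by
      rw [conj_apply, tip, hyz, tfix z dxz.symm dyz.symm dpz.symm]
      intro h
      exact dpy (b'.injective (h.trans hb2.symm))
    rintro a (rfl | rfl | rfl | rfl | rfl)
    · rw [conj_apply, tix, hb1]
      intro h
      have h2 : c p = a := t.injective (h.symm.trans tx.symm)
      exact dpz (c.injective (h2.trans hzx.symm))
    · rw [conj_apply, tiy, hxy, ty, hb2]
      exact dpz.symm
    · exact key_p
    · rw [conj_apply, tifix _ dxz.symm dyz.symm dpz.symm, hzx, tx, hb3]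
      exact dxy
    · by_cases hrp : a = p
      · rw [hrp]
        exact key_p
      · rw [conj_apply, tifix _ drx dry hrp, hr, tp]
        intro h
        exact drz (b'.injective (h.trans hb3.symm))

lemma caseM (hcard : 5 ≤ Fintype.card α) (c b : Perm α)
    {x : α} (hx1 : c x ≠ x) (hx2 : c (c x) ≠ x) (hx3 : c (c (c x)) = x)
    {u : α} (hu1 : b u ≠ u) (hu2 : b (b u) ≠ u) (hu3 : b (b (b u)) = u) : Q c b := by
  have dxy : x ≠ c x := fun h => hx1 h.symm
  have dxz : x ≠ c (c x) := fun h => hx2 h.symm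
  have dyz : c x ≠ c (c x) := fun h => dxy (c.injective h)
  have duv : u ≠ b u := fun h => hu1 h.symm
  have duw : u ≠ b (b u) := fun h => hu2 h.symm
  have dvw : b u ≠ b (b u) := fun h => duv (b.injective h)
  obtain ⟨p, hp⟩ : ∃ a, a ∉ ({x, c x, c (c x)} : Finset α) :=
    exists_notMem_of_card_lt _ (lt_of_le_of_lt Finset.card_le_three (by omega))
  simp only [Finset.mem_insert, Finset.mem_singleton, not_or] at hp
  obtain ⟨hp1, hp2, hp3⟩ := hp
  obtain ⟨h, hh, e1, e2, e3⟩ := exists_alt3 hcard duv duw dvw dxy dxz dyz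
  have hb1 : (h * b * h⁻¹) x = c x := by
    rw [conj_apply, inv_apply_of h e1, e2]
  have hb2 : (h * b * h⁻¹) (c x) = c (c x) := by
    rw [conj_apply, inv_apply_of h e2, e3]
  have hb3 : (h * b * h⁻¹) (c (c x)) = x := by
    rw [conj_apply, inv_apply_of h e3, hu3, e1]
  obtain ⟨t, ht, hlt⟩ := coreM c (h * b * h⁻¹) rfl rfl hx3 dxy dyz dxz hp1 hp2 hp3 hb1 hb2 hb3
  exact Q_of c b t h ht hh hlt

/-! ### Main theorem -/

theorem main (hcard : 5 ≤ Fintype.card α) (c b : Perm α) (hc : c ≠ 1) (hb : b ≠ 1) : Q c b := by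
  by_cases hLc : L c
  · exact caseL hcard c b hLc hb
  by_cases hLb : L b
  · exact Q_symm (caseL hcard b c hLb hc)
  by_cases hTc : ∃ x, c x ≠ x ∧ c (c x) ≠ x
  · obtain ⟨x, hx1, hx2⟩ := hTc
    have hx3 : c (c (c x)) = x := by
      by_contra hcon
      exact hLc ⟨x, hx1, hx2, hcon⟩
    by_cases hTb : ∃ u, b u ≠ u ∧ b (b u) ≠ u
    · obtain ⟨u, hu1, hu2⟩ := hTb
      have hu3 : b (b (b u)) = u := by
        by_contra hcon
        exact hLb ⟨u, hu1, hu2, hcon⟩
      exact caseM hcard c b hx1 hx2 hx3 hu1 hu2 hu3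
    · push Not at hTb
      have hinv : ∀ z, b (b z) = z := by
        intro z
        by_cases hz : b z = z
        · rw [hz, hz]
        · exact hTb z hz
      exact Q_symm (caseInv hcard b c hinv hb hc hLc)
  · push Not at hTc
    have hinv : ∀ z, c (c z) = z := by
      intro z
      by_cases hz : c z = z
      · rw [hz, hz]
      · exact hTc z hz
    exact caseInv hcard c b hinv hc hb hLb

end Cfsg.Agent.Lib.Helper59.AC
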