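import Mathlib
import Cfsg.Agent.Lib.Helper87.AltModel

set_option autoImplicit false

/-! # S5165 hive, leaf N4 (`p = 2`): `N_A(S0) ≤ N(Bg)`. -/

namespace Cfsg.Agent.Lib.Helper87.AltF

open Equiv Subgroup

/-- the two elements of `ZMod 2` -/
theorem n4_zmod2 (s : ZMod 2) : s = 0 ∨ s = 1 := by
  revert s; decide

theorem n4_one_add_one : (1 : ZMod 2) + 1 = 0 := by decide

/-- for `p = 2`, `cyc k` is the transposition of the two points of block `k` -/
theorem n4_cyc_eq_swap {I : Type} [DecidableEq I] (a0 : ℕ) (k : I) :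
    cyc (I := I) 2 a0 k = swap (Sum.inl (k, 0)) (Sum.inl (k, 1)) := by
  ext x
  rcases x with ⟨l, s⟩ | x
  · by_cases h1 : l = k
    · subst h1
      rw [cyc_inl_self]
      rcases n4_zmod2 s with rfl | rfl
      · simp
      · rw [n4_one_add_one]
        simp
    · rw [cyc_inl_of_ne _ _ h1]
      rw [swap_apply_of_ne_of_ne]
      · intro h; apply h1; exact (Prod.ext_iff.mp (Sum.inl.inj h)).1
      · intro h; apply h1; exact (Prod.ext_iff.mp (Sum.inl.inj h)).1
  · rw [cyc_inr, swap_apply_of_ne_of_ne] <;> simp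

/-- for `p = 2`, `cyc k` is the transposition `(k, s) ↔ (k, s + 1)` -/
theorem n4_cyc_eq_swap' {I : Type} [DecidableEq I] (a0 : ℕ) (k : I) (s : ZMod 2) :
    cyc (I := I) 2 a0 k = swap (Sum.inl (k, s)) (Sum.inl (k, s + 1)) := by
  rw [n4_cyc_eq_swap]
  rcases n4_zmod2 s with rfl | rfl
  · simp
  · rw [n4_one_add_one]
    exact swap_comm _ _

/-- a `2`-group contains no `3`-cycle -/
theorem n4_no_three {α : Type*} [Fintype α] [DecidableEq α] (P : Subgroup (Perm α))
    (hP : IsPGroup 2 P) (g : Perm α) (hg : g ∈ P) (h3 : g.IsThreeCycle) : False := by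
  obtain ⟨k, hk⟩ := hP ⟨g, hg⟩
  have h1 : g ^ 2 ^ k = 1 := by
    have := congrArg Subtype.val hk
    simpa using this
  have h2 : orderOf g ∣ 2 ^ k := orderOf_dvd_of_pow_eq_one h1
  rw [h3.orderOf] at h2
  have h4 : 3 ∣ 2 := Nat.Prime.dvd_of_dvd_pow Nat.prime_three h2
  omega

/-- if a transposition `(u v)` with `u` in block `k` lies in a `2`-group containing `Bs`, then
`v` is the other point of block `k` -/
theorem n4_partner {I : Type} [Fintype I] [DecidableEq I] (a0 : ℕ)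
    (P : Subgroup (Perm (PtI I 2 a0))) (hP : IsPGroup 2 P) (hB : Bs (I := I) 2 a0 ≤ P)
    (k : I) (s : ZMod 2) (v : PtI I 2 a0) (hv : v ≠ Sum.inl (k, s))
    (h : swap (Sum.inl (k, s)) v ∈ P) : v = Sum.inl (k, s + 1) := by
  by_contra hne
  have hc : swap (Sum.inl (k, s) : PtI I 2 a0) (Sum.inl (k, s + 1)) ∈ P := by
    rw [← n4_cyc_eq_swap']
    exact hB (subset_closure ⟨k, rfl⟩)
  have hss : (Sum.inl (k, s) : PtI I 2 a0) ≠ Sum.inl (k, s + 1) := by
    intro h
    have := (Prod.ext_iff.mp (Sum.inl.inj h)).2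
    simp at this
  exact n4_no_three P hP _ (mul_mem h hc)
    (Perm.isThreeCycle_swap_mul_swap_same (Ne.symm hv) hss hne)

/-- a transposition in a `2`-group containing `Bs` is one of the `cyc j` -/
theorem n4_swap_mem {I : Type} [Fintype I] [DecidableEq I] (a0 : ℕ) (ha0 : a0 ≤ 1)
    (P : Subgroup (Perm (PtI I 2 a0))) (hP : IsPGroup 2 P) (hB : Bs (I := I) 2 a0 ≤ P)
    (u v : PtI I 2 a0) (huv : u ≠ v) (h : swap u v ∈ P) : ∃ j, swap u v = cyc (I := I) 2 a0 j := by
  rcases u with ⟨k, s⟩ | e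
  · have := n4_partner a0 P hP hB k s v (Ne.symm huv) h
    subst this
    exact ⟨k, (n4_cyc_eq_swap' a0 k s).symm⟩
  · rcases v with ⟨k, s⟩ | e'
    · rw [swap_comm] at h
      have := n4_partner a0 P hP hB k s (Sum.inr e) huv h
      simp at this
    · exfalso
      apply huv
      congr 1
      have h1 : e.val < a0 := e.isLt
      have h2 : e'.val < a0 := e'.isLt
      ext
      omega

/-- block index of a point -/
def n4_idx {I : Type} (p a0 : ℕ) : PtI I p a0 → Option I :=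
  Sum.elim (fun q => some q.1) (fun _ => none)

/-- with at least three blocks, some block avoids two given points -/
theorem n4_exists_block {I : Type} [Fintype I] [DecidableEq I] (p a0 : ℕ)
    (hI : 3 ≤ Fintype.card I) (u v : PtI I p a0) :
    ∃ l : I, ∀ s : ZMod p, (Sum.inl (l, s) : PtI I p a0) ≠ u ∧ (Sum.inl (l, s) : PtI I p a0) ≠ v := by
  classical
  set bad : Finset I := (n4_idx p a0 u).toFinset ∪ (n4_idx p a0 v).toFinset with hbad
  have hcard : bad.card ≤ 2 := by
    refine (Finset.card_union_le _ _).trans ?_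
    have h1 : (n4_idx p a0 u).toFinset.card ≤ 1 := by
      cases n4_idx p a0 u <;> simp
    have h2 : (n4_idx p a0 v).toFinset.card ≤ 1 := by
      cases n4_idx p a0 v <;> simp
    omega
  have hex : ∃ l : I, l ∉ bad := by
    by_contra hcon
    push Not at hcon
    have hsub : (Finset.univ : Finset I) ⊆ bad := fun l _ => hcon l
    have := Finset.card_le_card hsub
    rw [Finset.card_univ] at this
    omega
  obtain ⟨l, hl⟩ := hex
  refine ⟨l, fun s => ⟨?_, ?_⟩⟩
  · intro h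
    apply hl
    rw [hbad, Finset.mem_union]
    left
    rw [Option.mem_toFinset, ← h]
    simp [n4_idx]
  · intro h
    apply hl
    rw [hbad, Finset.mem_union]
    right
    rw [Option.mem_toFinset, ← h]
    simp [n4_idx]

/-- main step: conjugation by `g` permutes the `cyc k` -/
theorem n4_conj_cyc {I : Type} [Fintype I] [DecidableEq I] (a0 : ℕ)
    (hI : 3 ≤ Fintype.card I) (ha0 : a0 ≤ 1)
    (Shat S0 : Subgroup (Perm (PtI I 2 a0))) (hShat : IsPGroup 2 Shat)
    (hB : Bs (I := I) 2 a0 ≤ Shat) (hS0 : S0 = Shat ⊓ alternatingGroup (PtI I 2 a0))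
    (hmax : ∀ Q' : Subgroup (Perm (PtI I 2 a0)), IsPGroup 2 Q' →
      Q' ≤ alternatingGroup (PtI I 2 a0) → S0 ≤ Q' → Q' = S0)
    (g : Perm (PtI I 2 a0))
    (hg : ∀ x ∈ S0, g * x * g⁻¹ ∈ S0) (hg' : ∀ x ∈ S0, g⁻¹ * x * g ∈ S0) (k : I) :
    ∃ j, g * cyc (I := I) 2 a0 k * g⁻¹ = cyc (I := I) 2 a0 j := by
  -- every `cyc l` normalizes `S0`
  have hcn : ∀ l : I, ∀ x ∈ S0, cyc (I := I) 2 a0 l * x * (cyc (I := I) 2 a0 l)⁻¹ ∈ S0 := by
    intro l x hx
    rw [hS0] at hx ⊢
    have hc : cyc (I := I) 2 a0 l ∈ Shat := hB (subset_closure ⟨l, rfl⟩)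
    have hx' := Subgroup.mem_inf.mp hx
    exact Subgroup.mem_inf.mpr ⟨Shat.mul_mem (Shat.mul_mem hc hx'.1) (Shat.inv_mem hc),
      (inferInstance : (alternatingGroup (PtI I 2 a0)).Normal).conj_mem x hx'.2 _⟩
  set t := g * cyc (I := I) 2 a0 k * g⁻¹ with ht
  have htn : ∀ x ∈ S0, t * x * t⁻¹ ∈ S0 := by
    intro x hx
    have e : t * x * t⁻¹ =
        g * (cyc (I := I) 2 a0 k * (g⁻¹ * x * g) * (cyc (I := I) 2 a0 k)⁻¹) * g⁻¹ := by
      rw [ht]; group
    rw [e]
    exact hg _ (hcn k _ (hg' x hx))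
  set u := g (Sum.inl (k, 0)) with hu
  set v := g (Sum.inl (k, 1)) with hv
  have huv : u ≠ v := by
    intro h
    have := g.injective h
    have := (Prod.ext_iff.mp (Sum.inl.inj this)).2
    simp at this
  have hts : t = swap u v := by
    rw [ht, n4_cyc_eq_swap, hu, hv, ← swap_apply_apply]
  obtain ⟨l, hl⟩ := n4_exists_block (I := I) 2 a0 hI u v
  set c := cyc (I := I) 2 a0 l with hc
  have hcs : c = swap (Sum.inl (l, 0)) (Sum.inl (l, 1)) := n4_cyc_eq_swap a0 l
  have h01 : (Sum.inl (l, 0) : PtI I 2 a0) ≠ Sum.inl (l, 1) := by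
    intro h
    have := (Prod.ext_iff.mp (Sum.inl.inj h)).2
    simp at this
  have hdis : Perm.Disjoint t c := by
    rw [hts, hcs]
    apply Perm.disjoint_swap_swap
    simp only [List.nodup_cons, List.mem_cons, List.not_mem_nil, or_false, not_or,
      List.nodup_nil, and_true, not_false_eq_true]
    exact ⟨⟨huv, (hl 0).1.symm, (hl 1).1.symm⟩, ⟨(hl 0).2.symm, (hl 1).2.symm⟩, h01⟩
  have hcomm : t * c = c * t := hdis.commute.eq
  obtain ⟨w, hw⟩ : ∃ w, w = t * c := ⟨_, rfl⟩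
  have hwA : w ∈ alternatingGroup (PtI I 2 a0) := by
    rw [Perm.mem_alternatingGroup, hw, map_mul, hts, hcs, Perm.sign_swap huv, Perm.sign_swap h01]
    simp
  have hwn : ∀ x ∈ S0, w * x * w⁻¹ ∈ S0 := by
    intro x hx
    have e : w * x * w⁻¹ = t * (c * x * c⁻¹) * t⁻¹ := by rw [hw]; group
    rw [e]
    exact htn _ (hcn l x hx)
  have htt : t * t = 1 := by rw [hts]; exact swap_mul_self u v
  have hcc : c * c = 1 := by rw [hcs]; exact swap_mul_self _ _
  have hww : w * w = 1 := by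
    calc w * w = t * (c * t) * c := by rw [hw]; group
      _ = t * (t * c) * c := by rw [hcomm]
      _ = (t * t) * (c * c) := by group
      _ = 1 := by rw [htt, hcc, one_mul]
  have hwinv : w⁻¹ = w := by rw [inv_eq_iff_mul_eq_one]; exact hww
  have hzp : IsPGroup 2 (zpowers w) := by
    rintro ⟨y, hy⟩
    rw [mem_zpowers_iff] at hy
    obtain ⟨n, rfl⟩ := hy
    refine ⟨1, ?_⟩
    apply Subtype.ext
    simp only [pow_one, SubmonoidClass.coe_pow, OneMemClass.coe_one]
    rw [← zpow_natCast, ← zpow_mul, mul_comm, zpow_mul, zpow_natCast, pow_two, hww, one_zpow]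
  have hS0p : IsPGroup 2 S0 := by rw [hS0]; exact hShat.to_le inf_le_left
  have hzn : zpowers w ≤ normalizer (S0 : Set (Perm (PtI I 2 a0))) := by
    rw [zpowers_le]
    rw [mem_normalizer_iff]
    intro x
    constructor
    · exact hwn x
    · intro hx
      have := hwn _ hx
      rw [hwinv] at this
      have e : w * (w * x * w) * w = (w * w) * x * (w * w) := by group
      rw [hwinv] at hx
      have := hwn _ hx
      rw [hwinv, e, hww, one_mul, mul_one] at this
      exact this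
  have hQ : IsPGroup 2 (zpowers w ⊔ S0 : Subgroup (Perm (PtI I 2 a0))) :=
    hzp.to_sup_of_normal_right' hS0p hzn
  have hQA : (zpowers w ⊔ S0 : Subgroup (Perm (PtI I 2 a0))) ≤ alternatingGroup (PtI I 2 a0) := by
    apply sup_le
    · rw [zpowers_le]; exact hwA
    · rw [hS0]; exact inf_le_right
  have hQe := hmax _ hQ hQA le_sup_right
  have hwS : w ∈ S0 := by
    rw [← hQe]
    exact le_sup_left (a := zpowers w) (mem_zpowers w)
  have hwShat : w ∈ Shat := by
    rw [hS0] at hwS; exact (Subgroup.mem_inf.mp hwS).1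
  have hcShat : c ∈ Shat := hB (subset_closure ⟨l, rfl⟩)
  have htShat : t ∈ Shat := by
    have e : t = w * c⁻¹ := by rw [hw]; group
    rw [e]
    exact mul_mem hwShat (inv_mem hcShat)
  rw [hts] at htShat ⊢
  exact n4_swap_mem a0 ha0 Shat hShat hB u v huv htShat

/-- conjugation by `g` preserves `Bs` and `Bg` -/
theorem n4_conj_mem_Bg {I : Type} [Fintype I] [DecidableEq I] (a0 : ℕ)
    (g : Perm (PtI I 2 a0)) (hgA : g ∈ alternatingGroup (PtI I 2 a0))
    (h : ∀ k : I, ∃ j, g * cyc (I := I) 2 a0 k * g⁻¹ = cyc (I := I) 2 a0 j) :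
    ∀ x ∈ Bg (I := I) 2 a0, g * x * g⁻¹ ∈ Bg (I := I) 2 a0 := by
  have hBs : ∀ x ∈ Bs (I := I) 2 a0, g * x * g⁻¹ ∈ Bs (I := I) 2 a0 := by
    intro x hx
    unfold Bs at hx
    induction hx using closure_induction with
    | mem z hz =>
      obtain ⟨k, rfl⟩ := hz
      obtain ⟨j, hj⟩ := h k
      rw [hj]
      exact subset_closure ⟨j, rfl⟩
    | one => simp
    | mul a b _ _ iha ihb =>
      have e : g * (a * b) * g⁻¹ = (g * a * g⁻¹) * (g * b * g⁻¹) := by group
      rw [e]; exact mul_mem iha ihb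
    | inv a _ iha =>
      have e : g * a⁻¹ * g⁻¹ = (g * a * g⁻¹)⁻¹ := by group
      rw [e]; exact inv_mem iha
  intro x hx
  have hx' := Subgroup.mem_inf.mp hx
  exact Subgroup.mem_inf.mpr ⟨hBs x hx'.1,
    (inferInstance : (alternatingGroup (PtI I 2 a0)).Normal).conj_mem x hx'.2 _⟩

/-- in a finite group, one-sided invariance under conjugation gives the other side -/
theorem n4_inv_conj {G : Type*} [Group G] [Finite G] (H : Subgroup G) (g : G)
    (hg : ∀ x ∈ H, g * x * g⁻¹ ∈ H) : ∀ x ∈ H, g⁻¹ * x * g ∈ H := by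
  have hle : H.map (MulAut.conj g).toMonoidHom ≤ H := by
    rintro _ ⟨x, hx, rfl⟩
    simpa using hg x hx
  have hcard : Nat.card (H.map (MulAut.conj g).toMonoidHom) = Nat.card H :=
    Subgroup.card_map_of_injective (MulAut.conj g).injective
  have heq : H.map (MulAut.conj g).toMonoidHom = H :=
    Subgroup.eq_of_le_of_card_ge hle (le_of_eq hcard.symm)
  intro x hx
  rw [← heq] at hx
  obtain ⟨y, hy, rfl⟩ := hx
  simpa [mul_assoc] using hy

/-- [N4] (`p = 2`) `N_A(S0) ≤ N(Bg)`: for `g ∈ A` normalizing `S0` the transposition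
`t' = g * cyc k * g⁻¹` normalizes `S0`; if `t'` is disjoint from some `cyc l` then `t' * cyc l ∈ S0`
by maximality, so `t' ∈ Shat` and then `t'` is one of the `cyc j`; otherwise `t'` meets at least
three disjoint transpositions, absurd. -/
theorem normalizer_le_two {I : Type} [Fintype I] [DecidableEq I] (p a0 : ℕ) [Fact p.Prime]
    (hp : p = 2) (hI : 3 ≤ Fintype.card I) (ha0 : a0 ≤ 1)
    (Shat S0 : Subgroup (Perm (PtI I p a0))) (hShat : IsPGroup p Shat)
    (hB : Bs (I := I) p a0 ≤ Shat) (hS0 : S0 = Shat ⊓ alternatingGroup (PtI I p a0))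
    (hmax : ∀ Q' : Subgroup (Perm (PtI I p a0)), IsPGroup p Q' →
      Q' ≤ alternatingGroup (PtI I p a0) → S0 ≤ Q' → Q' = S0)
    (g : Perm (PtI I p a0)) (hgA : g ∈ alternatingGroup (PtI I p a0))
    (hg : ∀ x ∈ S0, g * x * g⁻¹ ∈ S0) :
    g ∈ normalizer ((Bg (I := I) p a0 : Subgroup (Perm (PtI I p a0))) : Set (Perm (PtI I p a0))) := by
  subst hp
  have hg' := n4_inv_conj S0 g hg
  have hgi : ∀ x ∈ S0, g⁻¹ * x * g⁻¹⁻¹ ∈ S0 := by
    intro x hx; rw [inv_inv]; exact hg' x hx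
  have hgi' : ∀ x ∈ S0, g⁻¹⁻¹ * x * g⁻¹ ∈ S0 := by
    intro x hx; rw [inv_inv]; exact hg x hx
  have h1 := n4_conj_mem_Bg a0 g hgA
    (n4_conj_cyc a0 hI ha0 Shat S0 hShat hB hS0 hmax g hg hg')
  have h2 := n4_conj_mem_Bg a0 g⁻¹ (inv_mem hgA)
    (n4_conj_cyc a0 hI ha0 Shat S0 hShat hB hS0 hmax g⁻¹ hgi hgi')
  rw [mem_normalizer_iff]
  intro x
  constructor
  · exact h1 x
  · intro hx
    have := h2 _ hx
    rw [inv_inv] at this
    have e : g⁻¹ * (g * x * g⁻¹) * g = x := by group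
    rwa [e] at this

end Cfsg.Agent.Lib.Helper87.AltF
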