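import Mathlib
import Cfsg.Agent.Lib.Helper87.AltModel
import Cfsg.Agent.Lib.Helper59.AltFN4

set_option autoImplicit false

/-! # S5165 hive, leaf K2 (`p = 2`): `N_A(Bg)` is generated by its `2`-elements. -/

namespace Cfsg.Agent.Lib.Helper87.AltF

open Equiv Subgroup

/-- the product of all `cyc k` (for `p = 2`): the "partner" involution -/
def k2_pi {I : Type} (a0 : ℕ) : Perm (PtI I 2 a0) :=
  blk 2 a0 1 (fun _ => Equiv.addRight (1 : ZMod 2))

theorem k2_pi_inl {I : Type} (a0 : ℕ) (k : I) (s : ZMod 2) :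
    k2_pi (I := I) a0 (Sum.inl (k, s)) = Sum.inl (k, s + 1) := by
  simp [k2_pi]

theorem k2_pi_inr {I : Type} (a0 : ℕ) (e : Fin a0) :
    k2_pi (I := I) a0 (Sum.inr e) = Sum.inr e := rfl

theorem k2_add_self (s : ZMod 2) : s + s = 0 := by
  revert s; decide

theorem k2_pi_pi {I : Type} (a0 : ℕ) (y : PtI I 2 a0) :
    k2_pi (I := I) a0 (k2_pi a0 y) = y := by
  rcases y with ⟨k, s⟩ | e
  · rw [k2_pi_inl, k2_pi_inl, add_assoc, n4_one_add_one, add_zero]
  · rfl

theorem k2_pi_ne {I : Type} (a0 : ℕ) (k : I) (s : ZMod 2) :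
    k2_pi (I := I) a0 (Sum.inl (k, s)) ≠ Sum.inl (k, s) := by
  rw [k2_pi_inl]
  intro h
  have := (Prod.ext_iff.mp (Sum.inl.inj h)).2
  simp at this

/-- elements of `Bs` move every point inside its block -/
theorem k2_Bs_move {I : Type} [DecidableEq I] (a0 : ℕ) :
    ∀ b ∈ Bs (I := I) 2 a0, ∀ y : PtI I 2 a0, b y = y ∨ b y = k2_pi a0 y := by
  intro b hb
  unfold Bs at hb
  induction hb using closure_induction with
  | mem z hz =>
    obtain ⟨k, rfl⟩ := hz
    intro y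
    rcases y with ⟨l, s⟩ | e
    · by_cases h : l = k
      · subst h
        right
        rw [cyc_inl_self, k2_pi_inl]
      · left
        exact cyc_inl_of_ne _ _ h s
    · left; rfl
  | one => intro y; left; rfl
  | mul a b _ _ iha ihb =>
    intro y
    rw [Perm.mul_apply]
    rcases ihb y with h | h
    · rw [h]; exact iha y
    · rw [h]
      rcases iha (k2_pi a0 y) with h' | h'
      · right; exact h'
      · left; rw [h', k2_pi_pi]
  | inv a _ iha =>
    intro y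
    have e : a (a⁻¹ y) = y := by simp
    rcases iha (a⁻¹ y) with h | h
    · left
      rw [e] at h
      exact h.symm
    · right
      rw [e] at h
      have h2 := congrArg (k2_pi a0) h
      rw [k2_pi_pi] at h2
      exact h2.symm

/-- `cyc k * cyc l` lies in `Bg` for `k ≠ l` -/
theorem k2_pair_mem_Bg {I : Type} [Fintype I] [DecidableEq I] (a0 : ℕ) (k l : I) :
    cyc (I := I) 2 a0 k * cyc 2 a0 l ∈ Bg (I := I) 2 a0 := by
  have h01 : ∀ j : I, (Sum.inl (j, 0) : PtI I 2 a0) ≠ Sum.inl (j, 1) := by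
    intro j h
    have := (Prod.ext_iff.mp (Sum.inl.inj h)).2
    simp at this
  refine Subgroup.mem_inf.mpr ⟨mul_mem (Subgroup.subset_closure ⟨k, rfl⟩) (Subgroup.subset_closure ⟨l, rfl⟩), ?_⟩
  rw [Perm.mem_alternatingGroup, map_mul, n4_cyc_eq_swap, n4_cyc_eq_swap,
    Perm.sign_swap (h01 k), Perm.sign_swap (h01 l)]
  simp

/-- an element normalizing `Bg` commutes with the partner involution on block points -/
theorem k2_comm_block {I : Type} [Fintype I] [DecidableEq I] (a0 : ℕ)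
    (hI : 2 ≤ Fintype.card I) (g : Perm (PtI I 2 a0))
    (hgn : ∀ x ∈ Bg (I := I) 2 a0, g * x * g⁻¹ ∈ Bg (I := I) 2 a0) (k : I) (s : ZMod 2) :
    g (k2_pi a0 (Sum.inl (k, s))) = k2_pi a0 (g (Sum.inl (k, s))) := by
  obtain ⟨l, hl⟩ := Fintype.exists_ne_of_one_lt_card (by omega : 1 < Fintype.card I) k
  set b := cyc (I := I) 2 a0 k * cyc 2 a0 l with hb
  have hbB : b ∈ Bg (I := I) 2 a0 := k2_pair_mem_Bg a0 k l
  have hbx : b (Sum.inl (k, s)) = k2_pi a0 (Sum.inl (k, s)) := by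
    rw [hb, Perm.mul_apply, cyc_inl_of_ne _ _ (Ne.symm hl), cyc_inl_self, k2_pi_inl]
  have hx' := (Subgroup.mem_inf.mp (hgn b hbB)).1
  have hval : (g * b * g⁻¹) (g (Sum.inl (k, s))) = g (k2_pi a0 (Sum.inl (k, s))) := by
    have e : g⁻¹ (g (Sum.inl (k, s))) = Sum.inl (k, s) := by simp
    simp only [Perm.mul_apply]
    rw [e, hbx]
  rcases k2_Bs_move a0 _ hx' (g (Sum.inl (k, s))) with h | h
  · exfalso
    rw [hval] at h
    exact k2_pi_ne a0 k s (g.injective h)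
  · rw [hval] at h
    exact h

/-- an element normalizing `Bg` maps extra points to extra points -/
theorem k2_extra {I : Type} [Fintype I] [DecidableEq I] (a0 : ℕ)
    (hI : 2 ≤ Fintype.card I) (g : Perm (PtI I 2 a0))
    (hgn' : ∀ x ∈ Bg (I := I) 2 a0, g⁻¹ * x * g⁻¹⁻¹ ∈ Bg (I := I) 2 a0) (e : Fin a0) :
    ∃ e' : Fin a0, g (Sum.inr e) = Sum.inr e' := by
  rcases h : g (Sum.inr e) with ⟨k, s⟩ | e'
  · exfalso
    have h1 : g⁻¹ (Sum.inl (k, s)) = Sum.inr e := by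
      rw [Perm.inv_eq_iff_eq]; exact h.symm
    have h2 := k2_comm_block a0 hI g⁻¹ hgn' k s
    rw [h1, k2_pi_inr, ← h1] at h2
    exact k2_pi_ne a0 k s ((g⁻¹).injective h2)
  · exact ⟨e', rfl⟩

/-- an element normalizing `Bg` maps block points to block points -/
theorem k2_block {I : Type} [Fintype I] [DecidableEq I] (a0 : ℕ)
    (hI : 2 ≤ Fintype.card I) (g : Perm (PtI I 2 a0))
    (hgn : ∀ x ∈ Bg (I := I) 2 a0, g * x * g⁻¹ ∈ Bg (I := I) 2 a0) (k : I) (s : ZMod 2) :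
    ∃ (k' : I) (s' : ZMod 2), g (Sum.inl (k, s)) = Sum.inl (k', s') := by
  rcases h : g (Sum.inl (k, s)) with ⟨k', s'⟩ | e'
  · exact ⟨k', s', rfl⟩
  · exfalso
    have h1 : g⁻¹ (Sum.inr e') = Sum.inl (k, s) := by
      rw [Perm.inv_eq_iff_eq]; exact h.symm
    have hgn2 : ∀ x ∈ Bg (I := I) 2 a0, g⁻¹⁻¹ * x * g⁻¹⁻¹⁻¹ ∈ Bg (I := I) 2 a0 := by
      intro x hx; rw [inv_inv]; exact hgn x hx
    obtain ⟨e'', he''⟩ := k2_extra a0 hI g⁻¹ hgn2 e'
    rw [h1] at he''
    exact Sum.inl_ne_inr he''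

/-- the block permutation induced by `g` -/
noncomputable def k2_sig {I : Type} (a0 : ℕ) (g : Perm (PtI I 2 a0)) (k : I) : I :=
  (n4_idx 2 a0 (g (Sum.inl (k, 0)))).getD k

theorem k2_sig_spec {I : Type} [Fintype I] [DecidableEq I] (a0 : ℕ)
    (hI : 2 ≤ Fintype.card I) (g : Perm (PtI I 2 a0))
    (hgn : ∀ x ∈ Bg (I := I) 2 a0, g * x * g⁻¹ ∈ Bg (I := I) 2 a0) (k : I) :
    ∃ s0 : ZMod 2, ∀ s : ZMod 2, g (Sum.inl (k, s)) = Sum.inl (k2_sig a0 g k, s + s0) := by
  obtain ⟨k', s', h⟩ := k2_block a0 hI g hgn k 0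
  have hsig : k2_sig a0 g k = k' := by
    unfold k2_sig
    rw [h]
    simp [n4_idx]
  refine ⟨s', fun s => ?_⟩
  rcases n4_zmod2 s with rfl | rfl
  · rw [h, hsig, zero_add]
  · have h1 := k2_comm_block a0 hI g hgn k 0
    rw [k2_pi_inl, zero_add, h, k2_pi_inl] at h1
    rw [h1, hsig, add_comm]

theorem k2_sig_injective {I : Type} [Fintype I] [DecidableEq I] (a0 : ℕ)
    (hI : 2 ≤ Fintype.card I) (g : Perm (PtI I 2 a0))
    (hgn : ∀ x ∈ Bg (I := I) 2 a0, g * x * g⁻¹ ∈ Bg (I := I) 2 a0) :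
    Function.Injective (k2_sig a0 g) := by
  intro k k' hkk
  obtain ⟨s0, h0⟩ := k2_sig_spec a0 hI g hgn k
  obtain ⟨s1, h1⟩ := k2_sig_spec a0 hI g hgn k'
  have e1 := h0 0
  have e2 := h1 (s0 + s1)
  rw [hkk, zero_add] at e1
  rw [add_assoc, k2_add_self, add_zero] at e2
  have := g.injective (e1.trans e2.symm)
  exact (Prod.ext_iff.mp (Sum.inl.inj this)).1

/-- `lift` is multiplicative -/
theorem k2_lift_mul {I : Type} (p a0 : ℕ) (a b : Perm I) :
    lift p a0 (a * b) = lift p a0 a * lift p a0 b := by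
  ext y
  rcases y with ⟨k, s⟩ | e <;> simp [Perm.mul_apply]

theorem k2_lift_one {I : Type} (p a0 : ℕ) : lift (I := I) p a0 1 = 1 := by
  ext y
  rcases y with ⟨k, s⟩ | e <;> simp

theorem k2_lift_inv {I : Type} (p a0 : ℕ) (a : Perm I) :
    lift p a0 a⁻¹ = (lift p a0 a)⁻¹ := by
  rw [eq_inv_iff_mul_eq_one, ← k2_lift_mul, inv_mul_cancel, k2_lift_one]

/-- `lift σ` is even for `p = 2` -/
theorem k2_lift_mem_alt {I : Type} [Fintype I] [DecidableEq I] (a0 : ℕ) (σ : Perm I) :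
    lift 2 a0 σ ∈ alternatingGroup (PtI I 2 a0) := by
  have e : lift 2 a0 σ =
      Equiv.sumCongr (Equiv.prodCongrLeft (fun _ : ZMod 2 => σ)) (Equiv.refl (Fin a0)) := by
    ext y
    rcases y with ⟨k, s⟩ | e <;> rfl
  rw [Perm.mem_alternatingGroup, e]
  have h := Perm.sign_sumCongr (Equiv.prodCongrLeft (fun _ : ZMod 2 => σ)) (Equiv.refl (Fin a0))
  rw [h, Perm.sign_prodCongrLeft]
  have h2 : (Finset.univ : Finset (ZMod 2)).card = 2 := by
    rw [Finset.card_univ, ZMod.card]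
  simp only [Finset.prod_const, h2, Perm.sign_refl, mul_one]
  rw [pow_two]
  exact Int.units_mul_self _

/-- conjugation by `lift τ` permutes the `cyc k` -/
theorem k2_lift_conj_cyc {I : Type} [DecidableEq I] (p a0 : ℕ) (τ : Perm I) (k : I) :
    lift p a0 τ * cyc p a0 k * (lift p a0 τ)⁻¹ = cyc p a0 (τ k) := by
  rw [mul_inv_eq_iff_eq_mul]
  ext y
  rcases y with ⟨l, s⟩ | e
  · by_cases h : l = k
    · subst h
      simp [Perm.mul_apply, cyc_inl_self]
    · have h' : τ l ≠ τ k := fun hh => h (τ.injective hh)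
      simp [Perm.mul_apply, cyc_inl_of_ne _ _ h, cyc_inl_of_ne _ _ h']
  · simp [Perm.mul_apply]

/-- `lift τ` normalizes `Bg` (`p = 2`) -/
theorem k2_lift_mem_normalizer {I : Type} [Fintype I] [DecidableEq I] (a0 : ℕ) (τ : Perm I) :
    lift 2 a0 τ ∈ normalizer ((Bg (I := I) 2 a0 : Subgroup (Perm (PtI I 2 a0))) :
      Set (Perm (PtI I 2 a0))) := by
  have h1 := n4_conj_mem_Bg a0 (lift 2 a0 τ) (k2_lift_mem_alt a0 τ)
    (fun k => ⟨τ k, k2_lift_conj_cyc 2 a0 τ k⟩)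
  have h2 := n4_conj_mem_Bg a0 (lift 2 a0 τ⁻¹) (k2_lift_mem_alt a0 τ⁻¹)
    (fun k => ⟨τ⁻¹ k, k2_lift_conj_cyc 2 a0 τ⁻¹ k⟩)
  rw [mem_normalizer_iff]
  intro x
  constructor
  · exact h1 x
  · intro hx
    have := h2 _ hx
    rw [k2_lift_inv, inv_inv] at this
    have e : (lift 2 a0 τ)⁻¹ * (lift 2 a0 τ * x * (lift 2 a0 τ)⁻¹) * lift 2 a0 τ = x := by group
    rwa [e] at this

/-- an involution (or the identity) is a `2`-element -/
theorem k2_order_two {G : Type*} [Group G] (x : G) (h : x * x = 1) :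
    ∃ k : ℕ, orderOf x = 2 ^ k := by
  have hd : orderOf x ∣ 2 := orderOf_dvd_of_pow_eq_one (by rw [pow_two]; exact h)
  rcases (Nat.dvd_prime Nat.prime_two).mp hd with h1 | h2
  · exact ⟨0, by rw [h1, pow_zero]⟩
  · exact ⟨1, by rw [h2, pow_one]⟩

/-- [K2] (`p = 2`) `N_A(Bg)` is generated by its `2`-elements: `g = b * lift σ` with `b ∈ Bg`, and
`lift σ` is a product of lifts of transpositions. -/
theorem normalizer_Bg_le_closure_two {I : Type} [Fintype I] [DecidableEq I] (p a0 : ℕ)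
    [Fact p.Prime] (hp : p = 2) (hI : 3 ≤ Fintype.card I) (ha0 : a0 ≤ 1)
    (g : Perm (PtI I p a0)) (hgA : g ∈ alternatingGroup (PtI I p a0))
    (hg : g ∈ normalizer ((Bg (I := I) p a0 : Subgroup (Perm (PtI I p a0))) : Set (Perm (PtI I p a0)))) :
    g ∈ Subgroup.closure {x : Perm (PtI I p a0) | x ∈ alternatingGroup (PtI I p a0) ∧
      x ∈ normalizer ((Bg (I := I) p a0 : Subgroup (Perm (PtI I p a0))) : Set (Perm (PtI I p a0))) ∧
      ∃ k : ℕ, orderOf x = p ^ k} := by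
  subst hp
  have hI2 : 2 ≤ Fintype.card I := by omega
  have hgn : ∀ x ∈ Bg (I := I) 2 a0, g * x * g⁻¹ ∈ Bg (I := I) 2 a0 :=
    fun x hx => ((mem_normalizer_iff.mp hg) x).mp hx
  have hgn' : ∀ x ∈ Bg (I := I) 2 a0, g⁻¹ * x * g⁻¹⁻¹ ∈ Bg (I := I) 2 a0 :=
    fun x hx => ((mem_normalizer_iff.mp (inv_mem hg)) x).mp hx
  set S : Set (Perm (PtI I 2 a0)) := {x : Perm (PtI I 2 a0) | x ∈ alternatingGroup (PtI I 2 a0) ∧
      x ∈ normalizer ((Bg (I := I) 2 a0 : Subgroup (Perm (PtI I 2 a0))) : Set (Perm (PtI I 2 a0))) ∧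
      ∃ k : ℕ, orderOf x = 2 ^ k} with hS
  -- lifts of all block permutations lie in the closure
  have hlift : ∀ τ : Perm I, lift 2 a0 τ ∈ closure S := by
    intro τ
    have hτ : τ ∈ closure {σ : Perm I | σ.IsSwap} := by
      rw [Perm.closure_isSwap]; exact mem_top τ
    induction hτ using closure_induction with
    | mem z hz =>
      apply Subgroup.subset_closure
      refine ⟨k2_lift_mem_alt a0 z, k2_lift_mem_normalizer a0 z, ?_⟩
      apply k2_order_two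
      obtain ⟨i, j, _, rfl⟩ := hz
      rw [← k2_lift_mul, swap_mul_self, k2_lift_one]
    | one => rw [k2_lift_one]; exact one_mem _
    | mul a b _ _ iha ihb => rw [k2_lift_mul]; exact mul_mem iha ihb
    | inv a _ iha => rw [k2_lift_inv]; exact inv_mem iha
  -- the induced block permutation
  have hinj := k2_sig_injective a0 hI2 g hgn
  set σ : Perm I := Equiv.ofBijective (k2_sig a0 g)
    ⟨hinj, Finite.injective_iff_surjective.mp hinj⟩ with hσ
  have hσk : ∀ k, σ k = k2_sig a0 g k := fun k => rfl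
  obtain ⟨b, hb⟩ : ∃ b, b = (lift 2 a0 σ)⁻¹ * g := ⟨_, rfl⟩
  have hbl : ∀ k : I, ∃ s0 : ZMod 2, ∀ s : ZMod 2,
      b (Sum.inl (k, s)) = Sum.inl (k, s + s0) := by
    intro k
    obtain ⟨s0, h0⟩ := k2_sig_spec a0 hI2 g hgn k
    refine ⟨s0, fun s => ?_⟩
    rw [hb, Perm.mul_apply, h0 s, Perm.inv_eq_iff_eq, lift_inl, hσk]
  have hbr : ∀ e : Fin a0, b (Sum.inr e) = Sum.inr e := by
    intro e
    obtain ⟨e', he'⟩ := k2_extra a0 hI2 g hgn' e
    have : e' = e := by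
      have h1 : e.val < a0 := e.isLt
      have h2 : e'.val < a0 := e'.isLt
      ext
      omega
    rw [hb, Perm.mul_apply, he', this, Perm.inv_eq_iff_eq, lift_inr]
  have hbb : b * b = 1 := by
    ext y
    rcases y with ⟨k, s⟩ | e
    · obtain ⟨s0, h0⟩ := hbl k
      rw [Perm.mul_apply, h0, h0, add_assoc, k2_add_self, add_zero]
      rfl
    · rw [Perm.mul_apply, hbr, hbr]
      rfl
  have hSA : closure S ≤ alternatingGroup (PtI I 2 a0) := by
    rw [closure_le]; intro x hx; exact hx.1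
  have hSN : closure S ≤ normalizer ((Bg (I := I) 2 a0 : Subgroup (Perm (PtI I 2 a0))) :
      Set (Perm (PtI I 2 a0))) := by
    rw [closure_le]; intro x hx; exact hx.2.1
  have hbS : b ∈ S := by
    refine ⟨?_, ?_, k2_order_two b hbb⟩
    · rw [hb]; exact mul_mem (inv_mem (hSA (hlift σ))) hgA
    · rw [hb]; exact mul_mem (inv_mem (hSN (hlift σ))) hg
  have hge : g = lift 2 a0 σ * b := by rw [hb]; group
  rw [hge]
  exact mul_mem (hlift σ) (Subgroup.subset_closure hbS)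

end Cfsg.Agent.Lib.Helper87.AltF
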