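import Mathlib
import Cfsg.Agent.Lib.Helper87.AltModel

set_option autoImplicit false

/-! # S5165 hive, leaf N3 (`p = 2`): the Sylow `2`-subgroups `Shat ≥ Bs`, `S0 = Shat ⊓ A`. -/

namespace Cfsg.Agent.Lib.Helper87.AltF

open Equiv Subgroup Pointwise

/-- the generators of `Bs` commute -/
theorem n3_cyc_comm {I : Type} [DecidableEq I] (p a0 : ℕ) (j k : I) :
    cyc (I := I) p a0 j * cyc p a0 k = cyc p a0 k * cyc p a0 j := by
  by_cases hjk : j = k
  · subst hjk; rfl
  ext x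
  rcases x with ⟨l, s⟩ | x
  · by_cases h1 : l = j
    · subst h1
      simp [cyc, Perm.mul_apply, hjk]
    · by_cases h2 : l = k
      · subst h2
        simp [cyc, Perm.mul_apply, h1]
      · simp [cyc, Perm.mul_apply, h1, h2]
  · simp [Perm.mul_apply]

/-- for `p = 2` the generators of `Bs` are involutions -/
theorem n3_cyc_sq {I : Type} [DecidableEq I] (a0 : ℕ) (k : I) :
    cyc (I := I) 2 a0 k * cyc 2 a0 k = 1 := by
  ext x
  rcases x with ⟨l, s⟩ | x
  · by_cases h1 : l = k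
    · subst h1
      have : s + 1 + 1 = s := by
        have h2 : (1 : ZMod 2) + 1 = 0 := by decide
        rw [add_assoc, h2, add_zero]
      simp [cyc, Perm.mul_apply, this]
    · simp [cyc, Perm.mul_apply, h1]
  · simp [Perm.mul_apply]

/-- `Bs` is commutative -/
theorem n3_Bs_comm {I : Type} [DecidableEq I] (p a0 : ℕ) :
    ∀ x ∈ Bs (I := I) p a0, ∀ y ∈ Bs (I := I) p a0, x * y = y * x := by
  have h1 : Bs (I := I) p a0 ≤ centralizer (Set.range (cyc (I := I) p a0)) := by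
    unfold Bs
    rw [closure_le]
    rintro _ ⟨j, rfl⟩
    rw [SetLike.mem_coe, mem_centralizer_iff]
    rintro _ ⟨k, rfl⟩
    exact n3_cyc_comm p a0 k j
  have h2 : Bs (I := I) p a0 ≤ centralizer (Bs (I := I) p a0 : Set (Perm (PtI I p a0))) := by
    intro x hx
    have := h1 hx
    unfold Bs
    rw [centralizer_closure]
    exact this
  intro x hx y hy
  have := h2 hy
  rw [mem_centralizer_iff] at this
  exact this x hx

/-- for `p = 2`, `Bs` has exponent `2` -/
theorem n3_Bs_sq {I : Type} [DecidableEq I] (a0 : ℕ) :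
    ∀ x ∈ Bs (I := I) 2 a0, x * x = 1 := by
  intro x hx
  have key : ∀ y ∈ Bs (I := I) 2 a0, y ∈ Bs (I := I) 2 a0 ∧ y * y = 1 := by
    intro y hy
    unfold Bs at hy
    induction hy using closure_induction with
    | mem z hz =>
      obtain ⟨k, rfl⟩ := hz
      exact ⟨subset_closure ⟨k, rfl⟩, n3_cyc_sq a0 k⟩
    | one => exact ⟨one_mem _, by simp⟩
    | mul a b _ _ iha ihb =>
      refine ⟨mul_mem iha.1 ihb.1, ?_⟩
      have hc := n3_Bs_comm 2 a0 a iha.1 b ihb.1
      calc a * b * (a * b) = a * (b * a) * b := by group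
        _ = a * (a * b) * b := by rw [hc]
        _ = (a * a) * (b * b) := by group
        _ = 1 := by rw [iha.2, ihb.2, one_mul]
    | inv a _ iha =>
      refine ⟨inv_mem iha.1, ?_⟩
      have : a⁻¹ = a := by
        rw [inv_eq_iff_mul_eq_one]
        exact iha.2
      rw [this]
      exact iha.2
  exact (key x hx).2

/-- for `p = 2`, `Bs` is a `2`-group -/
theorem n3_Bs_isPGroup {I : Type} [DecidableEq I] (a0 : ℕ) :
    IsPGroup 2 (Bs (I := I) 2 a0) := by
  intro ⟨x, hx⟩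
  refine ⟨1, ?_⟩
  apply Subtype.ext
  simp only [pow_one, SubmonoidClass.coe_pow, OneMemClass.coe_one]
  rw [pow_two]
  exact n3_Bs_sq a0 x hx

/-- [N3] (`p = 2`) existence of the Sylow `2`-subgroups `Shat ≥ Bs` of the symmetric group and
`S0 = Shat ⊓ A` of the alternating group. -/
theorem exists_sylow_two {I : Type} [Fintype I] [DecidableEq I] (p a0 : ℕ) [Fact p.Prime]
    (hp : p = 2) (hI : 1 ≤ Fintype.card I) :
    ∃ Shat S0 : Subgroup (Perm (PtI I p a0)), IsPGroup p Shat ∧ Bs (I := I) p a0 ≤ Shat ∧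
      S0 = Shat ⊓ alternatingGroup (PtI I p a0) ∧ IsPGroup p S0 ∧
      ∀ Q' : Subgroup (Perm (PtI I p a0)), IsPGroup p Q' → Q' ≤ alternatingGroup (PtI I p a0) →
        S0 ≤ Q' → Q' = S0 := by
  subst hp
  obtain ⟨P, hP⟩ := IsPGroup.exists_le_sylow (n3_Bs_isPGroup (I := I) a0)
  refine ⟨P.1, P.1 ⊓ alternatingGroup (PtI I 2 a0), P.isPGroup', hP, rfl,
    P.isPGroup'.to_le inf_le_left, ?_⟩
  intro Q' hQ' hQA hle
  obtain ⟨T, hT⟩ := IsPGroup.exists_le_sylow hQ'
  obtain ⟨g, hg⟩ := MulAction.exists_smul_eq (Perm (PtI I 2 a0)) P T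
  have hTe : (T : Subgroup (Perm (PtI I 2 a0))) = MulAut.conj g • P.1 := by
    rw [← hg]
    exact Sylow.coe_subgroup_smul
  have hAe : MulAut.conj g • alternatingGroup (PtI I 2 a0) = alternatingGroup (PtI I 2 a0) :=
    Subgroup.Normal.conj_smul_eq_self g _
  have hinf : (T : Subgroup (Perm (PtI I 2 a0))) ⊓ alternatingGroup (PtI I 2 a0) =
      MulAut.conj g • (P.1 ⊓ alternatingGroup (PtI I 2 a0)) := by
    rw [Subgroup.smul_inf, hAe, hTe]
  have hcard : Nat.card ↥((T : Subgroup (Perm (PtI I 2 a0))) ⊓ alternatingGroup (PtI I 2 a0)) =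
      Nat.card ↥(P.1 ⊓ alternatingGroup (PtI I 2 a0)) := by
    rw [hinf]
    exact (Nat.card_congr (Subgroup.equivSMul (MulAut.conj g) _).toEquiv).symm
  have hQT : Q' ≤ (T : Subgroup (Perm (PtI I 2 a0))) ⊓ alternatingGroup (PtI I 2 a0) :=
    le_inf hT hQA
  have hc1 : Nat.card ↥Q' ≤ Nat.card ↥(P.1 ⊓
      alternatingGroup (PtI I 2 a0)) := by
    rw [← hcard]
    exact Subgroup.card_le_of_le hQT
  exact (Subgroup.eq_of_le_of_card_ge hle hc1).symm

end Cfsg.Agent.Lib.Helper87.AltF
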