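import Mathlib

set_option autoImplicit false
set_option linter.unusedVariables false

/-! The commutator of two permutations whose supports meet in exactly one point is a 3-cycle.
(Proof text adapted from `Cfsg/Agent/S3681.lean`, kept here under a fresh name so that
`S5713` does not depend on that file.) -/

namespace Cfsg.Agent.Lib.Helper59.MD

open Equiv Equiv.Perm

/-- If the supports of two permutations meet in exactly one point, their commutator is a
three-cycle. -/
theorem comm_isThreeCycle {α : Type*} [DecidableEq α] [Fintype α] (x y : Perm α) (a : α)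
    (hxa : x a ≠ a) (hya : y a ≠ a) (h : ∀ ω, x ω ≠ ω → y ω ≠ ω → ω = a) :
    (x * y * x⁻¹ * y⁻¹).IsThreeCycle := by
  have apply_inv : ∀ (z : Perm α) (ω : α), z (z⁻¹ ω) = ω := fun z ω => by simp
  have inv_apply : ∀ (z : Perm α) (ω : α), z⁻¹ (z ω) = ω := fun z ω => by simp
  have hxi : ∀ ω, x⁻¹ ω = ω ↔ x ω = ω := fun ω => by
    rw [Perm.inv_eq_iff_eq]; exact eq_comm
  have hyi : ∀ ω, y⁻¹ ω = ω ↔ y ω = ω := fun ω => by
    rw [Perm.inv_eq_iff_eq]; exact eq_comm
  have hxm : ∀ ω, x ω ≠ ω → x (x ω) ≠ x ω := fun ω hω hc => hω (x.injective hc)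
  have hym : ∀ ω, y ω ≠ ω → y (y ω) ≠ y ω := fun ω hω hc => hω (y.injective hc)
  have hxim : ∀ ω, x ω ≠ ω → x (x⁻¹ ω) ≠ x⁻¹ ω := fun ω hω hc => by
    rw [apply_inv] at hc
    exact hω ((hxi ω).mp hc.symm)
  have hyim : ∀ ω, y ω ≠ ω → y (y⁻¹ ω) ≠ y⁻¹ ω := fun ω hω hc => by
    rw [apply_inv] at hc
    exact hω ((hyi ω).mp hc.symm)
  -- x fixes points moved by y other than a, and vice versa
  have hxfix : ∀ ω, ω ≠ a → y ω ≠ ω → x ω = ω := fun ω hωa hy => by
    by_contra hx; exact hωa (h ω hx hy)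
  have hyfix : ∀ ω, ω ≠ a → x ω ≠ ω → y ω = ω := fun ω hωa hx => by
    by_contra hy; exact hωa (h ω hx hy)
  have hxaya : x a ≠ y a := by
    intro hc
    have h1 : x (x a) ≠ x a := hxm a hxa
    have h2 : y (x a) ≠ x a := by rw [hc]; exact hym a hya
    exact hxa (h _ h1 h2)
  have key : x * y * x⁻¹ * y⁻¹ = swap a (y a) * swap a (x a) := by
    ext ω
    simp only [Perm.mul_apply]
    by_cases h1 : ω = a
    · subst h1
      rw [swap_apply_left, swap_apply_of_ne_of_ne hxa hxaya]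
      have hb : y⁻¹ ω ≠ ω := fun hc => hya ((hyi ω).mp hc)
      have hyb : y (y⁻¹ ω) ≠ y⁻¹ ω := hyim ω hya
      have hxb : x (y⁻¹ ω) = y⁻¹ ω := hxfix _ hb hyb
      rw [(hxi _).mpr hxb, apply_inv]
    by_cases h2 : ω = x a
    · subst h2
      rw [swap_apply_right, swap_apply_left]
      have hy1 : y (x a) = x a := hyfix _ hxa (hxm a hxa)
      rw [(hyi _).mpr hy1, inv_apply]
      exact hxfix _ hya (hym a hya)
    by_cases h3 : ω = y a
    · subst h3
      rw [swap_apply_of_ne_of_ne hya hxaya.symm, swap_apply_right, inv_apply]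
      have ha' : x⁻¹ a ≠ a := fun hc => hxa ((hxi a).mp hc)
      have hxa' : x (x⁻¹ a) ≠ x⁻¹ a := hxim a hxa
      rw [hyfix _ ha' hxa', apply_inv]
    rw [swap_apply_of_ne_of_ne h1 h2, swap_apply_of_ne_of_ne h1 h3]
    by_cases hy : y ω = ω
    · rw [(hyi ω).mpr hy]
      by_cases hx : x ω = ω
      · rw [(hxi ω).mpr hx, hy, hx]
      · have hv : x⁻¹ ω ≠ a := fun hc => h2 (by rw [← hc, apply_inv])
        rw [hyfix _ hv (hxim ω hx), apply_inv]
    · have hu : y⁻¹ ω ≠ a := fun hc => h3 (by rw [← hc, apply_inv])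
      have hxu : x (y⁻¹ ω) = y⁻¹ ω := hxfix _ hu (hyim ω hy)
      rw [(hxi _).mpr hxu, apply_inv]
      exact hxfix ω h1 hy
  rw [key]
  exact isThreeCycle_swap_mul_swap_same (Ne.symm hya) (Ne.symm hxa) (Ne.symm hxaya)


end Cfsg.Agent.Lib.Helper59.MD
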