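import Mathlib

set_option autoImplicit false

namespace Cfsg.Agent.Lib.Helper59

open MulAction

section Burnside

variable {G Ω : Type*} [Group G] [MulAction G Ω]

theorem burnside_natCard [Fintype G] [Finite Ω] :
    ∑ g : G, Nat.card (fixedBy Ω g) = Nat.card (orbitRel.Quotient G Ω) * Nat.card G := by
  classical
  have := Fintype.ofFinite Ω
  have : Fintype (Quotient (orbitRel G Ω)) := Fintype.ofFinite _
  have : ∀ g : G, Fintype (fixedBy Ω g) := fun g => Fintype.ofFinite _
  have h := sum_card_fixedBy_eq_card_orbits_mul_card_group G Ω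
  simp only [Nat.card_eq_fintype_card]
  convert h using 2

theorem card_orbits_eq_one [Nonempty Ω] (htrans : IsPretransitive G Ω) :
    Nat.card (orbitRel.Quotient G Ω) = 1 := by
  have := (pretransitive_iff_unique_quotient_of_nonempty G Ω).1 htrans
  obtain ⟨u⟩ := this
  exact Nat.card_unique

theorem isPretransitive_of_card_orbits_le_one [Finite Ω]
    (h : Nat.card (orbitRel.Quotient G Ω) ≤ 1) : IsPretransitive G Ω := by
  rw [pretransitive_iff_subsingleton_quotient]
  have : Finite (orbitRel.Quotient G Ω) := Quotient.finite _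
  exact (Finite.card_le_one_iff_subsingleton).1 h

theorem card_orbits_pos [Finite Ω] [Nonempty Ω] :
    0 < Nat.card (orbitRel.Quotient G Ω) := by
  have : Finite (orbitRel.Quotient G Ω) := Quotient.finite _
  have : Nonempty (orbitRel.Quotient G Ω) := ⟨Quotient.mk'' (Classical.arbitrary Ω)⟩
  exact Nat.card_pos

end Burnside

section Key

variable {G Ω : Type*} [Group G] [MulAction G Ω]

/-- sum over a subgroup as a sum over the ambient group -/
theorem sum_subgroup_eq [Fintype G] (D : Subgroup G) [DecidablePred (· ∈ D)] (f : G → ℕ) :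
    ∑ d : D, f d = ∑ g : G, if g ∈ D then f g else 0 := by
  classical
  rw [← Finset.sum_filter]
  exact (Finset.sum_subtype (Finset.univ.filter (· ∈ D)) (by simp) f).symm

theorem key_counting [Finite G] [Finite Ω] [Nonempty Ω] (htrans : IsPretransitive G Ω)
    (D : Subgroup G) (hD : ∀ g : G, (∀ ω : Ω, g • ω ≠ ω) → g ∈ D) :
    IsPretransitive D Ω ∧ ∀ g : G, g ∉ D → Nat.card (fixedBy Ω g) = 1 := by
  classical
  have := Fintype.ofFinite G
  have hG : ∑ g : G, Nat.card (fixedBy Ω g) = Nat.card G := by
    rw [burnside_natCard, card_orbits_eq_one htrans, one_mul]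
  have hDsum : ∑ d : D, Nat.card (fixedBy Ω d) = Nat.card (orbitRel.Quotient D Ω) * Nat.card D :=
    burnside_natCard
  have hDsum' : ∑ d : D, Nat.card (fixedBy Ω d)
      = ∑ g : G, if g ∈ D then Nat.card (fixedBy Ω g) else 0 := by
    rw [← sum_subgroup_eq D (fun g => Nat.card (fixedBy Ω g))]
    rfl
  have hfix_pos : ∀ g : G, g ∉ D → 1 ≤ Nat.card (fixedBy Ω g) := by
    intro g hg
    by_contra hlt
    have h0 : Nat.card (fixedBy Ω g) = 0 := by omega
    apply hg
    apply hD
    intro ω hω
    have : Nonempty (fixedBy Ω g) := ⟨⟨ω, hω⟩⟩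
    have : 0 < Nat.card (fixedBy Ω g) := Nat.card_pos
    omega
  have hsplit : ∑ g : G, Nat.card (fixedBy Ω g)
      = (∑ g : G, if g ∈ D then Nat.card (fixedBy Ω g) else 0)
        + ∑ g : G, if g ∈ D then 0 else Nat.card (fixedBy Ω g) := by
    rw [← Finset.sum_add_distrib]
    apply Finset.sum_congr rfl
    intro g _
    by_cases h : g ∈ D <;> simp [h]
  have hcardD : Nat.card D = ∑ g : G, if g ∈ D then 1 else 0 := by
    rw [← sum_subgroup_eq D (fun _ => 1)]
    simp
  have hcardG : Nat.card G = (∑ g : G, if g ∈ D then 1 else 0)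
      + ∑ g : G, if g ∈ D then 0 else 1 := by
    rw [← Finset.sum_add_distrib, Nat.card_eq_fintype_card, Fintype.card_eq_sum_ones]
    apply Finset.sum_congr rfl
    intro g _
    by_cases h : g ∈ D <;> simp [h]
  have hle : (∑ g : G, if g ∈ D then 0 else 1)
      ≤ ∑ g : G, if g ∈ D then 0 else Nat.card (fixedBy Ω g) := by
    apply Finset.sum_le_sum
    intro g _
    by_cases h : g ∈ D
    · simp [h]
    · simpa [h] using hfix_pos g h
  have hpos : 0 < Nat.card (orbitRel.Quotient D Ω) := card_orbits_pos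
  have hDpos : 0 < Nat.card D := Nat.card_pos
  -- combine
  set A := ∑ g : G, if g ∈ D then 0 else Nat.card (fixedBy Ω g) with hA
  set B := ∑ g : G, if g ∈ D then 0 else 1 with hB
  set o := Nat.card (orbitRel.Quotient D Ω) with ho
  have e1 : Nat.card G = o * Nat.card D + A := by
    rw [← hG, hsplit, ← hDsum', hDsum]
  have e2 : Nat.card G = Nat.card D + B := by
    rw [hcardG, ← hcardD]
  have ho1 : o = 1 := by
    by_contra hne
    have : 2 ≤ o := by omega
    have : 2 * Nat.card D ≤ o * Nat.card D := Nat.mul_le_mul_right _ this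
    omega
  have hAB : A = B := by
    rw [ho1, one_mul] at e1
    omega
  refine ⟨isPretransitive_of_card_orbits_le_one (by omega), ?_⟩
  intro g hg
  by_contra hne
  have h2 : 2 ≤ Nat.card (fixedBy Ω g) := by
    have := hfix_pos g hg
    omega
  have hlt : B < A := by
    rw [hA, hB]
    apply Finset.sum_lt_sum
    · intro g _
      by_cases h : g ∈ D
      · simp [h]
      · simpa [h] using hfix_pos g h
    · refine ⟨g, Finset.mem_univ _, ?_⟩
      simp only [hg, if_false]
      omega
  omega

theorem sum_split_subgroup [Fintype G] (D : Subgroup G) [DecidablePred (· ∈ D)] (f : G → ℕ) :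
    ∑ g : G, f g = ∑ d : D, f d + ∑ g : G, if g ∈ D then 0 else f g := by
  rw [sum_subgroup_eq D f, ← Finset.sum_add_distrib]
  apply Finset.sum_congr rfl
  intro g _
  by_cases h : g ∈ D <;> simp [h]

theorem card_fixedBy_prod (g : G) :
    Nat.card (fixedBy (Ω × Ω) g) = Nat.card (fixedBy Ω g) ^ 2 := by
  have h : fixedBy (Ω × Ω) g = (fixedBy Ω g) ×ˢ (fixedBy Ω g) := by
    ext ⟨a, b⟩
    simp [Prod.ext_iff]
  rw [h, Nat.card_congr (Equiv.Set.prod _ _), Nat.card_prod, sq]

theorem rank_counting [Finite G] [Finite Ω] [Nonempty Ω] (htrans : IsPretransitive G Ω)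
    (D : Subgroup G) (hD : ∀ g : G, (∀ ω : Ω, g • ω ≠ ω) → g ∈ D) :
    Nat.card (orbitRel.Quotient G (Ω × Ω)) * Nat.card G + Nat.card D
      = Nat.card (orbitRel.Quotient D (Ω × Ω)) * Nat.card D + Nat.card G := by
  classical
  have := Fintype.ofFinite G
  have hk := (key_counting htrans D hD).2
  have hG : ∑ g : G, Nat.card (fixedBy (Ω × Ω) g)
      = Nat.card (orbitRel.Quotient G (Ω × Ω)) * Nat.card G := burnside_natCard
  have hDsum : ∑ d : D, Nat.card (fixedBy (Ω × Ω) d)
      = Nat.card (orbitRel.Quotient D (Ω × Ω)) * Nat.card D := burnside_natCard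
  have hsplit := sum_split_subgroup D (fun g => Nat.card (fixedBy (Ω × Ω) g))
  have hone := sum_split_subgroup D (fun _ => 1)
  have hrest : (∑ g : G, if g ∈ D then 0 else Nat.card (fixedBy (Ω × Ω) g))
      = ∑ g : G, if g ∈ D then 0 else 1 := by
    apply Finset.sum_congr rfl
    intro g _
    by_cases h : g ∈ D
    · simp [h]
    · simp only [h, if_false]
      rw [card_fixedBy_prod, hk g h, one_pow]
  have hD' : ∑ d : D, Nat.card (fixedBy (Ω × Ω) (d : G))
      = Nat.card (orbitRel.Quotient D (Ω × Ω)) * Nat.card D := hDsum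
  simp only [Finset.sum_const, Finset.card_univ, smul_eq_mul, mul_one,
    ← Nat.card_eq_fintype_card] at hone
  rw [hG, hrest, hD'] at hsplit
  omega

theorem rank_formula [Finite G] [Finite Ω] [Nonempty Ω] (htrans : IsPretransitive G Ω)
    (D : Subgroup G) (hD : ∀ g : G, (∀ ω : Ω, g • ω ≠ ω) → g ∈ D) :
    Nat.card (orbitRel.Quotient D (Ω × Ω)) - 1
      = (Nat.card (orbitRel.Quotient G (Ω × Ω)) - 1) * D.index := by
  have h := rank_counting htrans D hD
  have hci := D.card_mul_index
  have hDpos : 0 < Nat.card D := Nat.card_pos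
  have hrG : 0 < Nat.card (orbitRel.Quotient G (Ω × Ω)) := card_orbits_pos
  set rG := Nat.card (orbitRel.Quotient G (Ω × Ω)) with hrG'
  set rD := Nat.card (orbitRel.Quotient D (Ω × Ω)) with hrD'
  obtain ⟨a, ha⟩ : ∃ a, rG = a + 1 := ⟨rG - 1, by omega⟩
  rw [ha, ← hci] at h
  have h2 : Nat.card D * ((a + 1) * D.index + 1) = Nat.card D * (rD + D.index) := by
    calc Nat.card D * ((a + 1) * D.index + 1)
        = (a + 1) * (Nat.card D * D.index) + Nat.card D := by ring
      _ = rD * Nat.card D + Nat.card D * D.index := h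
      _ = Nat.card D * (rD + D.index) := by ring
  have h3 := Nat.eq_of_mul_eq_mul_left hDpos h2
  rw [ha]
  simp only [Nat.add_sub_cancel]
  have : (a + 1) * D.index = a * D.index + D.index := by ring
  omega

end Key

end Cfsg.Agent.Lib.Helper59
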