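import Mathlib
import Cfsg.Agent.Lib.Helper59.Derangement

set_option autoImplicit false

namespace Cfsg.Agent.Lib.Helper59

open MulAction

section General

/-- If all point stabilizers lie in `N`, the index of `N` divides the size of the set. -/
theorem index_dvd_card_of_stabilizer_le {H X : Type*} [Group H] [MulAction H X] [Finite X]
    (N : Subgroup H) (hN : ∀ x : X, stabilizer H x ≤ N) : N.index ∣ Nat.card X := by
  classical
  have : Fintype (orbitRel.Quotient H X) := Fintype.ofFinite _
  rw [Nat.card_congr (selfEquivSigmaOrbits H X), Nat.card_sigma]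
  apply Finset.dvd_sum
  intro ω _
  rw [Nat.card_coe_set_eq, ← index_stabilizer]
  exact Subgroup.index_dvd_of_le (hN _)

/-- Version for an invariant subset. -/
theorem index_dvd_ncard_of_stabilizer_le {H X : Type*} [Group H] [MulAction H X] [Finite X]
    (N : Subgroup H) (S : Set X) (hS : ∀ h : H, ∀ x ∈ S, h • x ∈ S)
    (hN : ∀ x ∈ S, stabilizer H x ≤ N) : N.index ∣ S.ncard := by
  let T : SubMulAction H X := ⟨S, fun h x hx => hS h x hx⟩
  have h1 : N.index ∣ Nat.card T := by
    apply index_dvd_card_of_stabilizer_le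
    intro x g hg
    apply hN x.1 x.2
    rw [mem_stabilizer_iff] at hg ⊢
    have := congrArg Subtype.val hg
    simpa using this
  have h2 : Nat.card T = S.ncard := Nat.card_coe_set_eq S
  rwa [h2] at h1

theorem closure_normal_of_conj_invariant {G : Type*} [Group G] (S : Set G)
    (hS : ∀ g : G, ∀ s ∈ S, g * s * g⁻¹ ∈ S) : (Subgroup.closure S).Normal := by
  have h : Subgroup.closure S = Subgroup.normalClosure S := by
    apply le_antisymm Subgroup.closure_le_normalClosure
    unfold Subgroup.normalClosure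
    apply Subgroup.closure_mono
    intro a ha
    rw [Group.mem_conjugatesOfSet_iff] at ha
    obtain ⟨b, hb, hba⟩ := ha
    rw [isConj_iff] at hba
    obtain ⟨c, rfl⟩ := hba
    exact hS c b hb
  rw [h]
  exact Subgroup.normalClosure_normal

end General

section Der

variable {G Ω : Type*} [Group G] [MulAction G Ω]

theorem derangement_closure_normal :
    (Subgroup.closure {g : G | ∀ ω : Ω, g • ω ≠ ω}).Normal := by
  apply closure_normal_of_conj_invariant
  intro g s hs ω hω
  apply hs (g⁻¹ • ω)
  have h1 : g⁻¹ • (g * s * g⁻¹) • ω = g⁻¹ • ω := by rw [hω]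
  have h2 : g⁻¹ * (g * s * g⁻¹) = s * g⁻¹ := by group
  rw [← mul_smul, h2, mul_smul] at h1
  exact h1

variable [Finite G] [Finite Ω]

/-- two distinct fixed points force membership in `D` -/
theorem mem_of_two_fixed [Nonempty Ω] (htrans : IsPretransitive G Ω)
    (D : Subgroup G) (hD : ∀ g : G, (∀ ω : Ω, g • ω ≠ ω) → g ∈ D)
    (g : G) (a b : Ω) (hab : a ≠ b) (ha : g • a = a) (hb : g • b = b) : g ∈ D := by
  by_contra hg
  have h1 := (key_counting htrans D hD).2 g hg
  have : Subsingleton (fixedBy Ω g) := (Nat.card_eq_one_iff_unique.1 h1).1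
  have := this.elim ⟨a, ha⟩ ⟨b, hb⟩
  exact hab (congrArg Subtype.val this)

theorem sup_stabilizer_eq_top [Nonempty Ω] (htrans : IsPretransitive G Ω)
    (D : Subgroup G) (hD : ∀ g : G, (∀ ω : Ω, g • ω ≠ ω) → g ∈ D) (a : Ω) :
    D ⊔ stabilizer G a = ⊤ := by
  have hDt := (key_counting htrans D hD).1
  rw [eq_top_iff]
  intro g _
  obtain ⟨d, hd⟩ := hDt.exists_smul_eq a (g • a)
  have h1 : (d : G)⁻¹ * g ∈ stabilizer G a := by
    rw [mem_stabilizer_iff, mul_smul, ← hd]
    exact inv_smul_smul _ _
  have : g = (d : G) * ((d : G)⁻¹ * g) := by group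
  rw [this]
  exact Subgroup.mul_mem_sup d.2 h1

theorem relIndex_stabilizer_eq_index [Nonempty Ω] (htrans : IsPretransitive G Ω)
    (D : Subgroup G) [D.Normal] (hD : ∀ g : G, (∀ ω : Ω, g • ω ≠ ω) → g ∈ D) (a : Ω) :
    D.relIndex (stabilizer G a) = D.index := by
  rw [← Subgroup.relIndex_sup_left, sup_stabilizer_eq_top htrans D hD a, Subgroup.relIndex_top_right]

/-- main divisibility: for a `G_a`-invariant set avoiding `a`, the index of `D` divides its size -/
theorem index_dvd_ncard_invariant [Nonempty Ω] (htrans : IsPretransitive G Ω)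
    (D : Subgroup G) [D.Normal] (hD : ∀ g : G, (∀ ω : Ω, g • ω ≠ ω) → g ∈ D) (a : Ω)
    (S : Set Ω) (haS : a ∉ S) (hS : ∀ g ∈ stabilizer G a, ∀ x ∈ S, g • x ∈ S) :
    D.index ∣ S.ncard := by
  rw [← relIndex_stabilizer_eq_index htrans D hD a]
  unfold Subgroup.relIndex
  apply index_dvd_ncard_of_stabilizer_le (H := stabilizer G a) (D.subgroupOf (stabilizer G a)) S
  · intro h x hx
    exact hS h.1 h.2 x hx
  · intro x hx g hg
    rw [Subgroup.mem_subgroupOf]
    have hxa : a ≠ x := fun h => haS (h ▸ hx)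
    exact mem_of_two_fixed htrans D hD g.1 a x hxa g.2 hg

theorem index_dvd_card_sub_one [Nonempty Ω] (htrans : IsPretransitive G Ω)
    (D : Subgroup G) [D.Normal] (hD : ∀ g : G, (∀ ω : Ω, g • ω ≠ ω) → g ∈ D) :
    D.index ∣ Nat.card Ω - 1 := by
  obtain ⟨a⟩ := ‹Nonempty Ω›
  have h := index_dvd_ncard_invariant htrans D hD a ({a}ᶜ) (by simp) (by
    intro g hg x hx
    simp only [Set.mem_compl_iff, Set.mem_singleton_iff] at hx ⊢
    intro h
    apply hx
    have : g • x = g • a := by rw [h]; exact hg.symm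
    exact smul_left_cancel g this)
  have h2 : ({a}ᶜ : Set Ω).ncard = Nat.card Ω - 1 := by
    rw [Set.ncard_compl, Set.ncard_singleton]
  rwa [h2] at h

theorem isPrimePow_of_index_eq [Nonempty Ω] [FaithfulSMul G Ω] (htrans : IsPretransitive G Ω)
    (D : Subgroup G) [hDn : D.Normal] (hD : ∀ g : G, (∀ ω : Ω, g • ω ≠ ω) → g ∈ D)
    (hcard : 2 ≤ Nat.card Ω) (hidx : D.index = Nat.card Ω - 1) : IsPrimePow (Nat.card Ω) := by
  classical
  obtain ⟨a⟩ := ‹Nonempty Ω›
  set n := Nat.card Ω with hn
  have hcompl : ({a}ᶜ : Set Ω).ncard = n - 1 := by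
    rw [Set.ncard_compl, Set.ncard_singleton]
  -- Claim 1
  have claim1 : ∀ b : Ω, b ≠ a → orbit (stabilizer G a) b = {a}ᶜ := by
    intro b hb
    have hsub : orbit (stabilizer G a) b ⊆ {a}ᶜ := by
      rintro _ ⟨g, rfl⟩
      simp only [Set.mem_compl_iff, Set.mem_singleton_iff]
      intro h
      apply hb
      have h2 : (g : G) • b = (g : G) • a := by
        rw [g.2]; exact h
      exact smul_left_cancel _ h2
    apply Set.eq_of_subset_of_ncard_le hsub
    have hdvd : D.index ∣ (orbit (stabilizer G a) b).ncard := by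
      apply index_dvd_ncard_invariant htrans D hD a
      · intro h
        exact hsub h rfl
      · rintro g hg _ ⟨g', rfl⟩
        exact ⟨⟨g, hg⟩ * g', by simp [mul_smul]⟩
    have hpos : 0 < (orbit (stabilizer G a) b).ncard := by
      rw [Set.ncard_pos]
      exact ⟨b, mem_orbit_self b⟩
    rw [hcompl, ← hidx]
    exact Nat.le_of_dvd hpos hdvd
  -- Claim 2
  have claim2 : ∀ d ∈ D, d • a = a → d = 1 := by
    intro d hdD hda
    apply FaithfulSMul.eq_of_smul_eq_smul (α := Ω)
    intro b
    rw [one_smul]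
    by_cases hb : b = a
    · rw [hb]; exact hda
    · set H := stabilizer G a with hH
      set K := stabilizer H b with hK
      set N := D.subgroupOf H with hN
      have hNidx : N.index = n - 1 := by
        rw [← hidx, ← relIndex_stabilizer_eq_index htrans D hD a]
        rfl
      have hKN : K ≤ N := by
        intro g hg
        rw [hN, Subgroup.mem_subgroupOf]
        exact mem_of_two_fixed htrans D hD g.1 a b (Ne.symm hb) g.2 hg
      have hKidx : K.index = n - 1 := by
        rw [hK, index_stabilizer, claim1 b hb, hcompl]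
      have hmul := Subgroup.relIndex_mul_index hKN
      rw [hNidx, hKidx] at hmul
      have hpos : 0 < n - 1 := by omega
      have h1 : K.relIndex N = 1 := by
        have : K.relIndex N * (n - 1) = 1 * (n - 1) := by rw [hmul, one_mul]
        exact Nat.eq_of_mul_eq_mul_right hpos this
      rw [Subgroup.relIndex_eq_one] at h1
      have hdN : (⟨d, hda⟩ : H) ∈ N := by
        rw [hN, Subgroup.mem_subgroupOf]
        exact hdD
      have := h1 hdN
      rw [hK, mem_stabilizer_iff] at this
      exact this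
  -- Claim 3
  have claim3 : ∀ d ∈ D, ∀ d' ∈ D, d ≠ 1 → d' ≠ 1 → orderOf d = orderOf d' := by
    intro d hd d' hd' hd1 hd'1
    have h1 : d • a ≠ a := fun h => hd1 (claim2 d hd h)
    have h2 : d' • a ≠ a := fun h => hd'1 (claim2 d' hd' h)
    have hmem : d' • a ∈ orbit (stabilizer G a) (d • a) := by
      rw [claim1 _ h1]
      exact h2
    obtain ⟨g, hg⟩ := hmem
    have hg' : (g : G) • d • a = d' • a := hg
    set x := d'⁻¹ * ((g : G) * d * (g : G)⁻¹) with hx
    have hxD : x ∈ D := D.mul_mem (D.inv_mem hd') (hDn.conj_mem d hd g)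
    have hga : (g : G)⁻¹ • a = a := by
      rw [inv_smul_eq_iff]; exact g.2.symm
    have hxa : x • a = a := by
      rw [hx, mul_smul, mul_smul, mul_smul, hga, hg', inv_smul_smul]
    have hx1 := claim2 x hxD hxa
    have hconj : d' = (g : G) * d * (g : G)⁻¹ := by
      rw [hx] at hx1
      exact (inv_mul_eq_one.1 hx1)
    have hsc : SemiconjBy (g : G) d d' := by
      rw [SemiconjBy, hconj]; group
    exact hsc.orderOf_eq
  -- Claim 4
  have hDt := (key_counting htrans D hD).1
  have claim4 : Nat.card D = n := by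
    have h1 : (stabilizer D a).index = Nat.card Ω := index_stabilizer_of_transitive D a
    have h2 : stabilizer D a = ⊥ := by
      rw [Subgroup.eq_bot_iff_forall]
      intro d hd
      have := claim2 d.1 d.2 hd
      exact Subtype.ext this
    rw [h2, Subgroup.index_bot] at h1
    exact h1
  -- Claim 5
  have hn1 : n ≠ 1 := by omega
  set p := n.minFac with hp
  have hpp : p.Prime := Nat.minFac_prime hn1
  have : Fact p.Prime := ⟨hpp⟩
  have hpn : p ∣ Nat.card D := by rw [claim4]; exact Nat.minFac_dvd n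
  obtain ⟨d₀, hd₀⟩ := exists_prime_orderOf_dvd_card' p hpn
  have hd₀1 : (d₀ : G) ≠ 1 := by
    intro h
    have : d₀ = 1 := Subtype.ext h
    rw [this, orderOf_one] at hd₀
    exact hpp.one_lt.ne hd₀
  have hpg : IsPGroup p D := by
    intro d
    by_cases hd1 : (d : G) = 1
    · exact ⟨0, by simpa using Subtype.ext hd1⟩
    · refine ⟨1, ?_⟩
      have h := claim3 d.1 d.2 d₀.1 d₀.2 hd1 hd₀1
      rw [Subgroup.orderOf_coe, Subgroup.orderOf_coe, hd₀] at h
      rw [pow_one, ← h]
      exact pow_orderOf_eq_one d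
  obtain ⟨m, hm⟩ := IsPGroup.iff_card.1 hpg
  rw [claim4] at hm
  have hm0 : m ≠ 0 := by
    rintro rfl
    rw [pow_zero] at hm
    omega
  rw [hm]
  exact (hpp.isPrimePow).pow hm0

end Der

end Cfsg.Agent.Lib.Helper59
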