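import Mathlib

set_option autoImplicit false
set_option linter.unusedSectionVars false
set_option linter.unusedSimpArgs false
set_option linter.unusedVariables false

namespace Cfsg.Agent.Lib.Helper59.IG

open Equiv

variable {α : Type*} [DecidableEq α] [Fintype α]

/-- `f` has odd order. -/
def OddOrd (f : Perm α) : Prop := ∃ N : ℕ, Odd N ∧ f ^ N = 1

lemma oddOrd_iff (f : Perm α) : OddOrd f ↔ Odd (orderOf f) := by
  constructor
  · rintro ⟨N, hN, h⟩
    exact Odd.of_dvd_nat hN (orderOf_dvd_of_pow_eq_one h)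
  · intro h; exact ⟨_, h, pow_orderOf_eq_one f⟩

lemma oddOrd_one : OddOrd (1 : Perm α) := ⟨1, odd_one, by simp⟩

lemma oddOrd_comm (f g : Perm α) (h : OddOrd (f * g)) : OddOrd (g * f) := by
  obtain ⟨N, hN, h⟩ := h
  refine ⟨N, hN, ?_⟩
  have : g * f = f⁻¹ * (f * g) * (f⁻¹)⁻¹ := by group
  rw [this, conj_pow, h]; group

lemma m3 (ψ c : Perm α) (e a b : α) (hea : e ≠ a) (heb : e ≠ b)
    (ha : ψ a = a) (hb : ψ b = b) (ce : c e = a) (ca : c a = b) (cb : c b = e)
    (cfix : ∀ p, p ≠ e → p ≠ a → p ≠ b → c p = p) (h : OddOrd ψ) : OddOrd (ψ * c) := by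
  obtain ⟨N, hN, hψN⟩ := h
  obtain ⟨φ, hφ⟩ : ∃ φ : Perm α, φ = ψ * c := ⟨_, rfl⟩
  have φe : φ e = a := by simp [hφ, ce, ha]
  have φa : φ a = b := by simp [hφ, ca, hb]
  have φb : φ b = ψ e := by simp [hφ, cb]
  have φo : ∀ p, p ≠ e → p ≠ a → p ≠ b → φ p = ψ p := by
    intro p h1 h2 h3; simp [hφ, cfix p h1 h2 h3]
  set L := Function.minimalPeriod ψ e with hL
  have hper : Function.IsPeriodicPt ψ N e := by
    show (ψ^[N]) e = e
    rw [Equiv.Perm.iterate_eq_pow, hψN]; rfl
  have hLN : L ∣ N := hper.minimalPeriod_dvd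
  have hNpos : 0 < N := hN.pos
  have hLpos : 0 < L := hper.minimalPeriod_pos hNpos
  have hLodd : Odd L := Odd.of_dvd_nat hN hLN
  have havoid : ∀ i, 0 < i → i < L → (ψ ^ i) e ≠ e ∧ (ψ ^ i) e ≠ a ∧ (ψ ^ i) e ≠ b := by
    intro i hi hiL
    refine ⟨?_, ?_, ?_⟩
    · intro h
      have : Function.IsPeriodicPt ψ i e := by
        show (ψ^[i]) e = e
        rw [Equiv.Perm.iterate_eq_pow]; exact h
      exact Function.not_isPeriodicPt_of_pos_of_lt_minimalPeriod hi.ne' hiL this
    · intro h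
      have h2 : (ψ ^ i) a = a := Equiv.Perm.pow_apply_eq_self_of_apply_eq_self ha i
      exact hea ((ψ ^ i).injective (h.trans h2.symm))
    · intro h
      have h2 : (ψ ^ i) b = b := Equiv.Perm.pow_apply_eq_self_of_apply_eq_self hb i
      exact heb ((ψ ^ i).injective (h.trans h2.symm))
  have claim1 : ∀ i, 1 ≤ i → i ≤ L → (φ ^ (i + 2)) e = (ψ ^ i) e := by
    intro i hi
    induction i, hi using Nat.le_induction with
    | base =>
      intro _
      have : (φ ^ (1 + 2)) e = φ (φ (φ e)) := by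
        simp [pow_succ, Perm.mul_apply]
      rw [this, φe, φa, φb]; simp
    | succ i hi ih =>
      intro hiL
      have h1 := ih (by omega)
      have : (φ ^ (i + 1 + 2)) e = φ ((φ ^ (i + 2)) e) := by
        rw [show i + 1 + 2 = (i + 2) + 1 by ring, pow_succ', Perm.mul_apply]
      rw [this, h1]
      obtain ⟨n1, n2, n3⟩ := havoid i (by omega) (by omega)
      rw [φo _ n1 n2 n3, pow_succ', Perm.mul_apply]
  have hLe : (φ ^ (L + 2)) e = e := by
    rw [claim1 L hLpos le_rfl]
    have := Function.isPeriodicPt_minimalPeriod ψ e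
    have h2 : (ψ^[L]) e = e := this
    rwa [Equiv.Perm.iterate_eq_pow] at h2
  let T : Set α := {q | ∃ j : ℕ, (φ ^ j) e = q}
  have hTfix : ∀ q ∈ T, (φ ^ (L + 2)) q = q := by
    rintro q ⟨j, rfl⟩
    rw [← Perm.mul_apply, ← pow_add, add_comm, pow_add, Perm.mul_apply, hLe]
  have hTc : ∀ q, q ∉ T → φ q ∉ T ∧ φ q = ψ q := by
    intro q hq
    have qe : q ≠ e := fun h => hq ⟨0, by simp [h]⟩
    have qa : q ≠ a := fun h => hq ⟨1, by simp [h, φe]⟩
    have qb : q ≠ b := fun h => hq ⟨2, by simp [h, pow_succ, Perm.mul_apply, φe, φa]⟩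
    refine ⟨?_, φo q qe qa qb⟩
    rintro ⟨j, hj⟩
    cases j with
    | zero =>
      apply hq
      refine ⟨L + 1, ?_⟩
      apply φ.injective
      rw [← Perm.mul_apply, ← pow_succ', ← hj, hLe]; simp
    | succ k =>
      apply hq
      refine ⟨k, ?_⟩
      apply φ.injective
      rw [← Perm.mul_apply, ← pow_succ', hj]
  have hTiter : ∀ q, q ∉ T → ∀ j : ℕ, (φ ^ j) q = (ψ ^ j) q ∧ (φ ^ j) q ∉ T := by
    intro q hq j
    induction j with
    | zero => simpa using hq
    | succ j ih =>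
      obtain ⟨h1, h2⟩ := ih
      obtain ⟨h3, h4⟩ := hTc _ h2
      rw [pow_succ', Perm.mul_apply, pow_succ', Perm.mul_apply]
      refine ⟨by rw [h4, h1], h3⟩
  rw [← hφ]
  refine ⟨N * (L + 2), hN.mul (hLodd.add_even even_two), ?_⟩
  ext q
  by_cases hq : q ∈ T
  · rw [mul_comm, pow_mul]
    simpa using Equiv.Perm.pow_apply_eq_self_of_apply_eq_self (hTfix q hq) N
  · rw [pow_mul]
    have : (φ ^ N) q = q := by rw [(hTiter q hq N).1, hψN]; rfl
    simpa using Equiv.Perm.pow_apply_eq_self_of_apply_eq_self this (L + 2)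


lemma isConj_of_oddOrd (x z : Perm α) (hx : x * x = 1) (hz : z * z = 1) (h : OddOrd (x * z)) :
    IsConj x z := by
  obtain ⟨N, ⟨j, rfl⟩, hN⟩ := h
  set r := x * z with hr
  have hxr : SemiconjBy x r r⁻¹ := by
    show x * r = r⁻¹ * x
    have : r⁻¹ = z * x := by
      rw [hr]; apply inv_eq_of_mul_eq_one_right
      calc x * z * (z * x) = x * (z * z) * x := by group
        _ = 1 := by rw [hz, mul_one, hx]
    rw [this, hr, ← mul_assoc, hx, one_mul, mul_assoc, hx, mul_one]
  have h1 : x * r ^ (j + 1) = (r⁻¹) ^ (j + 1) * x := (hxr.pow_right (j + 1))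
  have h2 : r ^ (j + 1) * z = r ^ j * x := by
    rw [pow_succ, mul_assoc, hr, mul_assoc x z z, hz, mul_one]
  have h3 : (r⁻¹) ^ (j + 1) = r ^ j := by
    rw [inv_pow]
    apply inv_eq_of_mul_eq_one_left
    rw [← pow_add, show j + (j + 1) = 2 * j + 1 by ring, hN]
  have h4 : x * r ^ (j + 1) = r ^ (j + 1) * z := by rw [h1, h3, h2]
  rw [isConj_iff]
  refine ⟨(r ^ (j + 1))⁻¹, ?_⟩
  rw [inv_inv, mul_assoc, h4, ← mul_assoc, inv_mul_cancel, one_mul]

lemma swap_comm_of_fix (τ : Perm α) {a b : α} (ha : τ a = a) (hb : τ b = b) :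
    swap a b * τ = τ * swap a b := by
  rw [Equiv.mul_swap_eq_swap_mul, ha, hb]

lemma inv_of_sq (x : Perm α) (hx : x * x = 1) : x⁻¹ = x := inv_eq_of_mul_eq_one_left hx

lemma sq_apply (x : Perm α) (hx : x * x = 1) (p : α) : x (x p) = p := by
  rw [← Perm.mul_apply, hx]; rfl

lemma del_spec (x : Perm α) (hx : x * x = 1) {a b : α} (hab : a ≠ b) (h : x a = b) :
    (x * swap a b) * (x * swap a b) = 1 ∧ (x * swap a b) a = a ∧ (x * swap a b) b = b ∧
    (∀ p, p ≠ a → p ≠ b → (x * swap a b) p = x p) ∧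
    (x * swap a b).support.card + 2 = x.support.card := by
  have hb : x b = a := by rw [← h]; exact sq_apply x hx a
  have hcomm : x * swap a b = swap a b * x := by
    rw [Equiv.mul_swap_eq_swap_mul, h, hb, swap_comm]
  have v1 : (x * swap a b) a = a := by simp [hb]
  have v2 : (x * swap a b) b = b := by simp [h]
  have v3 : ∀ p, p ≠ a → p ≠ b → (x * swap a b) p = x p := by
    intro p h1 h2; simp [swap_apply_of_ne_of_ne h1 h2]
  refine ⟨?_, v1, v2, v3, ?_⟩
  · calc x * swap a b * (x * swap a b) = x * swap a b * (swap a b * x) := by rw [← hcomm]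
      _ = x * (swap a b * swap a b) * x := by group
      _ = 1 := by rw [swap_mul_self, mul_one, hx]
  · have hs : (x * swap a b).support = x.support \ {a, b} := by
      ext p
      simp only [Perm.mem_support, Finset.mem_sdiff, Finset.mem_insert, Finset.mem_singleton,
        not_or]
      by_cases h1 : p = a
      · subst h1; simp [v1]
      by_cases h2 : p = b
      · subst h2; simp [v2]
      rw [v3 p h1 h2]; simp [h1, h2]
    have hsub : ({a, b} : Finset α) ⊆ x.support := by
      intro p hp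
      simp only [Finset.mem_insert, Finset.mem_singleton] at hp
      rw [Perm.mem_support]
      rcases hp with rfl | rfl
      · rw [h]; exact hab.symm
      · rw [hb]; exact hab
    rw [hs, ← Finset.card_pair hab, Finset.card_sdiff_add_card_eq_card hsub]

lemma add_spec (x : Perm α) (hx : x * x = 1) {a b : α} (hab : a ≠ b) (ha : x a = a)
    (hb : x b = b) :
    (x * swap a b) * (x * swap a b) = 1 ∧ (x * swap a b) a = b ∧ (x * swap a b) b = a ∧
    (∀ p, p ≠ a → p ≠ b → (x * swap a b) p = x p) ∧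
    (x * swap a b).support.card = x.support.card + 2 := by
  have hcomm : x * swap a b = swap a b * x := (swap_comm_of_fix x ha hb).symm
  have v1 : (x * swap a b) a = b := by simp [hb]
  have v2 : (x * swap a b) b = a := by simp [ha]
  have v3 : ∀ p, p ≠ a → p ≠ b → (x * swap a b) p = x p := by
    intro p h1 h2; simp [swap_apply_of_ne_of_ne h1 h2]
  refine ⟨?_, v1, v2, v3, ?_⟩
  · calc x * swap a b * (x * swap a b) = x * swap a b * (swap a b * x) := by rw [← hcomm]
      _ = x * (swap a b * swap a b) * x := by group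
      _ = 1 := by rw [swap_mul_self, mul_one, hx]
  · have hs : (x * swap a b).support = x.support ∪ {a, b} := by
      ext p
      simp only [Perm.mem_support, Finset.mem_union, Finset.mem_insert, Finset.mem_singleton]
      by_cases h1 : p = a
      · subst h1; simp [v1, hab.symm]
      by_cases h2 : p = b
      · subst h2; simp [v2, hab]
      rw [v3 p h1 h2]; simp [h1, h2]
    have hdis : Disjoint x.support ({a, b} : Finset α) := by
      rw [Finset.disjoint_left]
      intro p hp hp2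
      simp only [Finset.mem_insert, Finset.mem_singleton] at hp2
      rw [Perm.mem_support] at hp
      rcases hp2 with rfl | rfl
      · exact hp ha
      · exact hp hb
    rw [hs, Finset.card_union_of_disjoint hdis, Finset.card_pair hab]

lemma m3x2 (ψ c : Perm α) (e₁ a₁ b₁ e₂ a₂ b₂ : α) (hnd : [e₁, a₁, b₁, e₂, a₂, b₂].Nodup)
    (ha₁ : ψ a₁ = a₁) (hb₁ : ψ b₁ = b₁) (ha₂ : ψ a₂ = a₂) (hb₂ : ψ b₂ = b₂)
    (c1 : c e₁ = a₁) (c2 : c a₁ = b₁) (c3 : c b₁ = e₁)
    (c4 : c e₂ = a₂) (c5 : c a₂ = b₂) (c6 : c b₂ = e₂)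
    (cfix : ∀ p, p ≠ e₁ → p ≠ a₁ → p ≠ b₁ → p ≠ e₂ → p ≠ a₂ → p ≠ b₂ → c p = p)
    (h : OddOrd ψ) : OddOrd (ψ * c) := by
  have H1 := hnd
  have H2 := List.nodup_reverse.mpr hnd
  simp only [List.reverse_cons, List.reverse_nil, List.nil_append, List.cons_append,
    List.nodup_cons, List.mem_cons, List.not_mem_nil, or_false, not_or, List.nodup_nil,
    and_true, not_false_eq_true] at H1 H2
  have hc : c = (swap e₁ a₁ * swap a₁ b₁) * (swap e₂ a₂ * swap a₂ b₂) := by
    ext p
    by_cases h1 : p = e₁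
    · subst h1; rw [c1]; simp [Perm.mul_apply, swap_apply_def, H1, H2]
    by_cases h2 : p = a₁
    · subst h2; rw [c2]; simp [Perm.mul_apply, swap_apply_def, H1, H2]
    by_cases h3 : p = b₁
    · subst h3; rw [c3]; simp [Perm.mul_apply, swap_apply_def, H1, H2]
    by_cases h4 : p = e₂
    · subst h4; rw [c4]; simp [Perm.mul_apply, swap_apply_def, H1, H2]
    by_cases h5 : p = a₂
    · subst h5; rw [c5]; simp [Perm.mul_apply, swap_apply_def, H1, H2]
    by_cases h6 : p = b₂
    · subst h6; rw [c6]; simp [Perm.mul_apply, swap_apply_def, H1, H2]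
    rw [cfix p h1 h2 h3 h4 h5 h6]
    simp [Perm.mul_apply, swap_apply_def, h1, h2, h3, h4, h5, h6]
  rw [hc, ← mul_assoc]
  have step1 : OddOrd (ψ * (swap e₁ a₁ * swap a₁ b₁)) := by
    apply m3 ψ _ e₁ a₁ b₁ H1.1.1 H1.1.2.1 ha₁ hb₁
    · simp [Perm.mul_apply, swap_apply_def, H1, H2]
    · simp [Perm.mul_apply, swap_apply_def, H1, H2]
    · simp [Perm.mul_apply, swap_apply_def, H1, H2]
    · intro p h1 h2 h3; simp [Perm.mul_apply, swap_apply_def, h1, h2, h3]
    · exact h
  apply m3 _ _ e₂ a₂ b₂ H1.2.2.2.1.1 H1.2.2.2.1.2 _ _ _ _ _ _ step1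
  · simp [Perm.mul_apply, swap_apply_def, H1, H2, ha₂]
  · simp [Perm.mul_apply, swap_apply_def, H1, H2, hb₂]
  · simp [Perm.mul_apply, swap_apply_def, H1, H2]
  · simp [Perm.mul_apply, swap_apply_def, H1, H2]
  · simp [Perm.mul_apply, swap_apply_def, H1, H2]
  · intro p h1 h2 h3; simp [Perm.mul_apply, swap_apply_def, h1, h2, h3]

/-- 5-cycle `e → a₂ → b₂ → a₁ → b₁ → e`. -/
lemma m5 (ψ c : Perm α) (e a₁ b₁ a₂ b₂ : α) (hnd : [e, a₁, b₁, a₂, b₂].Nodup)
    (ha₁ : ψ a₁ = a₁) (hb₁ : ψ b₁ = b₁) (ha₂ : ψ a₂ = a₂) (hb₂ : ψ b₂ = b₂)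
    (c1 : c e = a₂) (c2 : c a₂ = b₂) (c3 : c b₂ = a₁) (c4 : c a₁ = b₁) (c5 : c b₁ = e)
    (cfix : ∀ p, p ≠ e → p ≠ a₁ → p ≠ b₁ → p ≠ a₂ → p ≠ b₂ → c p = p)
    (h : OddOrd ψ) : OddOrd (ψ * c) := by
  have H1 := hnd
  have H2 := List.nodup_reverse.mpr hnd
  simp only [List.reverse_cons, List.reverse_nil, List.nil_append, List.cons_append,
    List.nodup_cons, List.mem_cons, List.not_mem_nil, or_false, not_or, List.nodup_nil,
    and_true, not_false_eq_true] at H1 H2
  have hc : c = (swap e a₁ * swap a₁ b₁) * (swap e a₂ * swap a₂ b₂) := by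
    ext p
    by_cases h1 : p = e
    · subst h1; rw [c1]; simp [Perm.mul_apply, swap_apply_def, H1, H2]
    by_cases h2 : p = a₁
    · subst h2; rw [c4]; simp [Perm.mul_apply, swap_apply_def, H1, H2]
    by_cases h3 : p = b₁
    · subst h3; rw [c5]; simp [Perm.mul_apply, swap_apply_def, H1, H2]
    by_cases h5 : p = a₂
    · subst h5; rw [c2]; simp [Perm.mul_apply, swap_apply_def, H1, H2]
    by_cases h6 : p = b₂
    · subst h6; rw [c3]; simp [Perm.mul_apply, swap_apply_def, H1, H2]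
    rw [cfix p h1 h2 h3 h5 h6]
    simp [Perm.mul_apply, swap_apply_def, h1, h2, h3, h5, h6]
  rw [hc, ← mul_assoc]
  have step1 : OddOrd (ψ * (swap e a₁ * swap a₁ b₁)) := by
    apply m3 ψ _ e a₁ b₁ H1.1.1 H1.1.2.1 ha₁ hb₁
    · simp [Perm.mul_apply, swap_apply_def, H1, H2]
    · simp [Perm.mul_apply, swap_apply_def, H1, H2]
    · simp [Perm.mul_apply, swap_apply_def, H1, H2]
    · intro p h1 h2 h3; simp [Perm.mul_apply, swap_apply_def, h1, h2, h3]
    · exact h
  apply m3 _ _ e a₂ b₂ H1.1.2.2.1 H1.1.2.2.2 _ _ _ _ _ _ step1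
  · simp [Perm.mul_apply, swap_apply_def, H1, H2, ha₂]
  · simp [Perm.mul_apply, swap_apply_def, H1, H2, hb₂]
  · simp [Perm.mul_apply, swap_apply_def, H1, H2]
  · simp [Perm.mul_apply, swap_apply_def, H1, H2]
  · simp [Perm.mul_apply, swap_apply_def, H1, H2]
  · intro p h1 h2 h3; simp [Perm.mul_apply, swap_apply_def, h1, h2, h3]

/-- exceptional configuration: a single 4-cycle of the `x`–`y` graph filling `A`. -/
def Exc (A : Finset α) (x y : Perm α) : Prop :=
  A.card = 4 ∧ (∀ p ∈ A, x p ≠ p) ∧ (∀ p ∈ A, y p ≠ p) ∧ ∀ p ∈ A, x p ≠ y p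

def Hyp (A : Finset α) (x y : Perm α) : Prop :=
  x * x = 1 ∧ y * y = 1 ∧ (∀ p, p ∉ A → x p = p) ∧ (∀ p, p ∉ A → y p = p) ∧
    x.support.card = y.support.card

def Sol (A : Finset α) (x y : Perm α) : Prop :=
  ∃ z : Perm α, z * z = 1 ∧ (∀ p, p ∉ A → z p = p) ∧ OddOrd (x * z) ∧ OddOrd (z * y)

def IH (A : Finset α) : Prop :=
  ∀ B : Finset α, B ⊂ A → ∀ x y : Perm α, Hyp B x y → ¬ Exc B x y → Sol B x y

lemma Sol.symm {A : Finset α} {x y : Perm α} (h : Sol A x y) : Sol A y x := by
  obtain ⟨z, h1, h2, h3, h4⟩ := h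
  exact ⟨z, h1, h2, oddOrd_comm _ _ h4, oddOrd_comm _ _ h3⟩

lemma Hyp.symm {A : Finset α} {x y : Perm α} (h : Hyp A x y) : Hyp A y x :=
  ⟨h.2.1, h.1, h.2.2.2.1, h.2.2.1, h.2.2.2.2.symm⟩

lemma Exc.symm {A : Finset α} {x y : Perm α} (h : Exc A x y) : Exc A y x :=
  ⟨h.1, h.2.2.1, h.2.1, fun p hp => (h.2.2.2 p hp).symm⟩

lemma mem_of_moved {A : Finset α} {x : Perm α} (h : ∀ p, p ∉ A → x p = p) {p : α}
    (hp : x p ≠ p) : p ∈ A := by
  by_contra h'; exact hp (h p h')

lemma img_mem {A : Finset α} {x : Perm α} (hx : x * x = 1) (h : ∀ p, p ∉ A → x p = p) {p : α}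
    (hp : x p ≠ p) : x p ∈ A := by
  apply mem_of_moved h
  rw [sq_apply x hx]; exact hp.symm

lemma step_R1 (A : Finset α) (ih : IH A) (x y : Perm α) (hH : Hyp A x y) (a : α) (haA : a ∈ A)
    (hxa : x a = a) (hya : y a = a)
    (hne : Hyp (A.erase a) x y → ¬ Exc (A.erase a) x y) : Sol A x y := by
  obtain ⟨hx, hy, hxA, hyA, hcard⟩ := hH
  have hB : A.erase a ⊂ A := Finset.erase_ssubset haA
  have hH' : Hyp (A.erase a) x y := by
    refine ⟨hx, hy, ?_, ?_, hcard⟩
    · intro p hp
      by_cases h : p = a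
      · rw [h, hxa]
      · exact hxA p (fun h' => hp (Finset.mem_erase.mpr ⟨h, h'⟩))
    · intro p hp
      by_cases h : p = a
      · rw [h, hya]
      · exact hyA p (fun h' => hp (Finset.mem_erase.mpr ⟨h, h'⟩))
  obtain ⟨z, hz, hzB, h1, h2⟩ := ih _ hB x y hH' (hne hH')
  exact ⟨z, hz, fun p hp => hzB p (fun h => hp (Finset.mem_of_mem_erase h)), h1, h2⟩

lemma step_R2 (A : Finset α) (ih : IH A) (x y : Perm α) (hH : Hyp A x y) (a : α)
    (hxa : x a ≠ a) (hxy : y a = x a)
    (hne : Hyp (A \ {a, x a}) (x * swap a (x a)) (y * swap a (x a)) →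
      ¬ Exc (A \ {a, x a}) (x * swap a (x a)) (y * swap a (x a))) : Sol A x y := by
  obtain ⟨hx, hy, hxA, hyA, hcard⟩ := hH
  obtain ⟨b, hb⟩ : ∃ b, b = x a := ⟨_, rfl⟩
  rw [← hb] at hne hxy hxa
  have hab : a ≠ b := fun h => hxa h.symm
  have haA : a ∈ A := mem_of_moved hxA (by rw [← hb]; exact hxa)
  have hbA : b ∈ A := by rw [hb]; exact img_mem hx hxA (by rw [← hb]; exact hxa)
  obtain ⟨dx1, dx2, dx3, dx4, dx5⟩ := del_spec x hx hab hb.symm
  obtain ⟨dy1, dy2, dy3, dy4, dy5⟩ := del_spec y hy hab hxy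
  have hB : A \ {a, b} ⊂ A := by
    apply Finset.sdiff_ssubset
    · intro p hp; simp only [Finset.mem_insert, Finset.mem_singleton] at hp
      rcases hp with rfl | rfl <;> assumption
    · exact ⟨a, by simp⟩
  have hnotB : ∀ p, p ∉ A \ {a, b} → p = a ∨ p = b ∨ p ∉ A := by
    intro p hp
    by_cases h1 : p = a
    · exact Or.inl h1
    by_cases h2 : p = b
    · exact Or.inr (Or.inl h2)
    refine Or.inr (Or.inr fun h => hp ?_)
    simp [h, h1, h2]
  have hH' : Hyp (A \ {a, b}) (x * swap a b) (y * swap a b) := by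
    refine ⟨dx1, dy1, ?_, ?_, by omega⟩
    · intro p hp
      rcases hnotB p hp with rfl | rfl | h
      · exact dx2
      · exact dx3
      · have h1 : p ≠ a := fun h' => h (h' ▸ haA)
        have h2 : p ≠ b := fun h' => h (h' ▸ hbA)
        rw [dx4 p h1 h2]; exact hxA p h
    · intro p hp
      rcases hnotB p hp with rfl | rfl | h
      · exact dy2
      · exact dy3
      · have h1 : p ≠ a := fun h' => h (h' ▸ haA)
        have h2 : p ≠ b := fun h' => h (h' ▸ hbA)
        rw [dy4 p h1 h2]; exact hyA p h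
  obtain ⟨z', hz', hzB, h1, h2⟩ := ih _ hB _ _ hH' (hne hH')
  have za : z' a = a := hzB a (by simp)
  have zb : z' b = b := hzB b (by simp)
  obtain ⟨az1, az2, az3, az4, -⟩ := add_spec z' hz' hab za zb
  refine ⟨z' * swap a b, az1, ?_, ?_, ?_⟩
  · intro p hp
    have h1 : p ≠ a := fun h' => hp (h' ▸ haA)
    have h2 : p ≠ b := fun h' => hp (h' ▸ hbA)
    rw [az4 p h1 h2]
    exact hzB p (fun h => hp (Finset.mem_sdiff.mp h).1)
  · have hxe : x = x * swap a b * swap a b := by rw [mul_assoc, swap_mul_self, mul_one]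
    have hcomm := swap_comm_of_fix z' za zb
    have : x * (z' * swap a b) = x * swap a b * z' := by
      calc x * (z' * swap a b) = x * swap a b * swap a b * (z' * swap a b) := by rw [← hxe]
        _ = x * swap a b * (swap a b * z') * swap a b := by group
        _ = x * swap a b * (z' * swap a b) * swap a b := by rw [hcomm]
        _ = x * swap a b * z' * (swap a b * swap a b) := by group
        _ = x * swap a b * z' := by rw [swap_mul_self, mul_one]
    rw [this]; exact h1
  · have hye : y = y * swap a b * swap a b := by rw [mul_assoc, swap_mul_self, mul_one]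
    have hcomm := swap_comm_of_fix (y * swap a b) dy2 dy3
    have : z' * swap a b * y = z' * (y * swap a b) := by
      calc z' * swap a b * y = z' * swap a b * (y * swap a b * swap a b) := by rw [← hye]
        _ = z' * (swap a b * (y * swap a b)) * swap a b := by group
        _ = z' * ((y * swap a b) * swap a b) * swap a b := by rw [hcomm]
        _ = z' * (y * swap a b) * (swap a b * swap a b) := by group
        _ = z' * (y * swap a b) := by rw [swap_mul_self, mul_one]
    rw [this]; exact h2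

lemma cancel_left (x z' : Perm α) (a b : α) (za : z' a = a) (zb : z' b = b) :
    x * (z' * swap a b) = x * swap a b * z' := by
  have hcomm := swap_comm_of_fix z' za zb
  calc x * (z' * swap a b) = x * (swap a b * z') := by rw [hcomm]
    _ = x * swap a b * z' := by group

lemma undo_swap (x : Perm α) (a b : α) : x = x * swap a b * swap a b := by
  rw [mul_assoc, swap_mul_self, mul_one]

lemma sdiff_pair_ssubset {A : Finset α} {a b : α} (ha : a ∈ A) (hb : b ∈ A) :
    A \ {a, b} ⊂ A := by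
  apply Finset.sdiff_ssubset
  · intro p hp; simp only [Finset.mem_insert, Finset.mem_singleton] at hp
    rcases hp with rfl | rfl <;> assumption
  · exact ⟨a, by simp⟩

lemma not_mem_sdiff_pair {A : Finset α} {a b : α} (p : α) (hp : p ∉ A \ {a, b}) :
    p = a ∨ p = b ∨ p ∉ A := by
  by_cases h1 : p = a
  · exact Or.inl h1
  by_cases h2 : p = b
  · exact Or.inr (Or.inl h2)
  refine Or.inr (Or.inr fun h => hp ?_)
  simp [h, h1, h2]

lemma step_R3 (A : Finset α) (ih : IH A) (x y : Perm α) (hH : Hyp A x y) (a : α)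
    (hya : y a = a) (hxa : x a ≠ a) (hyb : y (x a) ≠ x a) : Sol A x y := by
  obtain ⟨hx, hy, hxA, hyA, hcard⟩ := hH
  have haA : a ∈ A := mem_of_moved hxA hxa
  have hbA : x a ∈ A := img_mem hx hxA hxa
  have hcA : y (x a) ∈ A := img_mem hy hyA hyb
  obtain ⟨b, hb⟩ : ∃ b, b = x a := ⟨_, rfl⟩
  rw [← hb] at hxa hyb hbA hcA
  obtain ⟨c, hc⟩ : ∃ c, c = y b := ⟨_, rfl⟩
  rw [← hc] at hyb hcA
  have hab : a ≠ b := fun h => hxa h.symm
  have hbc : b ≠ c := fun h => hyb h.symm
  have hac : a ≠ c := by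
    intro h
    have : y c = b := by rw [hc]; exact sq_apply y hy b
    rw [← h, hya] at this
    exact hab this
  obtain ⟨dx1, dx2, dx3, dx4, dx5⟩ := del_spec x hx hab hb.symm
  obtain ⟨dy1, dy2, dy3, dy4, dy5⟩ := del_spec y hy hbc hc.symm
  have hya' : (y * swap b c) a = a := by rw [dy4 a hab hac, hya]
  have hB := sdiff_pair_ssubset haA hbA
  have hH' : Hyp (A \ {a, b}) (x * swap a b) (y * swap b c) := by
    refine ⟨dx1, dy1, ?_, ?_, by omega⟩
    · intro p hp
      rcases not_mem_sdiff_pair p hp with rfl | rfl | h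
      · exact dx2
      · exact dx3
      · have h1 : p ≠ a := fun h' => h (h' ▸ haA)
        have h2 : p ≠ b := fun h' => h (h' ▸ hbA)
        rw [dx4 p h1 h2]; exact hxA p h
    · intro p hp
      rcases not_mem_sdiff_pair p hp with rfl | rfl | h
      · exact hya'
      · exact dy2
      · have h1 : p ≠ b := fun h' => h (h' ▸ hbA)
        have h2 : p ≠ c := fun h' => h (h' ▸ hcA)
        rw [dy4 p h1 h2]; exact hyA p h
  have hne : ¬ Exc (A \ {a, b}) (x * swap a b) (y * swap b c) := by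
    intro hE
    refine hE.2.2.1 c ?_ dy3
    simp [hcA, hac.symm, hbc.symm]
  obtain ⟨z', hz', hzB, h1, h2⟩ := ih _ hB _ _ hH' hne
  have za : z' a = a := hzB a (by simp)
  have zb : z' b = b := hzB b (by simp)
  obtain ⟨az1, az2, az3, az4, -⟩ := add_spec z' hz' hab za zb
  refine ⟨z' * swap a b, az1, ?_, ?_, ?_⟩
  · intro p hp
    have h1 : p ≠ a := fun h' => hp (h' ▸ haA)
    have h2 : p ≠ b := fun h' => hp (h' ▸ hbA)
    rw [az4 p h1 h2]
    exact hzB p (fun h => hp (Finset.mem_sdiff.mp h).1)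
  · rw [cancel_left x z' a b za zb]; exact h1
  · have hye := undo_swap y b c
    have hcomm := swap_comm_of_fix (y * swap b c) hya' dy2
    have : z' * swap a b * y = (z' * (y * swap b c)) * (swap a b * swap b c) := by
      calc z' * swap a b * y = z' * swap a b * (y * swap b c * swap b c) := by rw [← hye]
        _ = z' * (swap a b * (y * swap b c)) * swap b c := by group
        _ = z' * ((y * swap b c) * swap a b) * swap b c := by rw [hcomm]
        _ = (z' * (y * swap b c)) * (swap a b * swap b c) := by group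
    rw [this]
    apply m3 _ _ c a b hac.symm hbc.symm _ _ _ _ _ _ h2
    · simp [Perm.mul_apply, hya', za]
    · simp [Perm.mul_apply, dy2, zb]
    · simp [Perm.mul_apply, swap_apply_def, hab, hab.symm, hac, hac.symm, hbc, hbc.symm]
    · simp [Perm.mul_apply, swap_apply_def, hab, hab.symm, hac, hac.symm, hbc, hbc.symm]
    · simp [Perm.mul_apply, swap_apply_def, hab, hab.symm, hac, hac.symm, hbc, hbc.symm]
    · intro p h1 h2 h3; simp [Perm.mul_apply, swap_apply_def, h1, h2, h3]

lemma step_R4 (A : Finset α) (ih : IH A) (x y : Perm α) (hH : Hyp A x y) (a c : α)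
    (hya : y a = a) (hxa : x a ≠ a) (hyb : y (x a) = x a)
    (hxc : x c = c) (hyc : y c ≠ c) (hxd : x (y c) = y c)
    (hne : Hyp (A \ {a, x a, c, y c}) (x * swap a (x a)) (y * swap c (y c)) →
      ¬ Exc (A \ {a, x a, c, y c}) (x * swap a (x a)) (y * swap c (y c))) :
    Sol A x y := by
  obtain ⟨hx, hy, hxA, hyA, hcard⟩ := hH
  have haA : a ∈ A := mem_of_moved hxA hxa
  have hbA : x a ∈ A := img_mem hx hxA hxa
  have hcA : c ∈ A := mem_of_moved hyA hyc
  have hdA : y c ∈ A := img_mem hy hyA hyc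
  obtain ⟨b, hb⟩ : ∃ b, b = x a := ⟨_, rfl⟩
  rw [← hb] at hxa hyb hbA hne
  obtain ⟨d, hd⟩ : ∃ d, d = y c := ⟨_, rfl⟩
  rw [← hd] at hyc hxd hdA hne
  have hxb : x b = a := by rw [hb]; exact sq_apply x hx a
  have hyd : y d = c := by rw [hd]; exact sq_apply y hy c
  have hab : a ≠ b := fun h => hxa h.symm
  have hcd : c ≠ d := fun h => hyc h.symm
  have hac : a ≠ c := fun h => hxa (by rw [hb, h]; exact hxc)
  have had : a ≠ d := fun h => hxa (by rw [hb, h]; exact hxd)
  have hbc : b ≠ c := fun h => hab (by rw [← hxb, h, hxc])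
  have hbd : b ≠ d := fun h => hab (by rw [← hxb, h, hxd])
  obtain ⟨dx1, dx2, dx3, dx4, dx5⟩ := del_spec x hx hab hb.symm
  obtain ⟨dy1, dy2, dy3, dy4, dy5⟩ := del_spec y hy hcd hd.symm
  have hxc' : (x * swap a b) c = c := by rw [dx4 c hac.symm hbc.symm, hxc]
  have hxd' : (x * swap a b) d = d := by rw [dx4 d had.symm hbd.symm, hxd]
  have hya' : (y * swap c d) a = a := by rw [dy4 a hac had, hya]
  have hyb' : (y * swap c d) b = b := by rw [dy4 b hbc hbd, hyb]
  have hB : A \ {a, b, c, d} ⊂ A := by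
    apply Finset.sdiff_ssubset
    · intro p hp; simp only [Finset.mem_insert, Finset.mem_singleton] at hp
      rcases hp with rfl | rfl | rfl | rfl <;> assumption
    · exact ⟨a, by simp⟩
  have hnotB : ∀ p, p ∉ A \ {a, b, c, d} → p = a ∨ p = b ∨ p = c ∨ p = d ∨ p ∉ A := by
    intro p hp
    by_cases h1 : p = a
    · exact Or.inl h1
    by_cases h2 : p = b
    · exact Or.inr (Or.inl h2)
    by_cases h3 : p = c
    · exact Or.inr (Or.inr (Or.inl h3))
    by_cases h4 : p = d
    · exact Or.inr (Or.inr (Or.inr (Or.inl h4)))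
    refine Or.inr (Or.inr (Or.inr (Or.inr fun h => hp ?_)))
    simp [h, h1, h2, h3, h4]
  have hH' : Hyp (A \ {a, b, c, d}) (x * swap a b) (y * swap c d) := by
    refine ⟨dx1, dy1, ?_, ?_, by omega⟩
    · intro p hp
      rcases hnotB p hp with rfl | rfl | rfl | rfl | h
      · exact dx2
      · exact dx3
      · exact hxc'
      · exact hxd'
      · have h1 : p ≠ a := fun h' => h (h' ▸ haA)
        have h2 : p ≠ b := fun h' => h (h' ▸ hbA)
        rw [dx4 p h1 h2]; exact hxA p h
    · intro p hp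
      rcases hnotB p hp with rfl | rfl | rfl | rfl | h
      · exact hya'
      · exact hyb'
      · exact dy2
      · exact dy3
      · have h1 : p ≠ c := fun h' => h (h' ▸ hcA)
        have h2 : p ≠ d := fun h' => h (h' ▸ hdA)
        rw [dy4 p h1 h2]; exact hyA p h
  obtain ⟨z', hz', hzB, h1, h2⟩ := ih _ hB _ _ hH' (hne hH')
  have za : z' a = a := hzB a (by simp)
  have zb : z' b = b := hzB b (by simp)
  have zc : z' c = c := hzB c (by simp)
  have zd : z' d = d := hzB d (by simp)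
  obtain ⟨az1, az2, az3, az4, -⟩ := add_spec z' hz' hbc zb zc
  refine ⟨z' * swap b c, az1, ?_, ?_, ?_⟩
  · intro p hp
    have h1 : p ≠ b := fun h' => hp (h' ▸ hbA)
    have h2 : p ≠ c := fun h' => hp (h' ▸ hcA)
    rw [az4 p h1 h2]
    exact hzB p (fun h => hp (Finset.mem_sdiff.mp h).1)
  · have hxe := undo_swap x a b
    have hcomm := swap_comm_of_fix z' za zb
    have : x * (z' * swap b c) = (x * swap a b * z') * (swap a b * swap b c) := by
      calc x * (z' * swap b c) = x * swap a b * swap a b * (z' * swap b c) := by rw [← hxe]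
        _ = x * swap a b * (swap a b * z') * swap b c := by group
        _ = x * swap a b * (z' * swap a b) * swap b c := by rw [hcomm]
        _ = (x * swap a b * z') * (swap a b * swap b c) := by group
    rw [this]
    apply m3 _ _ c a b hac.symm hbc.symm _ _ _ _ _ _ h1
    · simp [Perm.mul_apply, dx2, za]
    · simp [Perm.mul_apply, dx3, zb]
    · simp [Perm.mul_apply, swap_apply_def, hab, hab.symm, hac, hac.symm, hbc, hbc.symm]
    · simp [Perm.mul_apply, swap_apply_def, hab, hab.symm, hac, hac.symm, hbc, hbc.symm]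
    · simp [Perm.mul_apply, swap_apply_def, hab, hab.symm, hac, hac.symm, hbc, hbc.symm]
    · intro p h1 h2 h3; simp [Perm.mul_apply, swap_apply_def, h1, h2, h3]
  · have hye := undo_swap y c d
    have hcomm := swap_comm_of_fix (y * swap c d) hyb' dy2
    have : z' * swap b c * y = (z' * (y * swap c d)) * (swap b c * swap c d) := by
      calc z' * swap b c * y = z' * swap b c * (y * swap c d * swap c d) := by rw [← hye]
        _ = z' * (swap b c * (y * swap c d)) * swap c d := by group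
        _ = z' * ((y * swap c d) * swap b c) * swap c d := by rw [hcomm]
        _ = (z' * (y * swap c d)) * (swap b c * swap c d) := by group
    rw [this]
    apply m3 _ _ d b c hbd.symm hcd.symm _ _ _ _ _ _ h2
    · simp [Perm.mul_apply, hyb', zb]
    · simp [Perm.mul_apply, dy2, zc]
    · simp [Perm.mul_apply, swap_apply_def, hbc, hbc.symm, hbd, hbd.symm, hcd, hcd.symm]
    · simp [Perm.mul_apply, swap_apply_def, hbc, hbc.symm, hbd, hbd.symm, hcd, hcd.symm]
    · simp [Perm.mul_apply, swap_apply_def, hbc, hbc.symm, hbd, hbd.symm, hcd, hcd.symm]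
    · intro p h1 h2 h3; simp [Perm.mul_apply, swap_apply_def, h1, h2, h3]

end Cfsg.Agent.Lib.Helper59.IG
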