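import Cfsg.Agent.Lib.Helper59.InvGraphA

set_option autoImplicit false
set_option linter.unusedSectionVars false
set_option linter.unusedSimpArgs false
set_option linter.unusedVariables false

namespace Cfsg.Agent.Lib.Helper59.IG

open Equiv

variable {α : Type*} [DecidableEq α] [Fintype α]

lemma exc_c4 {B : Finset α} {x y : Perm α} (hx : x * x = 1) (hy : y * y = 1)
    (hxB : ∀ p, p ∉ B → x p = p) (hyB : ∀ p, p ∉ B → y p = p)
    (hE : Exc B x y) (p : α) (hp : p ∈ B) :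
    [p, x p, y (x p), x (y (x p))].Nodup ∧ y (x (y (x p))) = p ∧
      B = {p, x p, y (x p), x (y (x p))} := by
  obtain ⟨hcard, hfx, hfy, hne⟩ := hE
  have hq1 : x p ∈ B := img_mem hx hxB (hfx p hp)
  have hq2 : y (x p) ∈ B := img_mem hy hyB (hfy _ hq1)
  have hq3 : x (y (x p)) ∈ B := img_mem hx hxB (hfx _ hq2)
  have hq4 : y (x (y (x p))) ∈ B := img_mem hy hyB (hfy _ hq3)
  obtain ⟨q1, e1⟩ : ∃ q1, q1 = x p := ⟨_, rfl⟩
  rw [← e1] at hq1 hq2 hq3 hq4 ⊢
  obtain ⟨q2, e2⟩ : ∃ q2, q2 = y q1 := ⟨_, rfl⟩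
  rw [← e2] at hq2 hq3 hq4 ⊢
  obtain ⟨q3, e3⟩ : ∃ q3, q3 = x q2 := ⟨_, rfl⟩
  rw [← e3] at hq3 hq4 ⊢
  have xq1 : x q1 = p := by rw [e1]; exact sq_apply x hx p
  have yq2 : y q2 = q1 := by rw [e2]; exact sq_apply y hy q1
  have xq3 : x q3 = q2 := by rw [e3]; exact sq_apply x hx q2
  have n01 : p ≠ q1 := by rw [e1]; exact (hfx p hp).symm
  have n12 : q1 ≠ q2 := by rw [e2]; exact (hfy q1 hq1).symm
  have n02 : p ≠ q2 := by
    intro h
    apply hne p hp
    rw [← e1, h, yq2]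
  have n23 : q2 ≠ q3 := by rw [e3]; exact (hfx q2 hq2).symm
  have n13 : q1 ≠ q3 := by
    intro h
    apply n02
    rw [← xq1, h, xq3]
  have n03 : p ≠ q3 := by
    intro h
    apply n12
    rw [e1, h, xq3]
  have hnd : [p, q1, q2, q3].Nodup := by
    simp [n01, n02, n03, n12, n13, n23]
  have hS : ({p, q1, q2, q3} : Finset α) ⊆ B := by
    intro t ht
    simp only [Finset.mem_insert, Finset.mem_singleton] at ht
    rcases ht with rfl | rfl | rfl | rfl <;> assumption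
  have hScard : ({p, q1, q2, q3} : Finset α).card = 4 := by
    have := List.toFinset_card_of_nodup hnd
    simpa using this
  have hBS : B = {p, q1, q2, q3} :=
    (Finset.eq_of_subset_of_card_le hS (by rw [hScard, hcard])).symm
  refine ⟨hnd, ?_, hBS⟩
  rw [hBS] at hq4
  simp only [Finset.mem_insert, Finset.mem_singleton] at hq4
  rcases hq4 with h | h | h | h
  · exact h
  · exfalso
    apply n23
    have : q3 = y q1 := by rw [← h]; exact (sq_apply y hy q3).symm
    rw [this, ← e2]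
  · exfalso
    apply n13
    have : q3 = y q2 := by rw [← h]; exact (sq_apply y hy q3).symm
    rw [this, yq2]
  · exact absurd h (hfy q3 hq3)


lemma four_swaps_inv (a1 b1 a2 b2 a3 b3 a4 b4 : α)
    (hnd : [a1, b1, a2, b2, a3, b3, a4, b4].Nodup) :
    (swap a1 b1 * swap a2 b2 * swap a3 b3 * swap a4 b4) *
      (swap a1 b1 * swap a2 b2 * swap a3 b3 * swap a4 b4) = 1 := by
  have H1 := hnd
  have H2 := List.nodup_reverse.mpr hnd
  simp only [List.reverse_cons, List.reverse_nil, List.nil_append, List.cons_append,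
    List.nodup_cons, List.mem_cons, List.not_mem_nil, or_false, not_or, List.nodup_nil,
    and_true, not_false_eq_true] at H1 H2
  have e0 : swap a1 b1 = (1 : Perm α) * swap a1 b1 := (one_mul _).symm
  obtain ⟨i1, -, -, f1, -⟩ := add_spec (1 : Perm α) (one_mul 1) (a := a1) (b := b1)
    (by simp [H1]) rfl rfl
  rw [← e0] at i1 f1
  obtain ⟨i2, -, -, f2, -⟩ := add_spec _ i1 (a := a2) (b := b2) (by simp [H1])
    (by rw [f1 a2 (by simp [H1, H2]) (by simp [H1, H2])]; rfl)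
    (by rw [f1 b2 (by simp [H1, H2]) (by simp [H1, H2])]; rfl)
  obtain ⟨i3, -, -, f3, -⟩ := add_spec _ i2 (a := a3) (b := b3) (by simp [H1])
    (by rw [f2 a3 (by simp [H1, H2]) (by simp [H1, H2]),
      f1 a3 (by simp [H1, H2]) (by simp [H1, H2])]; rfl)
    (by rw [f2 b3 (by simp [H1, H2]) (by simp [H1, H2]),
      f1 b3 (by simp [H1, H2]) (by simp [H1, H2])]; rfl)
  obtain ⟨i4, -, -, f4, -⟩ := add_spec _ i3 (a := a4) (b := b4) (by simp [H1])
    (by rw [f3 a4 (by simp [H1, H2]) (by simp [H1, H2]),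
      f2 a4 (by simp [H1, H2]) (by simp [H1, H2]),
      f1 a4 (by simp [H1, H2]) (by simp [H1, H2])]; rfl)
    (by rw [f3 b4 (by simp [H1, H2]) (by simp [H1, H2]),
      f2 b4 (by simp [H1, H2]) (by simp [H1, H2]),
      f1 b4 (by simp [H1, H2]) (by simp [H1, H2])]; rfl)
  exact i4

/-- explicit solution for a single 8-cycle of the `x`–`y` graph. -/
lemma explicit_E1 (x y : Perm α) (c0 c1 c2 c3 c4 c5 c6 c7 : α)
    (hnd : [c0, c1, c2, c3, c4, c5, c6, c7].Nodup)
    (x0 : x c0 = c1) (x1 : x c1 = c0) (x2 : x c2 = c3) (x3 : x c3 = c2)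
    (x4 : x c4 = c5) (x5 : x c5 = c4) (x6 : x c6 = c7) (x7 : x c7 = c6)
    (xf : ∀ p, p ≠ c0 → p ≠ c1 → p ≠ c2 → p ≠ c3 → p ≠ c4 → p ≠ c5 → p ≠ c6 → p ≠ c7 → x p = p)
    (y1 : y c1 = c2) (y2 : y c2 = c1) (y3 : y c3 = c4) (y4 : y c4 = c3)
    (y5 : y c5 = c6) (y6 : y c6 = c5) (y7 : y c7 = c0) (y0 : y c0 = c7)
    (yf : ∀ p, p ≠ c0 → p ≠ c1 → p ≠ c2 → p ≠ c3 → p ≠ c4 → p ≠ c5 → p ≠ c6 → p ≠ c7 → y p = p) :
    ∃ z : Perm α, z * z = 1 ∧
      (∀ p, p ≠ c0 → p ≠ c1 → p ≠ c2 → p ≠ c3 → p ≠ c4 → p ≠ c5 → p ≠ c6 → p ≠ c7 → z p = p) ∧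
      OddOrd (x * z) ∧ OddOrd (z * y) := by
  have H1 := hnd
  have H2 := List.nodup_reverse.mpr hnd
  simp only [List.reverse_cons, List.reverse_nil, List.nil_append, List.cons_append,
    List.nodup_cons, List.mem_cons, List.not_mem_nil, or_false, not_or, List.nodup_nil,
    and_true, not_false_eq_true] at H1 H2
  obtain ⟨z, hz⟩ : ∃ z : Perm α, z = swap c1 c2 * swap c3 c5 * swap c0 c4 * swap c6 c7 :=
    ⟨_, rfl⟩
  have z0 : z c0 = c4 := by simp [hz, Perm.mul_apply, swap_apply_def, H1, H2]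
  have z1 : z c1 = c2 := by simp [hz, Perm.mul_apply, swap_apply_def, H1, H2]
  have z2 : z c2 = c1 := by simp [hz, Perm.mul_apply, swap_apply_def, H1, H2]
  have z3 : z c3 = c5 := by simp [hz, Perm.mul_apply, swap_apply_def, H1, H2]
  have z4 : z c4 = c0 := by simp [hz, Perm.mul_apply, swap_apply_def, H1, H2]
  have z5 : z c5 = c3 := by simp [hz, Perm.mul_apply, swap_apply_def, H1, H2]
  have z6 : z c6 = c7 := by simp [hz, Perm.mul_apply, swap_apply_def, H1, H2]
  have z7 : z c7 = c6 := by simp [hz, Perm.mul_apply, swap_apply_def, H1, H2]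
  have zf : ∀ p, p ≠ c0 → p ≠ c1 → p ≠ c2 → p ≠ c3 → p ≠ c4 → p ≠ c5 → p ≠ c6 → p ≠ c7 →
      z p = p := by
    intro p h0 h1 h2 h3 h4 h5 h6 h7
    simp [hz, Perm.mul_apply, swap_apply_def, h0, h1, h2, h3, h4, h5, h6, h7]
  refine ⟨z, ?_, zf, ?_, ?_⟩
  · rw [hz]
    apply four_swaps_inv
    simp [H1, H2]
  · have := m3x2 1 (x * z) c0 c5 c2 c1 c3 c4 (by simp [H1, H2]) rfl rfl rfl rfl
      (by rw [Perm.mul_apply, z0, x4]) (by rw [Perm.mul_apply, z5, x3])
      (by rw [Perm.mul_apply, z2, x1]) (by rw [Perm.mul_apply, z1, x2])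
      (by rw [Perm.mul_apply, z3, x5]) (by rw [Perm.mul_apply, z4, x0])
      (by
        intro p h0 h5 h2 h1 h3 h4
        by_cases h6 : p = c6
        · rw [h6, Perm.mul_apply, z6, x7]
        by_cases h7 : p = c7
        · rw [h7, Perm.mul_apply, z7, x6]
        rw [Perm.mul_apply, zf p h0 h1 h2 h3 h4 h5 h6 h7, xf p h0 h1 h2 h3 h4 h5 h6 h7])
      oddOrd_one
    rwa [one_mul] at this
  · have := m3x2 1 (z * y) c3 c0 c6 c4 c5 c7 (by simp [H1, H2]) rfl rfl rfl rfl
      (by rw [Perm.mul_apply, y3, z4]) (by rw [Perm.mul_apply, y0, z7])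
      (by rw [Perm.mul_apply, y6, z5]) (by rw [Perm.mul_apply, y4, z3])
      (by rw [Perm.mul_apply, y5, z6]) (by rw [Perm.mul_apply, y7, z0])
      (by
        intro p h3 h0 h6 h4 h5 h7
        by_cases h1 : p = c1
        · rw [h1, Perm.mul_apply, y1, z2]
        by_cases h2 : p = c2
        · rw [h2, Perm.mul_apply, y2, z1]
        rw [Perm.mul_apply, yf p h0 h1 h2 h3 h4 h5 h6 h7, zf p h0 h1 h2 h3 h4 h5 h6 h7])
      oddOrd_one
    rwa [one_mul] at this

/-- explicit solution for two disjoint 4-cycles of the `x`–`y` graph. -/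
lemma explicit_E2 (x y : Perm α) (c0 c1 c2 c3 c4 c5 c6 c7 : α)
    (hnd : [c0, c1, c2, c3, c4, c5, c6, c7].Nodup)
    (x0 : x c0 = c1) (x1 : x c1 = c0) (x2 : x c2 = c3) (x3 : x c3 = c2)
    (x4 : x c4 = c5) (x5 : x c5 = c4) (x6 : x c6 = c7) (x7 : x c7 = c6)
    (xf : ∀ p, p ≠ c0 → p ≠ c1 → p ≠ c2 → p ≠ c3 → p ≠ c4 → p ≠ c5 → p ≠ c6 → p ≠ c7 → x p = p)
    (y1 : y c1 = c2) (y2 : y c2 = c1) (y3 : y c3 = c0) (y0 : y c0 = c3)
    (y5 : y c5 = c6) (y6 : y c6 = c5) (y7 : y c7 = c4) (y4 : y c4 = c7)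
    (yf : ∀ p, p ≠ c0 → p ≠ c1 → p ≠ c2 → p ≠ c3 → p ≠ c4 → p ≠ c5 → p ≠ c6 → p ≠ c7 → y p = p) :
    ∃ z : Perm α, z * z = 1 ∧
      (∀ p, p ≠ c0 → p ≠ c1 → p ≠ c2 → p ≠ c3 → p ≠ c4 → p ≠ c5 → p ≠ c6 → p ≠ c7 → z p = p) ∧
      OddOrd (x * z) ∧ OddOrd (z * y) := by
  have H1 := hnd
  have H2 := List.nodup_reverse.mpr hnd
  simp only [List.reverse_cons, List.reverse_nil, List.nil_append, List.cons_append,
    List.nodup_cons, List.mem_cons, List.not_mem_nil, or_false, not_or, List.nodup_nil,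
    and_true, not_false_eq_true] at H1 H2
  obtain ⟨z, hz⟩ : ∃ z : Perm α, z = swap c1 c2 * swap c3 c4 * swap c0 c5 * swap c6 c7 :=
    ⟨_, rfl⟩
  have z0 : z c0 = c5 := by simp [hz, Perm.mul_apply, swap_apply_def, H1, H2]
  have z1 : z c1 = c2 := by simp [hz, Perm.mul_apply, swap_apply_def, H1, H2]
  have z2 : z c2 = c1 := by simp [hz, Perm.mul_apply, swap_apply_def, H1, H2]
  have z3 : z c3 = c4 := by simp [hz, Perm.mul_apply, swap_apply_def, H1, H2]
  have z4 : z c4 = c3 := by simp [hz, Perm.mul_apply, swap_apply_def, H1, H2]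
  have z5 : z c5 = c0 := by simp [hz, Perm.mul_apply, swap_apply_def, H1, H2]
  have z6 : z c6 = c7 := by simp [hz, Perm.mul_apply, swap_apply_def, H1, H2]
  have z7 : z c7 = c6 := by simp [hz, Perm.mul_apply, swap_apply_def, H1, H2]
  have zf : ∀ p, p ≠ c0 → p ≠ c1 → p ≠ c2 → p ≠ c3 → p ≠ c4 → p ≠ c5 → p ≠ c6 → p ≠ c7 →
      z p = p := by
    intro p h0 h1 h2 h3 h4 h5 h6 h7
    simp [hz, Perm.mul_apply, swap_apply_def, h0, h1, h2, h3, h4, h5, h6, h7]
  refine ⟨z, ?_, zf, ?_, ?_⟩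
  · rw [hz]
    apply four_swaps_inv
    simp [H1, H2]
  · -- x z = (c0 c4 c2)(c1 c3 c5)
    have := m3x2 1 (x * z) c0 c4 c2 c1 c3 c5 (by simp [H1, H2]) rfl rfl rfl rfl
      (by rw [Perm.mul_apply, z0, x5]) (by rw [Perm.mul_apply, z4, x3])
      (by rw [Perm.mul_apply, z2, x1]) (by rw [Perm.mul_apply, z1, x2])
      (by rw [Perm.mul_apply, z3, x4]) (by rw [Perm.mul_apply, z5, x0])
      (by
        intro p h0 h4 h2 h1 h3 h5
        by_cases h6 : p = c6
        · rw [h6, Perm.mul_apply, z6, x7]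
        by_cases h7 : p = c7
        · rw [h7, Perm.mul_apply, z7, x6]
        rw [Perm.mul_apply, zf p h0 h1 h2 h3 h4 h5 h6 h7, xf p h0 h1 h2 h3 h4 h5 h6 h7])
      oddOrd_one
    rwa [one_mul] at this
  · -- z y = (c3 c5 c7)(c0 c4 c6)
    have := m3x2 1 (z * y) c3 c5 c7 c0 c4 c6 (by simp [H1, H2]) rfl rfl rfl rfl
      (by rw [Perm.mul_apply, y3, z0]) (by rw [Perm.mul_apply, y5, z6])
      (by rw [Perm.mul_apply, y7, z4]) (by rw [Perm.mul_apply, y0, z3])
      (by rw [Perm.mul_apply, y4, z7]) (by rw [Perm.mul_apply, y6, z5])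
      (by
        intro p h3 h5 h7 h0 h4 h6
        by_cases h1 : p = c1
        · rw [h1, Perm.mul_apply, y1, z2]
        by_cases h2 : p = c2
        · rw [h2, Perm.mul_apply, y2, z1]
        rw [Perm.mul_apply, yf p h0 h1 h2 h3 h4 h5 h6 h7, zf p h0 h1 h2 h3 h4 h5 h6 h7])
      oddOrd_one
    rwa [one_mul] at this

lemma step_R5 (A : Finset α) (ih : IH A) (x y : Perm α) (hH : Hyp A x y) (v1 : α)
    (hnd0 : [y v1, v1, x v1, y (x v1), x (y (x v1)), y (x (y (x v1)))].Nodup) : Sol A x y := by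
  obtain ⟨hx, hy, hxA, hyA, hcard⟩ := hH
  obtain ⟨u, eu⟩ : ∃ u, u = y v1 := ⟨_, rfl⟩
  obtain ⟨v2, e2⟩ : ∃ v2, v2 = x v1 := ⟨_, rfl⟩
  rw [← eu, ← e2] at hnd0
  obtain ⟨v3, e3⟩ : ∃ v3, v3 = y v2 := ⟨_, rfl⟩
  rw [← e3] at hnd0
  obtain ⟨v4, e4⟩ : ∃ v4, v4 = x v3 := ⟨_, rfl⟩
  rw [← e4] at hnd0
  obtain ⟨w, ew⟩ : ∃ w, w = y v4 := ⟨_, rfl⟩
  rw [← ew] at hnd0
  have hnd := hnd0
  have H1 := hnd
  have H2 := List.nodup_reverse.mpr hnd
  simp only [List.reverse_cons, List.reverse_nil, List.nil_append, List.cons_append,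
    List.nodup_cons, List.mem_cons, List.not_mem_nil, or_false, not_or, List.nodup_nil,
    and_true, not_false_eq_true] at H1 H2
  -- values of x, y
  have xv1 : x v1 = v2 := e2.symm
  have xv2 : x v2 = v1 := by rw [e2]; exact sq_apply x hx v1
  have xv3 : x v3 = v4 := e4.symm
  have xv4 : x v4 = v3 := by rw [e4]; exact sq_apply x hx v3
  have yv1 : y v1 = u := eu.symm
  have yu : y u = v1 := by rw [eu]; exact sq_apply y hy v1
  have yv2 : y v2 = v3 := e3.symm
  have yv3 : y v3 = v2 := by rw [e3]; exact sq_apply y hy v2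
  have yv4 : y v4 = w := ew.symm
  have yw : y w = v4 := by rw [ew]; exact sq_apply y hy v4
  -- membership
  have hv1A : v1 ∈ A := mem_of_moved hxA (by rw [xv1]; simp [H1, H2])
  have hv2A : v2 ∈ A := mem_of_moved hxA (by rw [xv2]; simp [H1, H2])
  have hv3A : v3 ∈ A := mem_of_moved hxA (by rw [xv3]; simp [H1, H2])
  have hv4A : v4 ∈ A := mem_of_moved hxA (by rw [xv4]; simp [H1, H2])
  have huA : u ∈ A := mem_of_moved hyA (by rw [yu]; simp [H1, H2])
  have hwA : w ∈ A := mem_of_moved hyA (by rw [yw]; simp [H1, H2])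
  -- x'
  obtain ⟨a1, a2, a3, a4, a5⟩ := del_spec x hx (a := v1) (b := v2) (by simp [H1]) xv1
  obtain ⟨x1, hx1⟩ : ∃ x1, x1 = x * swap v1 v2 := ⟨_, rfl⟩
  rw [← hx1] at a1 a2 a3 a4 a5
  have x1v3 : x1 v3 = v4 := by rw [a4 v3 (by simp [H1, H2]) (by simp [H1, H2]), xv3]
  obtain ⟨b1, b2, b3, b4, b5⟩ := del_spec x1 a1 (a := v3) (b := v4) (by simp [H1]) x1v3
  obtain ⟨x', hx'⟩ : ∃ x', x' = x1 * swap v3 v4 := ⟨_, rfl⟩
  rw [← hx'] at b1 b2 b3 b4 b5
  have x'v1 : x' v1 = v1 := by rw [b4 v1 (by simp [H1, H2]) (by simp [H1, H2]), a2]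
  have x'v2 : x' v2 = v2 := by rw [b4 v2 (by simp [H1, H2]) (by simp [H1, H2]), a3]
  have x'o : ∀ p, p ≠ v1 → p ≠ v2 → p ≠ v3 → p ≠ v4 → x' p = x p := by
    intro p h1 h2 h3 h4; rw [b4 p h3 h4, a4 p h1 h2]
  -- y'
  obtain ⟨c1, c2, c3, c4, c5⟩ := del_spec y hy (a := u) (b := v1) (by simp [H1]) yu
  obtain ⟨y1, hy1⟩ : ∃ y1, y1 = y * swap u v1 := ⟨_, rfl⟩
  rw [← hy1] at c1 c2 c3 c4 c5
  have y1v2 : y1 v2 = v3 := by rw [c4 v2 (by simp [H1, H2]) (by simp [H1, H2]), yv2]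
  obtain ⟨d1, d2, d3, d4, d5⟩ := del_spec y1 c1 (a := v2) (b := v3) (by simp [H1]) y1v2
  obtain ⟨y2, hy2⟩ : ∃ y2, y2 = y1 * swap v2 v3 := ⟨_, rfl⟩
  rw [← hy2] at d1 d2 d3 d4 d5
  have y2v4 : y2 v4 = w := by
    rw [d4 v4 (by simp [H1, H2]) (by simp [H1, H2]),
      c4 v4 (by simp [H1, H2]) (by simp [H1, H2]), yv4]
  obtain ⟨f1, f2, f3, f4, f5⟩ := del_spec y2 d1 (a := v4) (b := w) (by simp [H1]) y2v4
  obtain ⟨y3, hy3⟩ : ∃ y3, y3 = y2 * swap v4 w := ⟨_, rfl⟩
  rw [← hy3] at f1 f2 f3 f4 f5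
  have y3u : y3 u = u := by
    rw [f4 u (by simp [H1, H2]) (by simp [H1, H2]),
      d4 u (by simp [H1, H2]) (by simp [H1, H2]), c2]
  obtain ⟨g1, g2, g3, g4, g5⟩ := add_spec y3 f1 (a := u) (b := w) (by simp [H1]) y3u f3
  obtain ⟨y', hy'⟩ : ∃ y', y' = y3 * swap u w := ⟨_, rfl⟩
  rw [← hy'] at g1 g2 g3 g4 g5
  have y'v1 : y' v1 = v1 := by
    rw [g4 v1 (by simp [H1, H2]) (by simp [H1, H2]),
      f4 v1 (by simp [H1, H2]) (by simp [H1, H2]),
      d4 v1 (by simp [H1, H2]) (by simp [H1, H2]), c3]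
  have y'v2 : y' v2 = v2 := by
    rw [g4 v2 (by simp [H1, H2]) (by simp [H1, H2]),
      f4 v2 (by simp [H1, H2]) (by simp [H1, H2]), d2]
  have y'v3 : y' v3 = v3 := by
    rw [g4 v3 (by simp [H1, H2]) (by simp [H1, H2]),
      f4 v3 (by simp [H1, H2]) (by simp [H1, H2]), d3]
  have y'v4 : y' v4 = v4 := by
    rw [g4 v4 (by simp [H1, H2]) (by simp [H1, H2]), f2]
  have y'o : ∀ p, p ≠ u → p ≠ v1 → p ≠ v2 → p ≠ v3 → p ≠ v4 → p ≠ w → y' p = y p := by
    intro p h0 h1 h2 h3 h4 h5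
    rw [g4 p h0 h5, f4 p h4 h5, d4 p h2 h3, c4 p h0 h1]
  -- the smaller region
  have hB : A \ {v1, v2, v3, v4} ⊂ A := by
    apply Finset.sdiff_ssubset
    · intro p hp; simp only [Finset.mem_insert, Finset.mem_singleton] at hp
      rcases hp with rfl | rfl | rfl | rfl <;> assumption
    · exact ⟨v1, by simp⟩
  have hnotB : ∀ p, p ∉ A \ {v1, v2, v3, v4} → p = v1 ∨ p = v2 ∨ p = v3 ∨ p = v4 ∨ p ∉ A := by
    intro p hp
    by_cases h1 : p = v1
    · exact Or.inl h1
    by_cases h2 : p = v2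
    · exact Or.inr (Or.inl h2)
    by_cases h3 : p = v3
    · exact Or.inr (Or.inr (Or.inl h3))
    by_cases h4 : p = v4
    · exact Or.inr (Or.inr (Or.inr (Or.inl h4)))
    refine Or.inr (Or.inr (Or.inr (Or.inr fun h => hp ?_)))
    simp [h, h1, h2, h3, h4]
  have hneA : ∀ p, p ∉ A → p ≠ u ∧ p ≠ v1 ∧ p ≠ v2 ∧ p ≠ v3 ∧ p ≠ v4 ∧ p ≠ w := by
    intro p hp
    refine ⟨?_, ?_, ?_, ?_, ?_, ?_⟩ <;> rintro rfl <;> exact hp (by assumption)
  have hH' : Hyp (A \ {v1, v2, v3, v4}) x' y' := by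
    refine ⟨b1, g1, ?_, ?_, by omega⟩
    · intro p hp
      rcases hnotB p hp with rfl | rfl | rfl | rfl | h
      · exact x'v1
      · exact x'v2
      · exact b2
      · exact b3
      · obtain ⟨h0, h1, h2, h3, h4, h5⟩ := hneA p h
        rw [x'o p h1 h2 h3 h4]; exact hxA p h
    · intro p hp
      rcases hnotB p hp with rfl | rfl | rfl | rfl | h
      · exact y'v1
      · exact y'v2
      · exact y'v3
      · exact y'v4
      · obtain ⟨h0, h1, h2, h3, h4, h5⟩ := hneA p h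
        rw [y'o p h0 h1 h2 h3 h4 h5]; exact hyA p h
  have huB : u ∈ A \ {v1, v2, v3, v4} := by simp [huA, H1, H2]
  have hwB : w ∈ A \ {v1, v2, v3, v4} := by simp [hwA, H1, H2]
  by_cases hE : Exc (A \ {v1, v2, v3, v4}) x' y'
  · -- the 8-cycle
    obtain ⟨k1, k2, k3⟩ := exc_c4 b1 g1 hH'.2.2.1 hH'.2.2.2.1 hE u huB
    obtain ⟨u', eu'⟩ : ∃ u', u' = x' u := ⟨_, rfl⟩
    rw [← eu'] at k1 k2 k3
    obtain ⟨w', ew'⟩ : ∃ w', w' = y' u' := ⟨_, rfl⟩
    rw [← ew'] at k1 k2 k3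
    have hw : x' w' = w := by
      have : y' (y' (x' w')) = y' u := by rw [k2]
      rw [sq_apply y' g1, g2] at this
      exact this
    rw [hw] at k1 k3
    have K1 := k1
    have K2 := List.nodup_reverse.mpr k1
    simp only [List.reverse_cons, List.reverse_nil, List.nil_append, List.cons_append,
      List.nodup_cons, List.mem_cons, List.not_mem_nil, or_false, not_or, List.nodup_nil,
      and_true, not_false_eq_true] at K1 K2
    have hu'B : u' ∈ A \ {v1, v2, v3, v4} := by rw [k3]; simp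
    have hw'B : w' ∈ A \ {v1, v2, v3, v4} := by rw [k3]; simp
    have hu'n : u' ∈ A ∧ u' ≠ v1 ∧ u' ≠ v2 ∧ u' ≠ v3 ∧ u' ≠ v4 := by
      simpa [not_or] using hu'B
    have hw'n : w' ∈ A ∧ w' ≠ v1 ∧ w' ≠ v2 ∧ w' ≠ v3 ∧ w' ≠ v4 := by
      simpa [not_or] using hw'B
    have xu : x u = u' := by
      rw [← x'o u (by simp [H1, H2]) (by simp [H1, H2]) (by simp [H1, H2]) (by simp [H1, H2]),
        eu']
    have xu' : x u' = u := by rw [← xu]; exact sq_apply x hx u
    have xw' : x w' = w := by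
      rw [← x'o w' hw'n.2.1 hw'n.2.2.1 hw'n.2.2.2.1 hw'n.2.2.2.2, hw]
    have xw : x w = w' := by rw [← xw']; exact sq_apply x hx w'
    have yu' : y u' = w' := by
      rw [← y'o u' (by simp [K1, K2]) hu'n.2.1 hu'n.2.2.1 hu'n.2.2.2.1 hu'n.2.2.2.2
        (by simp [K1, K2]), ew']
    have yw' : y w' = u' := by rw [← yu']; exact sq_apply y hy u'
    have hnd8 : [v1, v2, v3, v4, w, w', u', u].Nodup := by
      simp [H1, H2, K1, K2, hu'n.2.1.symm, hu'n.2.2.1.symm, hu'n.2.2.2.1.symm,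
        hu'n.2.2.2.2.symm, hw'n.2.1.symm, hw'n.2.2.1.symm, hw'n.2.2.2.1.symm,
        hw'n.2.2.2.2.symm, hu'n.2.1, hu'n.2.2.1, hu'n.2.2.2.1,
        hu'n.2.2.2.2, hw'n.2.1, hw'n.2.2.1, hw'n.2.2.2.1,
        hw'n.2.2.2.2]
    have hout : ∀ p, p ≠ v1 → p ≠ v2 → p ≠ v3 → p ≠ v4 → p ≠ w → p ≠ w' → p ≠ u' → p ≠ u →
        p ∉ A := by
      intro p h1 h2 h3 h4 h5 h6 h7 h8 hpA
      have : p ∈ A \ {v1, v2, v3, v4} := by simp [hpA, h1, h2, h3, h4]
      rw [k3] at this
      simp only [Finset.mem_insert, Finset.mem_singleton] at this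
      rcases this with h | h | h | h
      · exact h8 h
      · exact h7 h
      · exact h6 h
      · exact h5 h
    obtain ⟨z, hz1, hz2, hz3, hz4⟩ := explicit_E1 x y v1 v2 v3 v4 w w' u' u hnd8
      xv1 xv2 xv3 xv4 xw xw' xu' xu
      (fun p h1 h2 h3 h4 h5 h6 h7 h8 => hxA p (hout p h1 h2 h3 h4 h5 h6 h7 h8))
      yv2 yv3 yv4 yw yw' yu' yu yv1
      (fun p h1 h2 h3 h4 h5 h6 h7 h8 => hyA p (hout p h1 h2 h3 h4 h5 h6 h7 h8))
    refine ⟨z, hz1, ?_, hz3, hz4⟩
    intro p hp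
    apply hz2 p <;> rintro rfl
    · exact hp hv1A
    · exact hp hv2A
    · exact hp hv3A
    · exact hp hv4A
    · exact hp hwA
    · exact hp hw'n.1
    · exact hp hu'n.1
    · exact hp huA
  · obtain ⟨z', hz', hzB, h1, h2⟩ := ih _ hB _ _ hH' hE
    have zv1 : z' v1 = v1 := hzB v1 (by simp)
    have zv2 : z' v2 = v2 := hzB v2 (by simp)
    have zv3 : z' v3 = v3 := hzB v3 (by simp)
    have zv4 : z' v4 = v4 := hzB v4 (by simp)
    obtain ⟨m1, m2, m3', m4, -⟩ := add_spec z' hz' (a := v1) (b := v2) (by simp [H1]) zv1 zv2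
    have z1v3 : (z' * swap v1 v2) v3 = v3 := by
      rw [m4 v3 (by simp [H1, H2]) (by simp [H1, H2]), zv3]
    have z1v4 : (z' * swap v1 v2) v4 = v4 := by
      rw [m4 v4 (by simp [H1, H2]) (by simp [H1, H2]), zv4]
    obtain ⟨n1, n2, n3, n4, -⟩ := add_spec _ m1 (a := v3) (b := v4) (by simp [H1]) z1v3 z1v4
    refine ⟨z' * swap v1 v2 * swap v3 v4, n1, ?_, ?_, ?_⟩
    · intro p hp
      obtain ⟨h0, h1, h2, h3, h4, h5⟩ := hneA p hp
      rw [n4 p h3 h4, m4 p h1 h2]
      exact hzB p (fun h => hp (Finset.mem_sdiff.mp h).1)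
    · -- x * z = x' * z'
      have e1 : x * (z' * swap v1 v2 * swap v3 v4) = x * swap v3 v4 * swap v1 v2 * z' := by
        rw [cancel_left x (z' * swap v1 v2) v3 v4 z1v3 z1v4,
          cancel_left (x * swap v3 v4) z' v1 v2 zv1 zv2]
      have e2 : x * swap v3 v4 * swap v1 v2 = x' := by
        rw [hx', hx1, mul_assoc, mul_assoc]
        congr 1
        apply swap_comm_of_fix <;> simp [swap_apply_def, H1, H2]
      rw [e1, e2]; exact h1
    · -- z * y = z' * y' * c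
      have ey : y = y' * swap u w * swap v4 w * swap v2 v3 * swap u v1 := by
        rw [hy', hy3, hy2, hy1]
        rw [← undo_swap, ← undo_swap, ← undo_swap, ← undo_swap]
      have hc1 : swap v1 v2 * y' = y' * swap v1 v2 := swap_comm_of_fix y' y'v1 y'v2
      have hc2 : swap v3 v4 * y' = y' * swap v3 v4 := swap_comm_of_fix y' y'v3 y'v4
      have : z' * swap v1 v2 * swap v3 v4 * y = (z' * y') *
          (swap v1 v2 * swap v3 v4 * swap u w * swap v4 w * swap v2 v3 * swap u v1) := by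
        calc z' * swap v1 v2 * swap v3 v4 * y
            = z' * swap v1 v2 * (swap v3 v4 * y') *
                (swap u w * swap v4 w * swap v2 v3 * swap u v1) := by
              conv_lhs => rw [ey]
              group
          _ = z' * (swap v1 v2 * y') * swap v3 v4 *
                (swap u w * swap v4 w * swap v2 v3 * swap u v1) := by
              rw [hc2]; group
          _ = (z' * y') *
                (swap v1 v2 * swap v3 v4 * swap u w * swap v4 w * swap v2 v3 * swap u v1) := by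
              rw [hc1]; group
      rw [this]
      apply m3x2 _ _ u v2 v4 w v3 v1 (by simp [H1, H2]) _ _ _ _ _ _ _ _ _ _ _ h2
      · simp [Perm.mul_apply, y'v2, zv2]
      · simp [Perm.mul_apply, y'v4, zv4]
      · simp [Perm.mul_apply, y'v3, zv3]
      · simp [Perm.mul_apply, y'v1, zv1]
      · simp [Perm.mul_apply, swap_apply_def, H1, H2]
      · simp [Perm.mul_apply, swap_apply_def, H1, H2]
      · simp [Perm.mul_apply, swap_apply_def, H1, H2]
      · simp [Perm.mul_apply, swap_apply_def, H1, H2]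
      · simp [Perm.mul_apply, swap_apply_def, H1, H2]
      · simp [Perm.mul_apply, swap_apply_def, H1, H2]
      · intro p h1 h2 h3 h4 h5 h6
        simp [Perm.mul_apply, swap_apply_def, h1, h2, h3, h4, h5, h6]

lemma swap_mul_invol (τ : Perm α) (hτ : τ * τ = 1) (a b : α) :
    swap a b * τ = τ * swap (τ a) (τ b) := by
  rw [Equiv.swap_mul_eq_mul_swap, inv_of_sq τ hτ]

lemma step_R6 (A : Finset α) (ih : IH A) (x y : Perm α) (hH : Hyp A x y) (hnE : ¬ Exc A x y)
    (p0 : α) (h1 : x p0 ≠ p0) (h2 : y p0 ≠ p0) (h3 : x p0 ≠ y p0)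
    (h4 : y (x (y (x p0))) = p0) : Sol A x y := by
  obtain ⟨hx, hy, hxA, hyA, hcard⟩ := hH
  obtain ⟨p1, e1⟩ : ∃ p1, p1 = x p0 := ⟨_, rfl⟩
  rw [← e1] at h1 h3 h4
  obtain ⟨p2, e2⟩ : ∃ p2, p2 = y p1 := ⟨_, rfl⟩
  rw [← e2] at h4
  obtain ⟨p3, e3⟩ : ∃ p3, p3 = x p2 := ⟨_, rfl⟩
  rw [← e3] at h4
  have xp0 : x p0 = p1 := e1.symm
  have xp1 : x p1 = p0 := by rw [e1]; exact sq_apply x hx p0
  have xp2 : x p2 = p3 := e3.symm
  have xp3 : x p3 = p2 := by rw [e3]; exact sq_apply x hx p2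
  have yp1 : y p1 = p2 := e2.symm
  have yp2 : y p2 = p1 := by rw [e2]; exact sq_apply y hy p1
  have yp3 : y p3 = p0 := h4
  have yp0 : y p0 = p3 := by rw [← h4]; exact sq_apply y hy p3
  have n01 : p0 ≠ p1 := fun h => h1 h.symm
  have n03 : p0 ≠ p3 := fun h => h2 (by rw [yp0]; exact h.symm)
  have n13 : p1 ≠ p3 := fun h => h3 (by rw [yp0]; exact h)
  have n02 : p0 ≠ p2 := by
    intro h
    apply n13
    rw [← xp0, h, xp2]
  have n12 : p1 ≠ p2 := by
    intro h
    apply n03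
    rw [← xp1, h, xp2]
  have n23 : p2 ≠ p3 := by
    intro h
    apply n01
    rw [← yp3, ← h, yp2]
  have hnd : [p0, p1, p2, p3].Nodup := by simp [n01, n02, n03, n12, n13, n23]
  have H1 := hnd
  have H2 := List.nodup_reverse.mpr hnd
  simp only [List.reverse_cons, List.reverse_nil, List.nil_append, List.cons_append,
    List.nodup_cons, List.mem_cons, List.not_mem_nil, or_false, not_or, List.nodup_nil,
    and_true, not_false_eq_true] at H1 H2
  have hp0A : p0 ∈ A := mem_of_moved hxA (by rw [xp0]; exact n01.symm)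
  have hp1A : p1 ∈ A := mem_of_moved hxA (by rw [xp1]; exact n01)
  have hp2A : p2 ∈ A := mem_of_moved hxA (by rw [xp2]; exact n23.symm)
  have hp3A : p3 ∈ A := mem_of_moved hxA (by rw [xp3]; exact n23)
  -- x'
  obtain ⟨a1, a2, a3, a4, a5⟩ := del_spec x hx n01 xp0
  obtain ⟨x1, hx1⟩ : ∃ x1, x1 = x * swap p0 p1 := ⟨_, rfl⟩
  rw [← hx1] at a1 a2 a3 a4 a5
  have x1p2 : x1 p2 = p3 := by rw [a4 p2 n02.symm n12.symm, xp2]
  obtain ⟨b1, b2, b3, b4, b5⟩ := del_spec x1 a1 n23 x1p2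
  obtain ⟨x', hx'⟩ : ∃ x', x' = x1 * swap p2 p3 := ⟨_, rfl⟩
  rw [← hx'] at b1 b2 b3 b4 b5
  have x'p0 : x' p0 = p0 := by rw [b4 p0 n02 n03, a2]
  have x'p1 : x' p1 = p1 := by rw [b4 p1 n12 n13, a3]
  have x'o : ∀ p, p ≠ p0 → p ≠ p1 → p ≠ p2 → p ≠ p3 → x' p = x p := by
    intro p k0 k1 k2 k3; rw [b4 p k2 k3, a4 p k0 k1]
  -- y'
  obtain ⟨c1, c2, c3, c4, c5⟩ := del_spec y hy n12 yp1
  obtain ⟨y1, hy1⟩ : ∃ y1, y1 = y * swap p1 p2 := ⟨_, rfl⟩
  rw [← hy1] at c1 c2 c3 c4 c5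
  have y1p3 : y1 p3 = p0 := by rw [c4 p3 n13.symm n23.symm, yp3]
  obtain ⟨d1, d2, d3, d4, d5⟩ := del_spec y1 c1 n03.symm y1p3
  obtain ⟨y', hy'⟩ : ∃ y', y' = y1 * swap p3 p0 := ⟨_, rfl⟩
  rw [← hy'] at d1 d2 d3 d4 d5
  have y'p1 : y' p1 = p1 := by rw [d4 p1 n13 n01.symm, c2]
  have y'p2 : y' p2 = p2 := by rw [d4 p2 n23 n02.symm, c3]
  have y'o : ∀ p, p ≠ p0 → p ≠ p1 → p ≠ p2 → p ≠ p3 → y' p = y p := by
    intro p k0 k1 k2 k3; rw [d4 p k3 k0, c4 p k1 k2]
  have hB : A \ {p0, p1, p2, p3} ⊂ A := by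
    apply Finset.sdiff_ssubset
    · intro p hp; simp only [Finset.mem_insert, Finset.mem_singleton] at hp
      rcases hp with rfl | rfl | rfl | rfl <;> assumption
    · exact ⟨p0, by simp⟩
  have hnotB : ∀ p, p ∉ A \ {p0, p1, p2, p3} → p = p0 ∨ p = p1 ∨ p = p2 ∨ p = p3 ∨ p ∉ A := by
    intro p hp
    by_cases k0 : p = p0
    · exact Or.inl k0
    by_cases k1 : p = p1
    · exact Or.inr (Or.inl k1)
    by_cases k2 : p = p2
    · exact Or.inr (Or.inr (Or.inl k2))
    by_cases k3 : p = p3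
    · exact Or.inr (Or.inr (Or.inr (Or.inl k3)))
    refine Or.inr (Or.inr (Or.inr (Or.inr fun h => hp ?_)))
    simp [h, k0, k1, k2, k3]
  have hneA : ∀ p, p ∉ A → p ≠ p0 ∧ p ≠ p1 ∧ p ≠ p2 ∧ p ≠ p3 := by
    intro p hp
    refine ⟨?_, ?_, ?_, ?_⟩ <;> rintro rfl <;> exact hp (by assumption)
  have hneB : ∀ p, p ∈ A \ {p0, p1, p2, p3} → p ∈ A ∧ p ≠ p0 ∧ p ≠ p1 ∧ p ≠ p2 ∧ p ≠ p3 := by
    intro p hp
    simpa [not_or] using hp
  have hH' : Hyp (A \ {p0, p1, p2, p3}) x' y' := by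
    refine ⟨b1, d1, ?_, ?_, by omega⟩
    · intro p hp
      rcases hnotB p hp with rfl | rfl | rfl | rfl | h
      · exact x'p0
      · exact x'p1
      · exact b2
      · exact b3
      · obtain ⟨k0, k1, k2, k3⟩ := hneA p h
        rw [x'o p k0 k1 k2 k3]; exact hxA p h
    · intro p hp
      rcases hnotB p hp with rfl | rfl | rfl | rfl | h
      · exact d3
      · exact y'p1
      · exact y'p2
      · exact d2
      · obtain ⟨k0, k1, k2, k3⟩ := hneA p h
        rw [y'o p k0 k1 k2 k3]; exact hyA p h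
  have ex : x = x' * swap p2 p3 * swap p0 p1 := by
    rw [hx', hx1, ← undo_swap, ← undo_swap]
  have ey : y = y' * swap p3 p0 * swap p1 p2 := by
    rw [hy', hy1, ← undo_swap, ← undo_swap]
  by_cases hBe : A \ {p0, p1, p2, p3} = ∅
  · -- exceptional
    exfalso
    apply hnE
    have hAeq : A = {p0, p1, p2, p3} := by
      apply Finset.Subset.antisymm
      · exact Finset.sdiff_eq_empty_iff_subset.mp hBe
      · intro p hp; simp only [Finset.mem_insert, Finset.mem_singleton] at hp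
        rcases hp with rfl | rfl | rfl | rfl <;> assumption
    refine ⟨?_, ?_, ?_, ?_⟩
    · rw [hAeq]
      have := List.toFinset_card_of_nodup hnd
      simpa using this
    · intro p hp
      rw [hAeq] at hp
      simp only [Finset.mem_insert, Finset.mem_singleton] at hp
      rcases hp with rfl | rfl | rfl | rfl
      · rw [xp0]; exact n01.symm
      · rw [xp1]; exact n01
      · rw [xp2]; exact n23.symm
      · rw [xp3]; exact n23
    · intro p hp
      rw [hAeq] at hp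
      simp only [Finset.mem_insert, Finset.mem_singleton] at hp
      rcases hp with rfl | rfl | rfl | rfl
      · rw [yp0]; exact n03.symm
      · rw [yp1]; exact n12.symm
      · rw [yp2]; exact n12
      · rw [yp3]; exact n03
    · intro p hp
      rw [hAeq] at hp
      simp only [Finset.mem_insert, Finset.mem_singleton] at hp
      rcases hp with rfl | rfl | rfl | rfl
      · rw [xp0, yp0]; exact n13
      · rw [xp1, yp1]; exact n02
      · rw [xp2, yp2]; exact n13.symm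
      · rw [xp3, yp3]; exact n02.symm
  obtain ⟨q, hq⟩ := Finset.nonempty_iff_ne_empty.mpr hBe
  by_cases hE : Exc (A \ {p0, p1, p2, p3}) x' y'
  · -- two 4-cycles
    obtain ⟨k1, k2, k3⟩ := exc_c4 b1 d1 hH'.2.2.1 hH'.2.2.2.1 hE q hq
    obtain ⟨q5, e5⟩ : ∃ q5, q5 = x' q := ⟨_, rfl⟩
    rw [← e5] at k1 k2 k3
    obtain ⟨q6, e6⟩ : ∃ q6, q6 = y' q5 := ⟨_, rfl⟩
    rw [← e6] at k1 k2 k3
    obtain ⟨q7, e7⟩ : ∃ q7, q7 = x' q6 := ⟨_, rfl⟩
    rw [← e7] at k1 k2 k3
    have K1 := k1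
    have K2 := List.nodup_reverse.mpr k1
    simp only [List.reverse_cons, List.reverse_nil, List.nil_append, List.cons_append,
      List.nodup_cons, List.mem_cons, List.not_mem_nil, or_false, not_or, List.nodup_nil,
      and_true, not_false_eq_true] at K1 K2
    have hq5B : q5 ∈ A \ {p0, p1, p2, p3} := by rw [k3]; simp
    have hq6B : q6 ∈ A \ {p0, p1, p2, p3} := by rw [k3]; simp
    have hq7B : q7 ∈ A \ {p0, p1, p2, p3} := by rw [k3]; simp
    obtain ⟨m4, m40, m41, m42, m43⟩ := hneB q hq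
    obtain ⟨m5', m50, m51, m52, m53⟩ := hneB q5 hq5B
    obtain ⟨m6, m60, m61, m62, m63⟩ := hneB q6 hq6B
    obtain ⟨m7, m70, m71, m72, m73⟩ := hneB q7 hq7B
    have xq4 : x q = q5 := by rw [← x'o q m40 m41 m42 m43, e5]
    have xq5 : x q5 = q := by rw [← xq4]; exact sq_apply x hx q
    have xq6 : x q6 = q7 := by rw [← x'o q6 m60 m61 m62 m63, e7]
    have xq7 : x q7 = q6 := by rw [← xq6]; exact sq_apply x hx q6
    have yq5 : y q5 = q6 := by rw [← y'o q5 m50 m51 m52 m53, e6]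
    have yq6 : y q6 = q5 := by rw [← yq5]; exact sq_apply y hy q5
    have yq7 : y q7 = q := by rw [← y'o q7 m70 m71 m72 m73, k2]
    have yq4 : y q = q7 := by rw [← yq7]; exact sq_apply y hy q7
    have hnd8 : [p0, p1, p2, p3, q, q5, q6, q7].Nodup := by
      simp [H1, H2, K1, K2, m40, m41, m42, m43, m50, m51, m52, m53, m60, m61, m62, m63,
        m70, m71, m72, m73, m40.symm, m41.symm, m42.symm, m43.symm, m50.symm, m51.symm,
        m52.symm, m53.symm, m60.symm, m61.symm, m62.symm, m63.symm,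
        m70.symm, m71.symm, m72.symm, m73.symm]
    have hout : ∀ p, p ≠ p0 → p ≠ p1 → p ≠ p2 → p ≠ p3 → p ≠ q → p ≠ q5 → p ≠ q6 → p ≠ q7 →
        p ∉ A := by
      intro p g0 g1 g2 g3 g4 g5 g6 g7 hpA
      have : p ∈ A \ {p0, p1, p2, p3} := by simp [hpA, g0, g1, g2, g3]
      rw [k3] at this
      simp only [Finset.mem_insert, Finset.mem_singleton] at this
      rcases this with h | h | h | h
      · exact g4 h
      · exact g5 h
      · exact g6 h
      · exact g7 h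
    obtain ⟨z, hz1, hz2, hz3, hz4⟩ := explicit_E2 x y p0 p1 p2 p3 q q5 q6 q7 hnd8
      xp0 xp1 xp2 xp3 xq4 xq5 xq6 xq7
      (fun p g0 g1 g2 g3 g4 g5 g6 g7 => hxA p (hout p g0 g1 g2 g3 g4 g5 g6 g7))
      yp1 yp2 yp3 yp0 yq5 yq6 yq7 yq4
      (fun p g0 g1 g2 g3 g4 g5 g6 g7 => hyA p (hout p g0 g1 g2 g3 g4 g5 g6 g7))
    refine ⟨z, hz1, ?_, hz3, hz4⟩
    intro p hp
    apply hz2 p <;> rintro rfl
    · exact hp hp0A
    · exact hp hp1A
    · exact hp hp2A
    · exact hp hp3A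
    · exact hp m4
    · exact hp m5'
    · exact hp m6
    · exact hp m7
  obtain ⟨z', hz', hzB, g1, g2⟩ := ih _ hB _ _ hH' hE
  have zp0 : z' p0 = p0 := hzB p0 (by simp)
  have zp1 : z' p1 = p1 := hzB p1 (by simp)
  have zp2 : z' p2 = p2 := hzB p2 (by simp)
  have zp3 : z' p3 = p3 := hzB p3 (by simp)
  have cz01 : swap p0 p1 * z' = z' * swap p0 p1 := swap_comm_of_fix z' zp0 zp1
  have cz23 : swap p2 p3 * z' = z' * swap p2 p3 := swap_comm_of_fix z' zp2 zp3
  have imgB : ∀ (τ : Perm α), τ * τ = 1 → (∀ p, p ∉ A \ {p0, p1, p2, p3} → τ p = p) →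
      ∀ e, e ∈ A \ {p0, p1, p2, p3} → τ e ∈ A \ {p0, p1, p2, p3} := by
    intro τ hτ hfix e he
    by_contra hcon
    have h5 := hfix _ hcon
    rw [sq_apply τ hτ] at h5
    rw [← h5] at hcon
    exact hcon he
  by_cases hfixed : ∃ e ∈ A \ {p0, p1, p2, p3}, z' e = e
  · -- (i)
    obtain ⟨e, heB, hze⟩ := hfixed
    obtain ⟨heA, ne0, ne1, ne2, ne3⟩ := hneB e heB
    obtain ⟨f, hf⟩ : ∃ f, f = y' e := ⟨_, rfl⟩
    have hfB : f ∈ A \ {p0, p1, p2, p3} := by rw [hf]; exact imgB y' d1 hH'.2.2.2.1 e heB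
    obtain ⟨hfA, nf0, nf1, nf2, nf3⟩ := hneB f hfB
    obtain ⟨s1, s2, s3, s4, -⟩ := add_spec z' hz' n02 zp0 zp2
    have t1 : (z' * swap p0 p2) p1 = p1 := by rw [s4 p1 n01.symm n12, zp1]
    have t2 : (z' * swap p0 p2) e = e := by rw [s4 e ne0 ne2, hze]
    obtain ⟨u1, u2, u3, u4, -⟩ := add_spec _ s1 ne1.symm t1 t2
    refine ⟨z' * swap p0 p2 * swap p1 e, u1, ?_, ?_, ?_⟩
    · intro p hp
      obtain ⟨k0, k1, k2, k3⟩ := hneA p hp
      have kpe : p ≠ e := fun h => hp (h ▸ heA)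
      rw [u4 p k1 kpe, s4 p k0 k2]
      exact hzB p (fun h => hp (Finset.mem_sdiff.mp h).1)
    · have : x * (z' * swap p0 p2 * swap p1 e) =
          (x' * z') * (swap p2 p3 * swap p0 p1 * swap p0 p2 * swap p1 e) := by
        calc x * (z' * swap p0 p2 * swap p1 e)
            = x' * swap p2 p3 * (swap p0 p1 * z') * swap p0 p2 * swap p1 e := by
              rw [ex]; group
          _ = x' * (swap p2 p3 * z') * swap p0 p1 * swap p0 p2 * swap p1 e := by
              rw [cz01]; group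
          _ = (x' * z') * (swap p2 p3 * swap p0 p1 * swap p0 p2 * swap p1 e) := by
              rw [cz23]; group
      rw [this]
      apply m5 _ _ e p2 p1 p0 p3
        (by simp [H1, H2, ne0, ne1, ne2, ne3]) _ _ _ _ _ _ _ _ _ _ g1
      · simp [Perm.mul_apply, zp2, b2]
      · simp [Perm.mul_apply, zp1, x'p1]
      · simp [Perm.mul_apply, zp0, x'p0]
      · simp [Perm.mul_apply, zp3, b3]
      · simp [Perm.mul_apply, swap_apply_def, H1, H2, ne0, ne1, ne2, ne3, ne0.symm, ne1.symm,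
          ne2.symm, ne3.symm]
      · simp [Perm.mul_apply, swap_apply_def, H1, H2, ne0, ne1, ne2, ne3, ne0.symm, ne1.symm,
          ne2.symm, ne3.symm]
      · simp [Perm.mul_apply, swap_apply_def, H1, H2, ne0, ne1, ne2, ne3, ne0.symm, ne1.symm,
          ne2.symm, ne3.symm]
      · simp [Perm.mul_apply, swap_apply_def, H1, H2, ne0, ne1, ne2, ne3, ne0.symm, ne1.symm,
          ne2.symm, ne3.symm]
      · simp [Perm.mul_apply, swap_apply_def, H1, H2, ne0, ne1, ne2, ne3, ne0.symm, ne1.symm,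
          ne2.symm, ne3.symm]
      · intro p k0 k1 k2 k3 k4
        simp [Perm.mul_apply, swap_apply_def, k0, k1, k2, k3, k4]
    · have cy02 : swap p0 p2 * y' = y' * swap p0 p2 := swap_comm_of_fix y' d3 y'p2
      have cy1e : swap p1 e * y' = y' * swap p1 f := by
        rw [swap_mul_invol y' d1, y'p1, ← hf]
      have : z' * swap p0 p2 * swap p1 e * y =
          (z' * y') * (swap p0 p2 * swap p1 f * swap p3 p0 * swap p1 p2) := by
        calc z' * swap p0 p2 * swap p1 e * y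
            = z' * swap p0 p2 * (swap p1 e * y') * swap p3 p0 * swap p1 p2 := by
              rw [ey]; group
          _ = z' * (swap p0 p2 * y') * swap p1 f * swap p3 p0 * swap p1 p2 := by
              rw [cy1e]; group
          _ = (z' * y') * (swap p0 p2 * swap p1 f * swap p3 p0 * swap p1 p2) := by
              rw [cy02]; group
      rw [this]
      apply m5 _ _ f p3 p2 p1 p0
        (by simp [H1, H2, nf0, nf1, nf2, nf3]) _ _ _ _ _ _ _ _ _ _ g2
      · simp [Perm.mul_apply, zp3, d2]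
      · simp [Perm.mul_apply, zp2, y'p2]
      · simp [Perm.mul_apply, zp1, y'p1]
      · simp [Perm.mul_apply, zp0, d3]
      · simp [Perm.mul_apply, swap_apply_def, H1, H2, nf0, nf1, nf2, nf3, nf0.symm, nf1.symm,
          nf2.symm, nf3.symm]
      · simp [Perm.mul_apply, swap_apply_def, H1, H2, nf0, nf1, nf2, nf3, nf0.symm, nf1.symm,
          nf2.symm, nf3.symm]
      · simp [Perm.mul_apply, swap_apply_def, H1, H2, nf0, nf1, nf2, nf3, nf0.symm, nf1.symm,
          nf2.symm, nf3.symm]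
      · simp [Perm.mul_apply, swap_apply_def, H1, H2, nf0, nf1, nf2, nf3, nf0.symm, nf1.symm,
          nf2.symm, nf3.symm]
      · simp [Perm.mul_apply, swap_apply_def, H1, H2, nf0, nf1, nf2, nf3, nf0.symm, nf1.symm,
          nf2.symm, nf3.symm]
      · intro p k0 k1 k2 k3 k4
        simp [Perm.mul_apply, swap_apply_def, k0, k1, k2, k3, k4]
  · -- (ii)
    have hze : z' q ≠ q := fun h => hfixed ⟨q, hq, h⟩
    obtain ⟨e', he'⟩ : ∃ e', e' = z' q := ⟨_, rfl⟩
    rw [← he'] at hze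
    have he'B : e' ∈ A \ {p0, p1, p2, p3} := by rw [he']; exact imgB z' hz' hzB q hq
    obtain ⟨heA, ne0, ne1, ne2, ne3⟩ := hneB q hq
    obtain ⟨he'A, ne'0, ne'1, ne'2, ne'3⟩ := hneB e' he'B
    have nee' : q ≠ e' := fun h => hze h.symm
    obtain ⟨f, hf⟩ : ∃ f, f = y' q := ⟨_, rfl⟩
    obtain ⟨f', hf'⟩ : ∃ f', f' = y' e' := ⟨_, rfl⟩
    have hfB : f ∈ A \ {p0, p1, p2, p3} := by rw [hf]; exact imgB y' d1 hH'.2.2.2.1 q hq
    have hf'B : f' ∈ A \ {p0, p1, p2, p3} := by rw [hf']; exact imgB y' d1 hH'.2.2.2.1 e' he'B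
    obtain ⟨hfA, nf0, nf1, nf2, nf3⟩ := hneB f hfB
    obtain ⟨hf'A, nf'0, nf'1, nf'2, nf'3⟩ := hneB f' hf'B
    have nff' : f ≠ f' := by
      intro h; rw [hf, hf'] at h; exact nee' (y'.injective h)
    -- build z
    obtain ⟨r1, r2, r3, r4, -⟩ := del_spec z' hz' nee' he'.symm
    have r5 : (z' * swap q e') p0 = p0 := by rw [r4 p0 ne0.symm ne'0.symm, zp0]
    have r6 : (z' * swap q e') p2 = p2 := by rw [r4 p2 ne2.symm ne'2.symm, zp2]
    obtain ⟨s1, s2, s3, s4, -⟩ := add_spec _ r1 n02 r5 r6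
    have t1 : (z' * swap q e' * swap p0 p2) p1 = p1 := by
      rw [s4 p1 n01.symm n12, r4 p1 ne1.symm ne'1.symm, zp1]
    have t2 : (z' * swap q e' * swap p0 p2) q = q := by rw [s4 q ne0 ne2, r2]
    obtain ⟨u1, u2, u3, u4, -⟩ := add_spec _ s1 ne1.symm t1 t2
    have w1 : (z' * swap q e' * swap p0 p2 * swap p1 q) p3 = p3 := by
      rw [u4 p3 n13.symm ne3.symm, s4 p3 n03.symm n23.symm, r4 p3 ne3.symm ne'3.symm, zp3]
    have w2 : (z' * swap q e' * swap p0 p2 * swap p1 q) e' = e' := by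
      rw [u4 e' ne'1 nee'.symm, s4 e' ne'0 ne'2, r3]
    obtain ⟨o1, o2, o3, o4, -⟩ := add_spec _ u1 ne'3.symm w1 w2
    refine ⟨z' * swap q e' * swap p0 p2 * swap p1 q * swap p3 e', o1, ?_, ?_, ?_⟩
    · intro p hp
      obtain ⟨k0, k1, k2, k3⟩ := hneA p hp
      have kpe : p ≠ q := fun h => hp (h ▸ heA)
      have kpe' : p ≠ e' := fun h => hp (h ▸ he'A)
      rw [o4 p k3 kpe', u4 p k1 kpe, s4 p k0 k2, r4 p kpe kpe']
      exact hzB p (fun h => hp (Finset.mem_sdiff.mp h).1)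
    · have : x * (z' * swap q e' * swap p0 p2 * swap p1 q * swap p3 e') =
          (x' * z') * (swap p2 p3 * swap p0 p1 * swap q e' * swap p0 p2 * swap p1 q *
            swap p3 e') := by
        calc x * (z' * swap q e' * swap p0 p2 * swap p1 q * swap p3 e')
            = x' * swap p2 p3 * (swap p0 p1 * z') * swap q e' * swap p0 p2 * swap p1 q *
                swap p3 e' := by
              rw [ex]; group
          _ = x' * (swap p2 p3 * z') * swap p0 p1 * swap q e' * swap p0 p2 * swap p1 q *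
                swap p3 e' := by
              rw [cz01]; group
          _ = (x' * z') * (swap p2 p3 * swap p0 p1 * swap q e' * swap p0 p2 * swap p1 q *
                swap p3 e') := by
              rw [cz23]; group
      rw [this]
      apply m3x2 _ _ q p0 p3 e' p2 p1
        (by simp [H1, H2, ne0, ne1, ne2, ne3, ne'0, ne'1, ne'2, ne'3, nee', nee'.symm,
          ne'0.symm, ne'1.symm, ne'2.symm, ne'3.symm, ne0.symm, ne1.symm, ne2.symm, ne3.symm])
        _ _ _ _ _ _ _ _ _ _ _ g1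
      · simp [Perm.mul_apply, zp0, x'p0]
      · simp [Perm.mul_apply, zp3, b3]
      · simp [Perm.mul_apply, zp2, b2]
      · simp [Perm.mul_apply, zp1, x'p1]
      all_goals first
        | (intro p k0 k1 k2 k3 k4 k5
           simp [Perm.mul_apply, swap_apply_def, k0, k1, k2, k3, k4, k5])
        | simp [Perm.mul_apply, swap_apply_def, H1, H2, ne0, ne1, ne2, ne3, ne'0, ne'1, ne'2,
            ne'3, nee', nee'.symm, ne'0.symm, ne'1.symm, ne'2.symm, ne'3.symm, ne0.symm,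
            ne1.symm, ne2.symm, ne3.symm]
    · have cy02 : swap p0 p2 * y' = y' * swap p0 p2 := swap_comm_of_fix y' d3 y'p2
      have cy1e : swap p1 q * y' = y' * swap p1 f := by
        rw [swap_mul_invol y' d1, y'p1, ← hf]
      have cy3e : swap p3 e' * y' = y' * swap p3 f' := by
        rw [swap_mul_invol y' d1, d2, ← hf']
      have cyee : swap q e' * y' = y' * swap f f' := by
        rw [swap_mul_invol y' d1, ← hf, ← hf']
      have : z' * swap q e' * swap p0 p2 * swap p1 q * swap p3 e' * y =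
          (z' * y') * (swap f f' * swap p0 p2 * swap p1 f * swap p3 f' * swap p3 p0 *
            swap p1 p2) := by
        calc z' * swap q e' * swap p0 p2 * swap p1 q * swap p3 e' * y
            = z' * swap q e' * swap p0 p2 * swap p1 q * (swap p3 e' * y') * swap p3 p0 *
                swap p1 p2 := by
              rw [ey]; group
          _ = z' * swap q e' * swap p0 p2 * (swap p1 q * y') * swap p3 f' * swap p3 p0 *
                swap p1 p2 := by
              rw [cy3e]; group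
          _ = z' * swap q e' * (swap p0 p2 * y') * swap p1 f * swap p3 f' * swap p3 p0 *
                swap p1 p2 := by
              rw [cy1e]; group
          _ = z' * (swap q e' * y') * swap p0 p2 * swap p1 f * swap p3 f' * swap p3 p0 *
                swap p1 p2 := by
              rw [cy02]; group
          _ = (z' * y') * (swap f f' * swap p0 p2 * swap p1 f * swap p3 f' * swap p3 p0 *
                swap p1 p2) := by
              rw [cyee]; group
      rw [this]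
      apply m3x2 _ _ f p1 p0 f' p3 p2
        (by simp [H1, H2, nf0, nf1, nf2, nf3, nf'0, nf'1, nf'2, nf'3, nff', nff'.symm,
          nf'0.symm, nf'1.symm, nf'2.symm, nf'3.symm, nf0.symm, nf1.symm, nf2.symm, nf3.symm])
        _ _ _ _ _ _ _ _ _ _ _ g2
      · simp [Perm.mul_apply, zp1, y'p1]
      · simp [Perm.mul_apply, zp0, d3]
      · simp [Perm.mul_apply, zp3, d2]
      · simp [Perm.mul_apply, zp2, y'p2]
      all_goals first
        | (intro p k0 k1 k2 k3 k4 k5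
           simp [Perm.mul_apply, swap_apply_def, k0, k1, k2, k3, k4, k5])
        | simp [Perm.mul_apply, swap_apply_def, H1, H2, nf0, nf1, nf2, nf3, nf'0, nf'1, nf'2,
            nf'3, nff', nff'.symm, nf'0.symm, nf'1.symm, nf'2.symm, nf'3.symm, nf0.symm,
            nf1.symm, nf2.symm, nf3.symm]

theorem main_sol (A : Finset α) : ∀ x y : Perm α, Hyp A x y → ¬ Exc A x y → Sol A x y := by
  induction A using Finset.strongInduction with
  | H A ih =>
    intro x y hH hnE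
    have ihA : IH A := fun B hB x y h1 h2 => ih B hB x y h1 h2
    by_cases hc4 : ∃ p, x p ≠ p ∧ y p ≠ p ∧ x p ≠ y p ∧ y (x (y (x p))) = p
    · obtain ⟨p, h1, h2, h3, h4⟩ := hc4
      exact step_R6 A ihA x y hH hnE p h1 h2 h3 h4
    have noExc : ∀ (B : Finset α) (x' y' : Perm α), (∀ p ∈ B, x' p = x p) →
        (∀ p ∈ B, y' p = y p) → Hyp B x' y' → ¬ Exc B x' y' := by
      intro B x' y' hxx hyy hH' hE
      have hne : B.Nonempty := by rw [← Finset.card_pos, hE.1]; norm_num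
      obtain ⟨p, hp⟩ := hne
      obtain ⟨k1, k2, k3⟩ := exc_c4 hH'.1 hH'.2.1 hH'.2.2.1 hH'.2.2.2.1 hE p hp
      have m1 : x' p ∈ B := by rw [k3]; simp
      have m2 : y' (x' p) ∈ B := by rw [k3]; simp
      have m3 : x' (y' (x' p)) ∈ B := by rw [k3]; simp
      apply hc4
      refine ⟨p, ?_, ?_, ?_, ?_⟩
      · rw [← hxx p hp]; exact hE.2.1 p hp
      · rw [← hyy p hp]; exact hE.2.2.1 p hp
      · rw [← hxx p hp, ← hyy p hp]; exact hE.2.2.2 p hp
      · rw [← hxx p hp, ← hyy _ m1, ← hxx _ m2, ← hyy _ m3]; exact k2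
    obtain ⟨hx, hy, hxA, hyA, hcard⟩ := hH
    have hH : Hyp A x y := ⟨hx, hy, hxA, hyA, hcard⟩
    by_cases h1 : ∃ a ∈ A, x a = a ∧ y a = a
    · obtain ⟨a, haA, hxa, hya⟩ := h1
      exact step_R1 A ihA x y hH a haA hxa hya
        (noExc _ x y (fun _ _ => rfl) (fun _ _ => rfl))
    by_cases h2 : ∃ a, x a ≠ a ∧ y a = x a
    · obtain ⟨a, hxa, hya⟩ := h2
      apply step_R2 A ihA x y hH a hxa hya
      apply noExc
      · intro p hp
        have : p ≠ a ∧ p ≠ x a := by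
          simp only [Finset.mem_sdiff, Finset.mem_insert, Finset.mem_singleton, not_or] at hp
          exact hp.2
        simp [Perm.mul_apply, swap_apply_of_ne_of_ne this.1 this.2]
      · intro p hp
        have : p ≠ a ∧ p ≠ x a := by
          simp only [Finset.mem_sdiff, Finset.mem_insert, Finset.mem_singleton, not_or] at hp
          exact hp.2
        simp [Perm.mul_apply, swap_apply_of_ne_of_ne this.1 this.2]
    by_cases h3 : ∃ a, y a = a ∧ x a ≠ a ∧ y (x a) ≠ x a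
    · obtain ⟨a, h31, h32, h33⟩ := h3
      exact step_R3 A ihA x y hH a h31 h32 h33
    by_cases h3' : ∃ a, x a = a ∧ y a ≠ a ∧ x (y a) ≠ y a
    · obtain ⟨a, h31, h32, h33⟩ := h3'
      exact (step_R3 A ihA y x hH.symm a h31 h32 h33).symm
    push Not at h1 h2 h3 h3' hc4
    by_cases h4 : ∃ a ∈ A, y a = a
    · obtain ⟨a, haA, hya⟩ := h4
      have hxa : x a ≠ a := fun h => h1 a haA h hya
      have hyb : y (x a) = x a := h3 a hya hxa
      by_cases h4' : ∃ c ∈ A, x c = c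
      · obtain ⟨c, hcA, hxc⟩ := h4'
        have hyc : y c ≠ c := fun h => h1 c hcA hxc h
        have hxd : x (y c) = y c := h3' c hxc hyc
        apply step_R4 A ihA x y hH a c hya hxa hyb hxc hyc hxd
        apply noExc
        · intro p hp
          have : p ≠ a ∧ p ≠ x a := by
            simp only [Finset.mem_sdiff, Finset.mem_insert, Finset.mem_singleton, not_or] at hp
            exact ⟨hp.2.1, hp.2.2.1⟩
          simp [Perm.mul_apply, swap_apply_of_ne_of_ne this.1 this.2]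
        · intro p hp
          have : p ≠ c ∧ p ≠ y c := by
            simp only [Finset.mem_sdiff, Finset.mem_insert, Finset.mem_singleton, not_or] at hp
            exact ⟨hp.2.2.2.1, hp.2.2.2.2⟩
          simp [Perm.mul_apply, swap_apply_of_ne_of_ne this.1 this.2]
      · exfalso
        push Not at h4'
        have hsx : A ⊆ x.support := fun p hp => Perm.mem_support.mpr (h4' p hp)
        have hsy : y.support ⊆ A.erase a := by
          intro p hp
          rw [Perm.mem_support] at hp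
          refine Finset.mem_erase.mpr ⟨fun h => hp (h ▸ hya), mem_of_moved hyA hp⟩
        have c1 := Finset.card_le_card hsx
        have c2 := Finset.card_le_card hsy
        rw [Finset.card_erase_of_mem haA] at c2
        have c3 : 0 < A.card := Finset.card_pos.mpr ⟨a, haA⟩
        omega
    push Not at h4
    by_cases h4' : ∃ c ∈ A, x c = c
    · exfalso
      obtain ⟨c, hcA, hxc⟩ := h4'
      have hsy : A ⊆ y.support := fun p hp => Perm.mem_support.mpr (h4 p hp)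
      have hsx : x.support ⊆ A.erase c := by
        intro p hp
        rw [Perm.mem_support] at hp
        refine Finset.mem_erase.mpr ⟨fun h => hp (h ▸ hxc), mem_of_moved hxA hp⟩
      have c1 := Finset.card_le_card hsy
      have c2 := Finset.card_le_card hsx
      rw [Finset.card_erase_of_mem hcA] at c2
      have c3 : 0 < A.card := Finset.card_pos.mpr ⟨c, hcA⟩
      omega
    push Not at h4'
    by_cases hAe : A = ∅
    · refine ⟨1, one_mul 1, fun _ _ => rfl, ?_, ?_⟩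
      · have : x = 1 := by ext p; exact hxA p (by simp [hAe])
        rw [this, one_mul]; exact oddOrd_one
      · have : y = 1 := by ext p; exact hyA p (by simp [hAe])
        rw [this, one_mul]; exact oddOrd_one
    obtain ⟨v1, hv1⟩ := Finset.nonempty_iff_ne_empty.mpr hAe
    -- all points of A are moved by both, no common edges, no 4-cycles
    have fx : ∀ p ∈ A, x p ≠ p := h4'
    have fy : ∀ p ∈ A, y p ≠ p := h4
    have mx : ∀ p ∈ A, x p ∈ A := fun p hp => img_mem hx hxA (fx p hp)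
    have my : ∀ p ∈ A, y p ∈ A := fun p hp => img_mem hy hyA (fy p hp)
    have nce : ∀ p ∈ A, y p ≠ x p := fun p hp => h2 p (fx p hp)
    apply step_R5 A ihA x y hH v1
    have hu := my v1 hv1
    have hv2 := mx v1 hv1
    have hv3 := my _ hv2
    have hv4 := mx _ hv3
    have hw := my _ hv4
    obtain ⟨u, eu⟩ : ∃ u, u = y v1 := ⟨_, rfl⟩
    obtain ⟨v2, e2⟩ : ∃ v2, v2 = x v1 := ⟨_, rfl⟩
    rw [← eu] at hu ⊢
    rw [← e2] at hv2 hv3 hv4 hw ⊢
    obtain ⟨v3, e3⟩ : ∃ v3, v3 = y v2 := ⟨_, rfl⟩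
    rw [← e3] at hv3 hv4 hw ⊢
    obtain ⟨v4, e4⟩ : ∃ v4, v4 = x v3 := ⟨_, rfl⟩
    rw [← e4] at hv4 hw ⊢
    obtain ⟨w, ew⟩ : ∃ w, w = y v4 := ⟨_, rfl⟩
    rw [← ew] at hw ⊢
    have xv2 : x v2 = v1 := by rw [e2]; exact sq_apply x hx v1
    have xv4 : x v4 = v3 := by rw [e4]; exact sq_apply x hx v3
    have yu : y u = v1 := by rw [eu]; exact sq_apply y hy v1
    have yv3 : y v3 = v2 := by rw [e3]; exact sq_apply y hy v2
    have yw : y w = v4 := by rw [ew]; exact sq_apply y hy v4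
    have n1 : u ≠ v1 := by rw [eu]; exact fy v1 hv1
    have n2 : u ≠ v2 := by rw [eu, e2]; exact nce v1 hv1
    have n6 : v1 ≠ v2 := by rw [e2]; exact (fx v1 hv1).symm
    have n3 : u ≠ v3 := by
      intro h; apply n6; rw [eu, e3] at h; exact y.injective h
    have n10 : v2 ≠ v3 := by rw [e3]; exact (fy v2 hv2).symm
    have n13 : v3 ≠ v4 := by rw [e4]; exact (fx v3 hv3).symm
    have n15 : v4 ≠ w := by rw [ew]; exact (fy v4 hv4).symm
    have n7 : v1 ≠ v3 := by
      intro h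
      apply nce v1 hv1
      rw [← eu, ← e2, ← yv3, ← h, eu]
    have n8 : v1 ≠ v4 := by
      intro h
      apply n10
      rw [e2, h, xv4]
    have n4 : u ≠ v4 := by
      intro h
      apply hc4 v1 (by rw [← e2]; exact n6.symm) (by rw [← eu]; exact n1) (by
        rw [← e2, ← eu]; exact n2.symm)
      rw [← e2, ← e3, ← e4, ← h, yu]
    have n5 : u ≠ w := by
      intro h; apply n8; rw [eu, ew] at h; exact y.injective h
    have n9 : v1 ≠ w := by
      intro h
      apply n4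
      rw [eu, h, yw]
    have n11 : v2 ≠ v4 := by
      intro h
      apply n7
      rw [← xv2, h, xv4]
    have n12 : v2 ≠ w := by
      intro h
      apply n13
      rw [e3, h, yw]
    have n14 : v3 ≠ w := by
      intro h
      apply n11
      rw [← yv3, h, yw]
    simp [n1, n2, n3, n4, n5, n6, n7, n8, n9, n10, n11, n12, n13, n14, n15]

end Cfsg.Agent.Lib.Helper59.IG
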