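import Mathlib
import Cfsg.Agent.Lib.Helper59.MiDsDefs

set_option autoImplicit false

namespace Cfsg.Agent.Lib.Helper81.Mi

open Matrix

theorem dsdual_hom_card_le {W : Type*} [AddCommGroup W] [Finite W] (p : ℕ) [NeZero p] :
    Nat.card (W →+ ZMod p) ≤ Nat.card W := by
  classical
  haveI : Fintype W := Fintype.ofFinite W
  have hinj : Function.Injective
      (fun f : W →+ ZMod p => (ZMod.stdAddChar (N := p)).compAddMonoidHom f) :=
    AddChar.compAddMonoidHom_injective_right _ ZMod.injective_stdAddChar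
  calc Nat.card (W →+ ZMod p) ≤ Nat.card (AddChar W ℂ) := Nat.card_le_card_of_injective _ hinj
    _ = Nat.card W := by
      rw [Nat.card_eq_fintype_card, Nat.card_eq_fintype_card, AddChar.card_eq]

section abstract

variable {F V : Type*} [Field F] [Finite F] [AddCommGroup V] [Module F V] [Finite V]
  {p : ℕ} [Fact p.Prime] [CharP F p]

theorem ds_dual (lam : F →+ ZMod p) (hlam : ∀ a : F, a ≠ 0 → ∃ b : F, lam (a * b) ≠ 0)
    (A : AddSubgroup V) :
    Nat.card {x : Module.Dual F V // A ≤ dsM lam x} ≤ A.index := by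
  haveI : NeZero p := ⟨(Fact.out : p.Prime).ne_zero⟩
  have hker : ∀ x : {x : Module.Dual F V // A ≤ dsM lam x},
      A ≤ (lam.comp (x.1 : V →ₗ[F] F).toAddMonoidHom).ker := by
    intro x φ hφ
    have := x.2 hφ
    rw [mem_dsM] at this
    simpa [AddMonoidHom.mem_ker] using this
  let Φ : {x : Module.Dual F V // A ≤ dsM lam x} → ((V ⧸ A) →+ ZMod p) := fun x =>
    QuotientAddGroup.lift A (lam.comp (x.1 : V →ₗ[F] F).toAddMonoidHom) (hker x)
  have hΦ : Function.Injective Φ := by
    intro x y hxy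
    apply Subtype.ext
    by_contra hne
    have hsub : x.1 - y.1 ≠ 0 := sub_ne_zero.mpr hne
    obtain ⟨φ0, hφ0⟩ : ∃ φ0, (x.1 - y.1) φ0 ≠ 0 := by
      by_contra h
      push Not at h
      exact hsub (LinearMap.ext h)
    obtain ⟨b, hb⟩ := hlam _ hφ0
    have h1 : Φ x (QuotientAddGroup.mk (b • φ0)) = Φ y (QuotientAddGroup.mk (b • φ0)) := by rw [hxy]
    simp only [Φ, QuotientAddGroup.lift_mk, AddMonoidHom.comp_apply, LinearMap.toAddMonoidHom_coe,
      map_smul, smul_eq_mul] at h1
    apply hb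
    have : lam ((x.1 - y.1) φ0 * b) = lam (b * x.1 φ0) - lam (b * y.1 φ0) := by
      rw [← map_sub]
      congr 1
      rw [LinearMap.sub_apply]
      ring
    rw [this, h1, sub_self]
  haveI : Finite (V ⧸ A) := inferInstance
  haveI : Finite (ZMod p) := inferInstance
  haveI : Finite ((V ⧸ A) →+ ZMod p) := DFunLike.finite _
  calc Nat.card {x : Module.Dual F V // A ≤ dsM lam x}
      ≤ Nat.card ((V ⧸ A) →+ ZMod p) := Nat.card_le_card_of_injective Φ hΦ
    _ ≤ Nat.card (V ⧸ A) := dsdual_hom_card_le p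
    _ = A.index := rfl

end abstract

end Cfsg.Agent.Lib.Helper81.Mi
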