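import Mathlib
import Cfsg.Agent.Lib.Helper59.MiDsDefs
import Cfsg.Agent.Lib.Helper24.MiDsIDX
import Cfsg.Agent.Lib.Helper24.MiDsCARD
import Cfsg.Agent.Lib.Helper34.MiDsREP
import Cfsg.Agent.Lib.Helper88.MiDsCONJ
import Cfsg.Agent.Lib.Helper53.MiDsRIDX
import Cfsg.Agent.Lib.Helper53.MiDsMULT
import Cfsg.Agent.Lib.Helper48.MiDsPAIRcore
import Cfsg.Agent.Lib.Helper48.MiDsCNT
import Cfsg.Agent.Lib.Helper59.MiDsDUAL
import Cfsg.Agent.Lib.Helper88.MiDsLINE

/-!
# MI-DS (owner helper59) of the Mi hive (S2140, owner helper81): `caseS_of_num`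

Assembly of the leaves of `tools/helper59/MiDsSkel.lean.txt`:
CNT `ds_count`, IDX `ds_index_M`, DUAL `ds_dual`, PAIR `dspair_core`, LINE `ds_line` (abstract part, `ds_core`),
CARD `ds_card_Phi`, REP `ds_rep`, CONJ `ds_conj`, RIDX `ds_index_A`, MULT `ds_mult` (bridge, `caseS_of_num`).
-/

set_option autoImplicit false

namespace Cfsg.Agent.Lib.Helper81.Mi

open Matrix

section abstract

variable {F V : Type*} [Field F] [Finite F] [AddCommGroup V] [Module F V] [Finite V]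
  {p : ℕ} [Fact p.Prime] [CharP F p]

/-- MI-DS-PAIR wrapper (own copy, so that the assembly does not wait for the exact-name wrapper). -/
theorem dstop_pair {Ω : Type*} [Finite Ω] (lam : F →+ ZMod p)
    (hlam : ∀ a : F, a ≠ 0 → ∃ b : F, lam (a * b) ≠ 0) (A : Ω → AddSubgroup V) (f : ℕ)
    (hidx : ∀ ω, (A ω).index = Nat.card F)
    (hcov : ∀ φ : V, φ ≠ 0 → Nat.card {ω : Ω // φ ∈ A ω} = f)
    (h1 : Nat.card Ω = f + Nat.card V) (h2 : Nat.card Ω = Nat.card F * f + Nat.card F) :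
    ∀ ω, Nat.card {x : Module.Dual F V // A ω ≤ dsM lam x} = Nat.card F :=
  dspair_core lam A
    (fun x hx => ds_count A _ p f Fact.out Nat.card_pos hidx hcov h1 h2 _ (ds_index_M lam hlam x hx))
    (fun ω => (ds_dual lam hlam (A ω)).trans (hidx ω).le) f h1 h2

/-- MI-DS-CORE (assembly of the abstract part; owner helper59). -/
theorem ds_core {Ω : Type*} [Finite Ω] (lam : F →+ ZMod p)
    (hlam : ∀ a : F, a ≠ 0 → ∃ b : F, lam (a * b) ≠ 0) (A : Ω → AddSubgroup V) (f : ℕ)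
    (hidx : ∀ ω, (A ω).index = Nat.card F)
    (hcov : ∀ φ : V, φ ≠ 0 → Nat.card {ω : Ω // φ ∈ A ω} = f)
    (hmult : ∀ ω, Nat.card F ≤ Nat.card {ω' : Ω // A ω' = A ω})
    (h1 : Nat.card Ω = f + Nat.card V) (h2 : Nat.card Ω = Nat.card F * f + Nat.card F)
    (htr : ∀ (x : Module.Dual F V) (ψ : V), x ψ = 0 → ∀ ω, ∃ ω', A ω' = (A ω).map (dsTau x ψ)) :
    ∀ ω, ∃ x : Module.Dual F V, x ≠ 0 ∧ ∀ φ : V, φ ∈ A ω ↔ x φ = 0 := by
  intro ω
  have hq2 : 2 ≤ Nat.card F := Finite.one_lt_card (α := F)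
  have hX := dstop_pair lam hlam A f hidx hcov h1 h2 ω
  refine ds_line lam hlam (A ω) (hidx ω) hX ?_
  intro x ψ hxψ hle
  by_cases hx : x = 0
  · subst hx
    have hid : dsTau (0 : Module.Dual F V) ψ = AddMonoidHom.id V := by
      ext φ
      simp [dsTau_apply]
    rw [hid]
    exact AddSubgroup.map_id _
  · obtain ⟨ω', hω'⟩ := htr x ψ hxψ ω
    have hpidx := ds_index_M lam hlam x hx
    have hcnt := ds_count A (Nat.card F) p f (Fact.out) (by omega) hidx hcov h1 h2 (dsM lam x) hpidx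
    have hle' : A ω' ≤ dsM lam x := by
      rw [hω']
      rintro _ ⟨φ, hφ, rfl⟩
      have h := hle hφ
      rw [mem_dsM] at h ⊢
      rw [dsTau_apply, map_sub, map_smul, hxψ, smul_zero, sub_zero]
      exact h
    have hsub : {ω'' : Ω | A ω'' = A ω} ⊆ {ω'' : Ω | A ω'' ≤ dsM lam x} := by
      intro ω'' h
      simp only [Set.mem_setOf_eq] at h ⊢
      rw [h]
      exact hle
    have hcard : ({ω'' : Ω | A ω'' ≤ dsM lam x}).ncard ≤ ({ω'' : Ω | A ω'' = A ω}).ncard := by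
      rw [← Nat.card_coe_set_eq, ← Nat.card_coe_set_eq]
      calc Nat.card ↥{ω'' : Ω | A ω'' ≤ dsM lam x} = Nat.card F := hcnt
        _ ≤ Nat.card ↥{ω'' : Ω | A ω'' = A ω} := hmult ω
    have heq := Set.eq_of_subset_of_ncard_le hsub hcard (Set.toFinite _)
    have hmem : ω' ∈ {ω'' : Ω | A ω'' = A ω} := by
      rw [heq]
      exact hle'
    have hAeq : A ω' = A ω := hmem
    rw [← hω', hAeq]

end abstract

section bridge

variable {F : Type*} [Field F] {n : ℕ}

/-- `N_n (q - 1) = q^n - 1`. -/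
theorem dstop_Npts_mul (q n : ℕ) : Npts q n * (q - 1) = q ^ n - 1 := by
  unfold Npts
  apply Nat.div_mul_cancel
  exact Nat.sub_one_dvd_pow_sub_one q n

theorem dstop_e0_ne (hn : 1 ≤ n) : e0 F n ≠ 0 := by
  intro h
  have := congrFun h ⟨0, by omega⟩
  simp [e0] at this

theorem dstop_mem_cj_iff (H : Subgroup (SLn n F)) (g t : SLn n F) :
    t ∈ cj g H ↔ t • (g : SLn n F ⧸ H) = (g : SLn n F ⧸ H) := by
  rw [mem_cj, MulAction.Quotient.smul_mk, QuotientGroup.eq, smul_eq_mul]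
  rw [← inv_mem_iff (x := (t * g)⁻¹ * g)]
  simp [mul_assoc]

/-- MI-DS (top; owner helper59): exact statement of `tools/helper81/MiSkel.lean.txt`. -/
theorem caseS_of_num [Finite F] (hn : 3 ≤ n) (H : Subgroup (SLn n F))
    (hidx : H.index = Nat.card F * Npts (Nat.card F) (n - 1))
    (hrel : ∀ g : SLn n F, (cj g H).relIndex (Qv (e0 F n)) = Nat.card F)
    (hfix : ∀ t ∈ Qv (e0 F n), t ≠ 1 →
      Nat.card {x : SLn n F ⧸ H // t • x = x} = Npts (Nat.card F) (n - 1) - 1) :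
    CaseS H (e0 F n) := by
  classical
  haveI : Fintype F := Fintype.ofFinite F
  haveI : Fact (ringChar F).Prime := ⟨CharP.char_is_prime F _⟩
  letI : Algebra (ZMod (ringChar F)) F := ZMod.algebra F (ringChar F)
  set lam : F →+ ZMod (ringChar F) := (Algebra.trace (ZMod (ringChar F)) F).toAddMonoidHom with hlamdef
  have hlam : ∀ a : F, a ≠ 0 → ∃ b : F, lam (a * b) ≠ 0 := fun a ha =>
    FiniteField.trace_to_zmod_nondegenerate F ha
  have hn1 : 1 ≤ n := by omega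
  have hq2 : 2 ≤ Nat.card F := Finite.one_lt_card (α := F)
  have he0 : e0 F n ≠ 0 := dstop_e0_ne hn1
  -- numerics
  set q := Nat.card F with hq
  set N1 := Npts q (n - 1) with hN1
  have hmulN : N1 * (q - 1) = q ^ (n - 1) - 1 := dstop_Npts_mul q (n - 1)
  have hqpow : q ≤ q ^ (n - 1) := by
    calc q = q ^ 1 := (pow_one q).symm
      _ ≤ q ^ (n - 1) := Nat.pow_le_pow_right (by omega) (by omega)
  have hN1pos : 1 ≤ N1 := by
    by_contra h
    have h0 : N1 = 0 := by omega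
    rw [h0, zero_mul] at hmulN
    omega
  have hcardΩ : Nat.card (SLn n F ⧸ H) = q * N1 := hidx
  have hcardV : Nat.card (dsPhi F n) = q ^ (n - 1) := ds_card_Phi hn1
  have h1 : Nat.card (SLn n F ⧸ H) = (N1 - 1) + Nat.card (dsPhi F n) := by
    rw [hcardΩ, hcardV]
    have hq1 : q = (q - 1) + 1 := by omega
    have : q * N1 = N1 * (q - 1) + N1 := by
      conv_lhs => rw [hq1]
      ring
    rw [this, hmulN]
    omega
  have h2 : Nat.card (SLn n F ⧸ H) = q * (N1 - 1) + q := by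
    rw [hcardΩ]
    have : N1 = (N1 - 1) + 1 := by omega
    conv_lhs => rw [this]
    ring
  -- hypotheses of the abstract core
  have hidxA : ∀ ω : SLn n F ⧸ H, (dsA H ω).index = q := by
    intro ω
    induction ω using QuotientGroup.induction_on with
    | H g => rw [ds_index_A hn1 H g, hrel g]
  have hcovA : ∀ φ : dsPhi F n, φ ≠ 0 →
      Nat.card {ω : SLn n F ⧸ H // φ ∈ dsA H ω} = N1 - 1 := by
    intro φ hφ
    have hmem : tv (e0 F n) (φ : Fin n → F) ∈ Qv (e0 F n) :=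
      Subgroup.subset_closure ⟨φ, φ.2, rfl⟩
    have hne : tv (e0 F n) (φ : Fin n → F) ≠ 1 := by
      rw [Ne, tv_eq_one_iff _ _ φ.2, not_or]
      exact ⟨he0, fun h => hφ (Subtype.ext h)⟩
    exact hfix _ hmem hne
  have hmultA : ∀ ω : SLn n F ⧸ H,
      Nat.card F ≤ Nat.card {ω' : SLn n F ⧸ H // dsA H ω' = dsA H ω} := by
    intro ω
    have := ds_mult H ω
    rwa [hidxA ω] at this
  have htrA : ∀ (x : Module.Dual F (dsPhi F n)) (ψ : dsPhi F n), x ψ = 0 →
      ∀ ω : SLn n F ⧸ H, ∃ ω', dsA H ω' = (dsA H ω).map (dsTau x ψ) := by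
    intro x ψ hxψ ω
    obtain ⟨x', hx'⟩ := ds_rep x
    have hψx' : (ψ : Fin n → F) ⬝ᵥ x' = 0 := by rw [← hx' ψ, hxψ]
    set l : SLn n F := tv x' (ψ : Fin n → F) with hl
    have hconj : ∀ φ : dsPhi F n,
        l * tv (e0 F n) (φ : Fin n → F) * l⁻¹ = tv (e0 F n) ((dsTau x ψ φ : dsPhi F n) : Fin n → F) := by
      intro φ
      rw [ds_conj x' ψ φ ψ.2 hψx' φ.2, dsTau_apply, Submodule.coe_sub, Submodule.coe_smul, hx' φ]
    refine ⟨l • ω, ?_⟩
    ext φ'
    rw [AddSubgroup.mem_map]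
    constructor
    · intro h
      rw [mem_dsA] at h
      refine ⟨φ' + x φ' • ψ, ?_, ?_⟩
      · rw [mem_dsA]
        have hτ : dsTau x ψ (φ' + x φ' • ψ) = φ' := by
          rw [dsTau_apply, map_add, map_smul, hxψ, smul_zero, add_zero]
          abel
        have hc := hconj (φ' + x φ' • ψ)
        rw [hτ] at hc
        have hc' : tv (e0 F n) ((φ' + x φ' • ψ : dsPhi F n) : Fin n → F) =
            l⁻¹ * tv (e0 F n) (φ' : Fin n → F) * l := by
          rw [← hc]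
          group
        rw [hc', mul_smul, mul_smul, h, inv_smul_smul]
      · rw [dsTau_apply, map_add, map_smul, hxψ, smul_zero, add_zero]
        abel
    · rintro ⟨φ, hφ, rfl⟩
      rw [mem_dsA] at hφ ⊢
      rw [← hconj φ, mul_smul, mul_smul, inv_smul_smul, hφ]
  have hcore := ds_core lam hlam (fun ω : SLn n F ⧸ H => dsA H ω) (N1 - 1) hidxA hcovA hmultA h1 h2 htrA
  intro g
  obtain ⟨x, hx0, hx⟩ := hcore (g : SLn n F ⧸ H)
  obtain ⟨x', hx'⟩ := ds_rep x
  refine ⟨x', ?_, ?_⟩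
  · intro c hc
    apply hx0
    ext φ
    rw [hx' φ, hc, dotProduct_smul, φ.2, smul_zero, LinearMap.zero_apply]
  · intro φ hφ
    have h := hx ⟨φ, hφ⟩
    rw [mem_dsA, hx'] at h
    rw [dstop_mem_cj_iff]
    exact h

end bridge

end Cfsg.Agent.Lib.Helper81.Mi
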