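import Mathlib

set_option autoImplicit false
set_option linter.unusedVariables false
set_option linter.unusedSectionVars false
set_option linter.unusedDecidableInType false

/-!
Babai's minimal-degree bound for primitive groups (helper59, for S5713).

`G` acts primitively on the finite set `Ω`; `g` moves `m` points.  If no two conjugates of `g`
have supports meeting in exactly one point, then `card Ω ≤ (2 m + 1)^2`.
-/

namespace Cfsg.Agent.Lib.Helper59.MD

open MulAction
open scoped Classical

section Basic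

variable (G : Type*) {Ω : Type*} [Group G] [MulAction G Ω] [Fintype Ω]

/-- the orbital relation on ordered pairs -/
def Orb (p q : Ω × Ω) : Prop := ∃ h : G, h • p.1 = q.1 ∧ h • p.2 = q.2

variable {G}

lemma orb_refl (p : Ω × Ω) : Orb G p p := ⟨1, by simp, by simp⟩

lemma orb_symm {p q : Ω × Ω} (h : Orb G p q) : Orb G q p := by
  obtain ⟨k, h1, h2⟩ := h
  exact ⟨k⁻¹, by rw [← h1, inv_smul_smul], by rw [← h2, inv_smul_smul]⟩

lemma orb_trans {p q r : Ω × Ω} (h : Orb G p q) (h' : Orb G q r) : Orb G p r := by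
  obtain ⟨k, h1, h2⟩ := h
  obtain ⟨k', h1', h2'⟩ := h'
  exact ⟨k' * k, by rw [mul_smul, h1, h1'], by rw [mul_smul, h2, h2']⟩

lemma orb_smul (k : G) (u v : Ω) : Orb G (u, v) (k • u, k • v) := ⟨k, rfl, rfl⟩

lemma orb_swap {u v u' v' : Ω} (h : Orb G (u, v) (u', v')) : Orb G (v, u) (v', u') := by
  obtain ⟨k, h1, h2⟩ := h
  exact ⟨k, h2, h1⟩

lemma orb_smul_iff (k : G) (p : Ω × Ω) (u v : Ω) :
    Orb G p (k • u, k • v) ↔ Orb G p (u, v) :=
  ⟨fun h => orb_trans h (orb_symm (orb_smul k u v)), fun h => orb_trans h (orb_smul k u v)⟩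

lemma orb_smul_smul_iff (k : G) (u v u' v' : Ω) :
    Orb G (k • u, k • v) (k • u', k • v') ↔ Orb G (u, v) (u', v') :=
  ⟨fun h => orb_trans (orb_smul k u v) (orb_trans h (orb_symm (orb_smul k u' v'))),
   fun h => orb_trans (orb_symm (orb_smul k u v)) (orb_trans h (orb_smul k u' v'))⟩

/-- transport of filter cardinalities along the action of a group element -/
lemma card_filter_smul (k : G) (P Q : Ω → Prop) [DecidablePred P] [DecidablePred Q]
    (hPQ : ∀ w, P w ↔ Q (k • w)) :
    (Finset.univ.filter P).card = (Finset.univ.filter Q).card := by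
  apply Finset.card_bij (fun w _ => k • w)
  · intro w hw
    simp only [Finset.mem_filter, Finset.mem_univ, true_and] at hw ⊢
    exact (hPQ w).1 hw
  · intro a _ b _ hab
    exact MulAction.injective k hab
  · intro w hw
    simp only [Finset.mem_filter, Finset.mem_univ, true_and] at hw
    refine ⟨k⁻¹ • w, ?_, smul_inv_smul k w⟩
    simp only [Finset.mem_filter, Finset.mem_univ, true_and]
    rw [hPQ, smul_inv_smul]
    exact hw

/-- an invariant function on a transitive `G`-set is constant -/
lemma const_of_invariant [IsPretransitive G Ω] (f : Ω → ℕ) (hf : ∀ (k : G) u, f (k • u) = f u)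
    (u v : Ω) : f u = f v := by
  obtain ⟨k, rfl⟩ := MulAction.exists_smul_eq G u v
  exact (hf k u).symm

lemma sum_of_invariant [IsPretransitive G Ω] (f : Ω → ℕ) (hf : ∀ (k : G) u, f (k • u) = f u)
    (a : Ω) : ∑ u, f u = Fintype.card Ω * f a := by
  rw [Finset.sum_congr rfl (fun u _ => const_of_invariant f hf u a)]
  simp

/-- reindexing a sum over `Ω` by a group element -/
lemma sum_smul (k : G) (f : Ω → ℕ) : ∑ u, f (k • u) = ∑ u, f u :=
  Equiv.sum_comp (MulAction.toPerm k) f

/-- the distinguishing set of two points -/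
noncomputable def Dset (G : Type*) [Group G] [MulAction G Ω] (x y : Ω) : Finset Ω :=
  Finset.univ.filter (fun w => ¬ Orb G (x, w) (y, w))

lemma mem_Dset {x y w : Ω} : w ∈ Dset G x y ↔ ¬ Orb G (x, w) (y, w) := by
  simp [Dset]

lemma Dset_comm (x y : Ω) : Dset G x y = Dset G y x := by
  ext w
  rw [mem_Dset, mem_Dset]
  exact not_congr ⟨orb_symm, orb_symm⟩

lemma Dset_triangle (x y z : Ω) : Dset G x z ⊆ Dset G x y ∪ Dset G y z := by
  intro w hw
  rw [Finset.mem_union, mem_Dset, mem_Dset]
  rw [mem_Dset] at hw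
  by_contra hcon
  push Not at hcon
  exact hw (orb_trans hcon.1 hcon.2)

lemma card_Dset_smul (k : G) (x y : Ω) : (Dset G (k • x) (k • y)).card = (Dset G x y).card := by
  symm
  unfold Dset
  apply card_filter_smul k
  intro w
  rw [orb_smul_smul_iff]

lemma card_Dset_of_orb {x y x' y' : Ω} (h : Orb G (x, y) (x', y')) :
    (Dset G x' y').card = (Dset G x y).card := by
  obtain ⟨k, h1, h2⟩ := h
  simp only at h1 h2
  rw [← h1, ← h2, card_Dset_smul]

lemma self_mem_Dset {x y : Ω} (hxy : x ≠ y) : x ∈ Dset G x y := by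
  rw [mem_Dset]
  rintro ⟨k, h1, h2⟩
  simp only at h1 h2
  exact hxy (h2.symm.trans h1)

lemma Dset_subset_supp {g : G} {x y : Ω} (hg : g • x = y) {w : Ω} (hw : w ∈ Dset G x y) :
    g • w ≠ w := by
  rw [mem_Dset] at hw
  intro hcon
  exact hw ⟨g, hg, hcon⟩

end Basic


section Valency

variable {G : Type*} {Ω : Type*} [Group G] [MulAction G Ω] [Fintype Ω]

/-- out-neighbours of `u` in the orbital graph of `(x, y)` -/
noncomputable def Out (G : Type*) [Group G] [MulAction G Ω] (x y u : Ω) : Finset Ω :=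
  Finset.univ.filter (fun v => Orb G (x, y) (u, v))

/-- in-neighbours -/
noncomputable def In (G : Type*) [Group G] [MulAction G Ω] (x y u : Ω) : Finset Ω :=
  Finset.univ.filter (fun v => Orb G (x, y) (v, u))

/-- neighbours in the symmetrised orbital graph -/
noncomputable def Nb (G : Type*) [Group G] [MulAction G Ω] (x y u : Ω) : Finset Ω :=
  Finset.univ.filter (fun v => Orb G (x, y) (u, v) ∨ Orb G (x, y) (v, u))

lemma mem_Out {x y u v : Ω} : v ∈ Out G x y u ↔ Orb G (x, y) (u, v) := by simp [Out]
lemma mem_In {x y u v : Ω} : v ∈ In G x y u ↔ Orb G (x, y) (v, u) := by simp [In]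
lemma mem_Nb {x y u v : Ω} : v ∈ Nb G x y u ↔ (Orb G (x, y) (u, v) ∨ Orb G (x, y) (v, u)) := by
  simp [Nb]

lemma card_Out_smul (k : G) (x y u : Ω) : (Out G x y (k • u)).card = (Out G x y u).card := by
  symm
  unfold Out
  apply card_filter_smul k
  intro w
  rw [orb_smul_iff]

lemma card_In_smul (k : G) (x y u : Ω) : (In G x y (k • u)).card = (In G x y u).card := by
  symm
  unfold In
  apply card_filter_smul k
  intro w
  rw [orb_smul_iff]

lemma card_Nb_smul (k : G) (x y u : Ω) : (Nb G x y (k • u)).card = (Nb G x y u).card := by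
  symm
  unfold Nb
  apply card_filter_smul k
  intro w
  rw [orb_smul_iff, orb_smul_iff]

lemma card_Out_const [IsPretransitive G Ω] (x y u u' : Ω) :
    (Out G x y u).card = (Out G x y u').card :=
  const_of_invariant (fun u => (Out G x y u).card) (fun k u => card_Out_smul k x y u) u u'

lemma card_In_const [IsPretransitive G Ω] (x y u u' : Ω) :
    (In G x y u).card = (In G x y u').card :=
  const_of_invariant (fun u => (In G x y u).card) (fun k u => card_In_smul k x y u) u u'

lemma card_Nb_const [IsPretransitive G Ω] (x y u u' : Ω) :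
    (Nb G x y u).card = (Nb G x y u').card :=
  const_of_invariant (fun u => (Nb G x y u).card) (fun k u => card_Nb_smul k x y u) u u'

lemma card_In_eq_card_Out [IsPretransitive G Ω] (x y u u' : Ω) :
    (In G x y u).card = (Out G x y u').card := by
  have h1 : ∑ a, (Out G x y a).card = ∑ b, (In G x y b).card := by
    unfold Out In
    simp only [Finset.card_filter]
    rw [Finset.sum_comm]
  rw [sum_of_invariant (fun a => (Out G x y a).card) (fun k a => card_Out_smul k x y a) u',
    sum_of_invariant (fun a => (In G x y a).card) (fun k a => card_In_smul k x y a) u] at h1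
  have hpos : 0 < Fintype.card Ω := Fintype.card_pos_iff.2 ⟨u⟩
  exact (Nat.eq_of_mul_eq_mul_left hpos h1).symm

lemma card_Nb_le (x y u : Ω) : (Nb G x y u).card ≤ (Out G x y u).card + (In G x y u).card := by
  have : Nb G x y u = Out G x y u ∪ In G x y u := by
    ext v
    simp [mem_Nb, mem_Out, mem_In]
  rw [this]
  exact Finset.card_union_le _ _

lemma card_Nb_le_two_mul [IsPretransitive G Ω] (x y u : Ω) :
    (Nb G x y u).card ≤ 2 * (Out G x y u).card := by
  have := card_Nb_le (G := G) x y u
  rw [card_In_eq_card_Out x y u u] at this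
  omega

end Valency


section IneqI

variable {G : Type*} {Ω : Type*} [Group G] [MulAction G Ω] [Fintype Ω]

/-- in a primitive group, from every point `u ≠ x` there is an edge of the orbital graph of
`(x, y)` leaving the `G_x`-orbit of `u`. -/
lemma exists_edge_leaving [IsPreprimitive G Ω] {x y : Ω} (hxy : x ≠ y) {u : Ω} (hu : u ≠ x) :
    ∃ v, Orb G (x, y) (u, v) ∧ x ∈ Dset G u v := by
  let O : Set Ω := {u' | ∃ k : G, k • x = x ∧ k • u = u'}
  have hOne : O.Nonempty := ⟨u, 1, one_smul _ _, one_smul _ _⟩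
  have hOuniv : O ≠ Set.univ := by
    intro hcon
    have hx : x ∈ O := by rw [hcon]; exact Set.mem_univ x
    obtain ⟨k, hk1, hk2⟩ := hx
    exact hu (MulAction.injective k (hk2.trans hk1.symm))
  obtain ⟨k₀, hk1, hk2⟩ :=
    IsPreprimitive.exists_mem_smul_and_notMem_smul (G := G) (Set.toFinite O) hOne hOuniv hxy
  rw [Set.mem_smul_set_iff_inv_smul_mem] at hk1 hk2
  obtain ⟨k₁, hk1x, hk1u⟩ := hk1
  refine ⟨k₁⁻¹ • k₀⁻¹ • y, ?_, ?_⟩
  · refine ⟨k₁⁻¹ * k₀⁻¹, ?_, ?_⟩
    · simp only
      rw [mul_smul, ← hk1u, inv_smul_smul]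
    · simp only
      rw [mul_smul]
  · rw [mem_Dset]
    rintro ⟨k₂, h1, h2⟩
    simp only at h1 h2
    apply hk2
    refine ⟨k₁ * k₂, ?_, ?_⟩
    · rw [mul_smul, h2, hk1x]
    · rw [mul_smul, h1, smul_inv_smul]

theorem ineqI [IsPreprimitive G Ω] {x y : Ω} (hxy : x ≠ y) :
    Fintype.card Ω + (Nb G x y x).card ≤ (Nb G x y x).card * (Dset G x y).card + 1 := by
  have : IsPretransitive G Ω := IsPreprimitive.toIsPretransitive
  set Adj : Ω → Ω → Prop := fun u v => Orb G (x, y) (u, v) ∨ Orb G (x, y) (v, u) with hAdj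
  set f : Ω → Ω → Ω → ℕ := fun u v w => if (Adj u v ∧ w ∈ Dset G u v) then 1 else 0 with hf
  have hAdj_smul : ∀ (k : G) (u v : Ω), Adj (k • u) (k • v) ↔ Adj u v := by
    intro k u v
    simp only [hAdj]
    rw [orb_smul_iff, orb_smul_iff]
  have hD_smul : ∀ (k : G) (u v w : Ω), k • w ∈ Dset G (k • u) (k • v) ↔ w ∈ Dset G u v := by
    intro k u v w
    rw [mem_Dset, mem_Dset, orb_smul_smul_iff]
  have hf_smul : ∀ (k : G) (u v w : Ω), f (k • u) (k • v) (k • w) = f u v w := by
    intro k u v w
    simp only [hf]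
    exact if_congr (and_congr (hAdj_smul k u v) (hD_smul k u v w)) rfl rfl
  set F : Ω → ℕ := fun w => ∑ u, ∑ v, f u v w with hF
  set T : Ω → ℕ := fun u => ∑ v, ∑ w, f u v w with hT
  have hF_inv : ∀ (k : G) (w : Ω), F (k • w) = F w := by
    intro k w
    simp only [hF]
    rw [← sum_smul k (fun u => ∑ v, f u v (k • w))]
    apply Finset.sum_congr rfl
    intro u _
    rw [← sum_smul k (fun v => f (k • u) v (k • w))]
    apply Finset.sum_congr rfl
    intro v _
    exact hf_smul k u v w
  have hT_inv : ∀ (k : G) (u : Ω), T (k • u) = T u := by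
    intro k u
    simp only [hT]
    rw [← sum_smul k (fun v => ∑ w, f (k • u) v w)]
    apply Finset.sum_congr rfl
    intro v _
    rw [← sum_smul k (fun w => f (k • u) (k • v) w)]
    apply Finset.sum_congr rfl
    intro w _
    exact hf_smul k u v w
  have htot : ∑ w, F w = ∑ u, T u := by
    simp only [hF, hT]
    rw [Finset.sum_comm]
    apply Finset.sum_congr rfl
    intro u _
    rw [Finset.sum_comm]
  rw [sum_of_invariant F hF_inv x, sum_of_invariant T hT_inv x] at htot
  have hpos : 0 < Fintype.card Ω := Fintype.card_pos_iff.2 ⟨x⟩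
  have hFT : F x = T x := Nat.eq_of_mul_eq_mul_left hpos htot
  -- compute `T x`
  have hTx : T x = (Nb G x y x).card * (Dset G x y).card := by
    simp only [hT]
    have hinner : ∀ v, ∑ w, f x v w = if Adj x v then (Dset G x y).card else 0 := by
      intro v
      by_cases hv : Adj x v
      · rw [if_pos hv]
        have hcard : (Dset G x v).card = (Dset G x y).card := by
          rcases hv with hv | hv
          · exact card_Dset_of_orb hv
          · rw [Dset_comm]
            exact card_Dset_of_orb hv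
        rw [← hcard]
        simp only [hf, hv, true_and]
        rw [Finset.sum_boole]
        simp
      · rw [if_neg hv]
        simp only [hf, hv, false_and, if_false]
        simp
    rw [Finset.sum_congr rfl (fun v _ => hinner v)]
    rw [← Finset.sum_filter]
    simp only [Finset.sum_const, smul_eq_mul]
    rfl
  -- lower bound for `F x`
  have hFx : (Nb G x y x).card + (Fintype.card Ω - 1) ≤ F x := by
    simp only [hF]
    rw [← Finset.add_sum_erase Finset.univ _ (Finset.mem_univ x)]
    apply Nat.add_le_add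
    · -- the term `u = x`
      apply le_of_eq
      have : ∀ v, f x v x = if Adj x v then 1 else 0 := by
        intro v
        simp only [hf]
        by_cases hv : Adj x v
        · have hvx : x ≠ v := by
            intro hcon
            rcases hv with ⟨k, h1, h2⟩ | ⟨k, h1, h2⟩
            · simp only at h1 h2
              rw [← hcon] at h2
              exact hxy (MulAction.injective k (h1.trans h2.symm))
            · simp only at h1 h2
              rw [← hcon] at h1
              exact hxy (MulAction.injective k (h1.trans h2.symm))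
          simp [hv, self_mem_Dset hvx]
        · simp [hv]
      rw [Finset.sum_congr rfl (fun v _ => this v), Finset.sum_boole]
      simp [Nb, hAdj]
    · -- the other terms
      have hcard : Fintype.card Ω - 1 = ∑ u ∈ Finset.univ.erase x, 1 := by
        simp [Finset.card_erase_of_mem]
      rw [hcard]
      apply Finset.sum_le_sum
      intro u hu
      have hux : u ≠ x := Finset.ne_of_mem_erase hu
      obtain ⟨v, hv1, hv2⟩ := exists_edge_leaving (G := G) hxy hux
      have : f u v x = 1 := by
        simp only [hf]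
        rw [if_pos ⟨Or.inl hv1, hv2⟩]
      calc 1 = f u v x := this.symm
        _ ≤ ∑ v, f u v x := Finset.single_le_sum (f := fun v => f u v x)
            (fun _ _ => Nat.zero_le _) (Finset.mem_univ v)
  rw [hFT, hTx] at hFx
  omega

end IneqI


section Inter

variable {G : Type*} {Ω : Type*} [Group G] [MulAction G Ω] [Fintype Ω]

lemma sdiff_Out_subset_Dset (x y u v : Ω) : Out G x y u \ Out G x y v ⊆ Dset G u v := by
  intro w hw
  rw [Finset.mem_sdiff, mem_Out, mem_Out] at hw
  rw [mem_Dset]
  intro hcon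
  exact hw.2 (orb_trans hw.1 hcon)

lemma two_mul_card_Out_le (x y u v : Ω) (hcard : (Out G x y u).card = (Out G x y v).card) :
    2 * (Out G x y u).card ≤ 2 * (Out G x y u ∩ Out G x y v).card + (Dset G u v).card := by
  have h1 : ((Out G x y u \ Out G x y v) ∪ (Out G x y v \ Out G x y u)).card
      ≤ (Dset G u v).card := by
    apply Finset.card_le_card
    apply Finset.union_subset (sdiff_Out_subset_Dset x y u v)
    rw [Dset_comm]
    exact sdiff_Out_subset_Dset x y v u
  have h2 : ((Out G x y u \ Out G x y v) ∪ (Out G x y v \ Out G x y u)).card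
      = (Out G x y u \ Out G x y v).card + (Out G x y v \ Out G x y u).card := by
    apply Finset.card_union_of_disjoint
    rw [Finset.disjoint_left]
    intro w hw1 hw2
    rw [Finset.mem_sdiff] at hw1 hw2
    exact hw1.2 hw2.1
  have h3 := Finset.card_sdiff_add_card_inter (Out G x y u) (Out G x y v)
  have h4 := Finset.card_sdiff_add_card_inter (Out G x y v) (Out G x y u)
  rw [Finset.inter_comm] at h4
  omega

lemma card_inter_Out_smul (k : G) (x y u v : Ω) :
    (Out G x y (k • u) ∩ Out G x y (k • v)).card = (Out G x y u ∩ Out G x y v).card := by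
  have e1 : Out G x y (k • u) ∩ Out G x y (k • v)
      = Finset.univ.filter (fun w => Orb G (x, y) (k • u, w) ∧ Orb G (x, y) (k • v, w)) := by
    ext w
    simp [mem_Out]
  have e2 : Out G x y u ∩ Out G x y v
      = Finset.univ.filter (fun w => Orb G (x, y) (u, w) ∧ Orb G (x, y) (v, w)) := by
    ext w
    simp [mem_Out]
  rw [e1, e2]
  symm
  apply card_filter_smul k
  intro w
  rw [orb_smul_iff, orb_smul_iff]

lemma card_inter_Out_of_orb {x y u v u' v' : Ω} (h : Orb G (u, v) (u', v')) :
    (Out G x y u' ∩ Out G x y v').card = (Out G x y u ∩ Out G x y v).card := by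
  obtain ⟨k, h1, h2⟩ := h
  simp only at h1 h2
  rw [← h1, ← h2, card_inter_Out_smul]

lemma sum_card_inter_Out [IsPretransitive G Ω] (x y a : Ω) :
    ∑ v, (Out G x y a ∩ Out G x y v).card = (Out G x y a).card * (Out G x y a).card := by
  have h1 : ∀ v, (Out G x y a ∩ Out G x y v).card
      = ∑ w, if (w ∈ Out G x y a ∧ v ∈ In G x y w) then 1 else 0 := by
    intro v
    rw [Finset.sum_boole]
    simp only [Nat.cast_id]
    congr 1
    ext w
    simp [mem_Out, mem_In]
  rw [Finset.sum_congr rfl (fun v _ => h1 v), Finset.sum_comm]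
  have h2 : ∀ w, (∑ v, if (w ∈ Out G x y a ∧ v ∈ In G x y w) then 1 else 0)
      = if w ∈ Out G x y a then (Out G x y a).card else 0 := by
    intro w
    by_cases hw : w ∈ Out G x y a
    · rw [if_pos hw]
      simp only [hw, true_and]
      rw [Finset.sum_boole]
      simp only [Nat.cast_id]
      rw [← card_In_eq_card_Out x y w a]
      congr 1
      ext v
      simp
    · rw [if_neg hw]
      simp [hw]
  rw [Finset.sum_congr rfl (fun w _ => h2 w), ← Finset.sum_filter]
  simp

end Inter


section Cases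

variable {G : Type*} {Ω : Type*} [Group G] [MulAction G Ω] [Fintype Ω]

lemma not_mem_Out_self {x y : Ω} (hxy : x ≠ y) (u : Ω) : u ∉ Out G x y u := by
  rw [mem_Out]
  rintro ⟨k, h1, h2⟩
  simp only at h1 h2
  exact hxy (MulAction.injective k (h1.trans h2.symm))

lemma not_mem_In_self {x y : Ω} (hxy : x ≠ y) (u : Ω) : u ∉ In G x y u := by
  rw [mem_In]
  rintro ⟨k, h1, h2⟩
  simp only at h1 h2
  exact hxy (MulAction.injective k (h1.trans h2.symm))

/-- Case A: the orbital of `(x, y)` is not self-paired. -/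
theorem caseA [IsPreprimitive G Ω] {x y : Ω} (hxy : x ≠ y) (hns : ¬ Orb G (x, y) (y, x)) :
    Fintype.card Ω ≤ (2 * (Dset G x y).card + 1) ^ 2 := by
  have htr : IsPretransitive G Ω := IsPreprimitive.toIsPretransitive
  set no := (Out G x y x).card with hno
  set lam := (Out G x y x ∩ Out G x y y).card with hlam
  set d := (Dset G x y).card with hd
  have hy : y ∈ Out G x y x := mem_Out.2 (orb_refl _)
  have hno1 : 1 ≤ no := Finset.card_pos.2 ⟨y, hy⟩
  have hdisj : ∀ v, v ∈ Out G x y x → v ∉ In G x y x := by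
    intro v hv1 hv2
    rw [mem_Out] at hv1
    rw [mem_In] at hv2
    -- (x,y) ~ (x,v) and (x,y) ~ (v,x)
    exact hns (orb_trans hv2 (orb_swap (orb_symm hv1)))
  have hpt : ∀ v, (if v = x then no else 0) + (if v ∈ Out G x y x then lam else 0)
      + (if v ∈ In G x y x then lam else 0) ≤ (Out G x y x ∩ Out G x y v).card := by
    intro v
    by_cases hvx : v = x
    · subst hvx
      rw [if_pos rfl, if_neg (not_mem_Out_self hxy v), if_neg (not_mem_In_self hxy v),
        Finset.inter_self]
      simp [hno]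
    · rw [if_neg hvx]
      by_cases hv1 : v ∈ Out G x y x
      · rw [if_pos hv1, if_neg (hdisj v hv1)]
        have : (Out G x y x ∩ Out G x y v).card = lam :=
          card_inter_Out_of_orb (mem_Out.1 hv1)
        omega
      · rw [if_neg hv1]
        by_cases hv2 : v ∈ In G x y x
        · rw [if_pos hv2]
          have : (Out G x y v ∩ Out G x y x).card = lam :=
            card_inter_Out_of_orb (mem_In.1 hv2)
          rw [Finset.inter_comm] at this
          omega
        · rw [if_neg hv2]
          omega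
  have hsum := Finset.sum_le_sum (fun v (_ : v ∈ Finset.univ) => hpt v)
  rw [sum_card_inter_Out x y x, Finset.sum_add_distrib, Finset.sum_add_distrib] at hsum
  have e1 : (∑ v : Ω, if v = x then no else 0) = no := by simp
  have e2 : (∑ v : Ω, if v ∈ Out G x y x then lam else 0) = no * lam := by
    rw [← Finset.sum_filter]
    simp [hno]
  have e3 : (∑ v : Ω, if v ∈ In G x y x then lam else 0) = no * lam := by
    rw [← Finset.sum_filter]
    simp [hno, card_In_eq_card_Out x y x x]
  rw [e1, e2, e3] at hsum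
  -- `no + 2 no lam ≤ no^2`
  have h1 : 1 + 2 * lam ≤ no := by
    have : no * (1 + 2 * lam) ≤ no * no := by nlinarith
    exact Nat.le_of_mul_le_mul_left this hno1
  have h2 : 2 * no ≤ 2 * lam + d := two_mul_card_Out_le (G := G) x y x y (card_Out_const x y x y)
  have h3 : (Nb G x y x).card ≤ 2 * no := card_Nb_le_two_mul (G := G) x y x
  have h4 : Fintype.card Ω + (Nb G x y x).card ≤ (Nb G x y x).card * d + 1 := ineqI (G := G) hxy
  have hd1 : no + 1 ≤ d := by omega
  clear_value no lam d
  obtain ⟨e, rfl⟩ : ∃ e, d = e + 1 := ⟨d - 1, by omega⟩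
  have h5 : (Nb G x y x).card * e ≤ 2 * e * e := by
    have : (Nb G x y x).card ≤ 2 * e := by omega
    nlinarith
  nlinarith

/-- if `G` is not 2-transitive, some point is not adjacent to `x`. -/
lemma exists_nonadj [IsPretransitive G Ω] (h2 : ¬ IsMultiplyPretransitive G Ω 2) {x y : Ω}
    (hxy : x ≠ y) : ∃ z, z ≠ x ∧ ¬ Orb G (x, y) (x, z) := by
  by_contra hcon
  push Not at hcon
  apply h2
  rw [is_two_pretransitive_iff]
  intro a b c d hab hcd
  obtain ⟨k₁, hk₁⟩ := exists_smul_eq G a x
  obtain ⟨k₂, hk₂⟩ := exists_smul_eq G c x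
  have h1 : Orb G (x, y) (x, k₁ • b) :=
    hcon _ (fun h => hab (MulAction.injective k₁ (hk₁.trans h.symm)))
  have h2' : Orb G (x, y) (x, k₂ • d) :=
    hcon _ (fun h => hcd (MulAction.injective k₂ (hk₂.trans h.symm)))
  have e1 : Orb G (a, b) (x, k₁ • b) := by
    have := orb_smul k₁ a b
    rwa [hk₁] at this
  have e2 : Orb G (c, d) (x, k₂ • d) := by
    have := orb_smul k₂ c d
    rwa [hk₂] at this
  obtain ⟨k, e1', e2'⟩ := orb_trans e1 (orb_trans (orb_symm h1) (orb_trans h2' (orb_symm e2)))
  exact ⟨k, e1', e2'⟩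

lemma exists_dist_two [IsPreprimitive G Ω] {x y : Ω} (hxy : x ≠ y) {z₀ : Ω} (hz₀ : z₀ ≠ x)
    (hz₀' : ¬ Orb G (x, y) (x, z₀)) :
    ∃ y' z, Orb G (x, y) (x, y') ∧ Orb G (x, y) (y', z) ∧ z ≠ x ∧ ¬ Orb G (x, y) (x, z) := by
  let O : Set Ω := {u | u = x ∨ Orb G (x, y) (x, u)}
  have hOne : O.Nonempty := ⟨x, Or.inl rfl⟩
  have hOuniv : O ≠ Set.univ := by
    intro hcon
    have : z₀ ∈ O := by rw [hcon]; exact Set.mem_univ _
    rcases this with h | h
    · exact hz₀ h
    · exact hz₀' h
  obtain ⟨k₀, hk1, hk2⟩ :=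
    IsPreprimitive.exists_mem_smul_and_notMem_smul (G := G) (Set.toFinite O) hOne hOuniv hxy
  rw [Set.mem_smul_set_iff_inv_smul_mem] at hk1 hk2
  have hedge : Orb G (x, y) (k₀⁻¹ • x, k₀⁻¹ • y) := orb_smul _ _ _
  have hz1 : k₀⁻¹ • y ≠ x := fun h => hk2 (Or.inl h)
  have hz2 : ¬ Orb G (x, y) (x, k₀⁻¹ • y) := fun h => hk2 (Or.inr h)
  rcases hk1 with h | h
  · rw [h] at hedge
    exact absurd hedge hz2
  · exact ⟨k₀⁻¹ • x, k₀⁻¹ • y, h, hedge, hz1, hz2⟩


/-- Case B: the orbital of `(x, y)` is self-paired and `G` is not 2-transitive. -/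
theorem caseB [IsPreprimitive G Ω] (h2t : ¬ IsMultiplyPretransitive G Ω 2) {x y : Ω}
    (hxy : x ≠ y) (hsp : Orb G (x, y) (y, x)) :
    Fintype.card Ω ≤ (2 * (Dset G x y).card + 1) ^ 2 := by
  have htr : IsPretransitive G Ω := IsPreprimitive.toIsPretransitive
  have hsymm : ∀ u v : Ω, Orb G (x, y) (u, v) → Orb G (x, y) (v, u) :=
    fun u v h => orb_trans hsp (orb_swap h)
  have hNb : Nb G x y x = Out G x y x := by
    ext v
    rw [mem_Nb, mem_Out]
    constructor
    · rintro (h | h)
      · exact h
      · exact hsymm _ _ h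
    · exact fun h => Or.inl h
  set κ := (Out G x y x).card with hκdef
  set lam := (Out G x y x ∩ Out G x y y).card with hlam
  set d := (Dset G x y).card with hd
  have hd2 : 2 ≤ d := by
    have hx : x ∈ Dset G x y := self_mem_Dset hxy
    have hy : y ∈ Dset G x y := by
      rw [Dset_comm]
      exact self_mem_Dset (Ne.symm hxy)
    exact Finset.one_lt_card.2 ⟨x, hx, y, hy, hxy⟩
  have h2 : 2 * κ ≤ 2 * lam + d :=
    two_mul_card_Out_le (G := G) x y x y (card_Out_const x y x y)
  have h4 : Fintype.card Ω + κ ≤ κ * d + 1 := by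
    have := ineqI (G := G) hxy
    rw [hNb] at this
    exact this
  by_cases hκ : κ ≤ 4 * d + 4
  · clear_value κ lam d
    obtain ⟨e, rfl⟩ : ∃ e, d = e + 1 := ⟨d - 1, by omega⟩
    have h5 : κ * e ≤ (4 * e + 8) * e := Nat.mul_le_mul_right e (by omega)
    nlinarith
  · push Not at hκ
    obtain ⟨z₀, hz₀, hz₀'⟩ := exists_nonadj (G := G) h2t hxy
    obtain ⟨y', z, hy', hy'z, hzx, hnz⟩ := exists_dist_two (G := G) hxy hz₀ hz₀'
    set mu := (Out G x y x ∩ Out G x y z).card with hmu
    -- `2 lam ≤ mu + κ`
    have hmu1 : 2 * lam ≤ mu + κ := by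
      have c1 : (Out G x y x ∩ Out G x y y').card = lam := card_inter_Out_of_orb hy'
      have c2 : (Out G x y y' ∩ Out G x y z).card = lam := card_inter_Out_of_orb hy'z
      have c3 := Finset.card_inter_add_card_union (Out G x y x ∩ Out G x y y')
        (Out G x y y' ∩ Out G x y z)
      have c4 : ((Out G x y x ∩ Out G x y y') ∪ (Out G x y y' ∩ Out G x y z)).card ≤ κ := by
        rw [hκdef, card_Out_const x y x y']
        apply Finset.card_le_card
        apply Finset.union_subset
        · exact Finset.inter_subset_right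
        · exact Finset.inter_subset_left
      have c5 : ((Out G x y x ∩ Out G x y y') ∩ (Out G x y y' ∩ Out G x y z)).card ≤ mu := by
        apply Finset.card_le_card
        intro w hw
        simp only [Finset.mem_inter] at hw ⊢
        exact ⟨hw.1.1, hw.2.2⟩
      omega
    set nb := (Out G x z x).card with hnb
    have hxz : x ≠ z := Ne.symm hzx
    have hpt : ∀ v, (if v = x then κ else 0) + (if v ∈ Out G x y x then lam else 0)
        + (if v ∈ Out G x z x then mu else 0) ≤ (Out G x y x ∩ Out G x y v).card := by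
      intro v
      by_cases hvx : v = x
      · subst hvx
        rw [if_pos rfl, if_neg (not_mem_Out_self hxy v), if_neg (not_mem_Out_self hxz v),
          Finset.inter_self]
        simp [hκdef]
      · rw [if_neg hvx]
        by_cases hv1 : v ∈ Out G x y x
        · have hv2 : v ∉ Out G x z x := by
            intro hv2
            rw [mem_Out] at hv1 hv2
            exact hnz (orb_trans hv1 (orb_symm hv2))
          rw [if_pos hv1, if_neg hv2]
          have : (Out G x y x ∩ Out G x y v).card = lam :=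
            card_inter_Out_of_orb (mem_Out.1 hv1)
          omega
        · rw [if_neg hv1]
          by_cases hv2 : v ∈ Out G x z x
          · rw [if_pos hv2]
            have : (Out G x y x ∩ Out G x y v).card = mu :=
              card_inter_Out_of_orb (mem_Out.1 hv2)
            omega
          · rw [if_neg hv2]
            omega
    have hsum := Finset.sum_le_sum (fun v (_ : v ∈ Finset.univ) => hpt v)
    rw [sum_card_inter_Out x y x, Finset.sum_add_distrib, Finset.sum_add_distrib] at hsum
    have e1 : (∑ v : Ω, if v = x then κ else 0) = κ := by simp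
    have e2 : (∑ v : Ω, if v ∈ Out G x y x then lam else 0) = κ * lam := by
      rw [← Finset.sum_filter]
      simp [hκdef]
    have e3 : (∑ v : Ω, if v ∈ Out G x z x then mu else 0) = nb * mu := by
      rw [← Finset.sum_filter]
      simp [hnb]
    rw [e1, e2, e3] at hsum
    have hsum' : κ + κ * lam + nb * mu ≤ κ * κ := hsum
    -- the distinguishing number of `(x, z)`
    have hdb : (Dset G x z).card ≤ 2 * d := by
      have c1 : (Dset G x y').card = d := card_Dset_of_orb hy'
      have c2 : (Dset G y' z).card = d := card_Dset_of_orb hy'z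
      have c3 := Finset.card_le_card (Dset_triangle (G := G) x y' z)
      have c4 := Finset.card_union_le (Dset G x y') (Dset G y' z)
      omega
    have hκb : (Nb G x z x).card ≤ 2 * nb := card_Nb_le_two_mul (G := G) x z x
    have h6 := ineqI (G := G) hxz
    -- `nb < d`
    have hnbd : nb + 1 ≤ d := by
      by_contra hcon
      push Not at hcon
      have hdn : d ≤ nb := by omega
      clear_value κ lam d mu nb
      obtain ⟨t, rfl⟩ : ∃ t, κ = d + t := ⟨κ - d, by omega⟩
      have ht : 3 * d + 5 ≤ t := by omega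
      have hA : (d + t) * (d + 2 * t) ≤ (d + t) * (2 * lam) :=
        Nat.mul_le_mul_left _ (by omega)
      have hB : d * t ≤ nb * mu := Nat.mul_le_mul hdn (by omega)
      have hC : d * d ≤ d * t := Nat.mul_le_mul_left _ (by omega)
      nlinarith
    clear_value κ lam d mu nb
    have h7 : (Nb G x z x).card * (Dset G x z).card ≤ (2 * nb) * (2 * d) :=
      Nat.mul_le_mul hκb hdb
    have h8 : nb * d ≤ d * d := Nat.mul_le_mul_right d (by omega)
    nlinarith

end Cases


section TwoTrans

variable {G : Type*} {Ω : Type*} [Group G] [Fintype G] [MulAction G Ω] [Fintype Ω]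

lemma conj_moves_iff (g h : G) (ω : Ω) :
    (h * g * h⁻¹) • ω ≠ ω ↔ g • (h⁻¹ • ω) ≠ h⁻¹ • ω := by
  rw [mul_smul, mul_smul]
  constructor
  · intro h1 h2
    apply h1
    rw [h2, smul_inv_smul]
  · intro h1 h2
    exact h1 ((smul_eq_iff_eq_inv_smul h).1 h2)

lemma conj_moves_smul_iff (g h k : G) (ω : Ω) :
    ((k * h) * g * (k * h)⁻¹) • (k • ω) ≠ k • ω ↔ (h * g * h⁻¹) • ω ≠ ω := by
  rw [conj_moves_iff, conj_moves_iff]
  have : (k * h)⁻¹ • k • ω = h⁻¹ • ω := by
    rw [mul_inv_rev, mul_smul, inv_smul_smul]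
  rw [this]

/-- the 2-transitive case: if no two conjugates of `g` have supports meeting in exactly one
point, then `n - 1 ≤ (m - 1)^2`. -/
theorem twoTrans_bound (h2t : IsMultiplyPretransitive G Ω 2) (g : G)
    (hint : ∀ h k : G, (Finset.univ.filter
      (fun ω : Ω => (h * g * h⁻¹) • ω ≠ ω ∧ (k * g * k⁻¹) • ω ≠ ω)).card ≠ 1)
    (m' n' : ℕ) (hm : (Finset.univ.filter (fun ω : Ω => g • ω ≠ ω)).card = m' + 1)
    (hn : Fintype.card Ω = n' + 1) (a b : Ω) (hab : a ≠ b) :
    n' ≤ m' * m' := by
  have htr : IsPretransitive G Ω := isPretransitive_of_is_two_pretransitive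
  set I : G → Ω → ℕ := fun h ω => if (h * g * h⁻¹) • ω ≠ ω then 1 else 0 with hI
  have hI_sq : ∀ h ω, I h ω * I h ω = I h ω := by
    intro h ω
    simp only [hI]
    split_ifs <;> simp
  have hI_smul : ∀ (k h : G) (ω : Ω), I (k * h) (k • ω) = I h ω := by
    intro k h ω
    simp only [hI]
    exact if_congr (conj_moves_smul_iff g h k ω) rfl rfl
  -- (a) each translate has `m` points
  have hrow : ∀ h : G, ∑ ω, I h ω = m' + 1 := by
    intro h
    simp only [hI]
    rw [Finset.sum_boole]
    simp only [Nat.cast_id]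
    rw [← hm]
    apply card_filter_smul h⁻¹
    intro w
    exact conj_moves_iff g h w
  -- N₁
  set N₁ : Ω → ℕ := fun u => ∑ h, I h u with hN₁
  have hN₁_inv : ∀ (k : G) (u : Ω), N₁ (k • u) = N₁ u := by
    intro k u
    simp only [hN₁]
    rw [← Equiv.sum_comp (Equiv.mulLeft k) (fun h => I h (k • u))]
    apply Finset.sum_congr rfl
    intro h _
    exact hI_smul k h u
  have hE1 : (n' + 1) * N₁ a = Fintype.card G * (m' + 1) := by
    rw [← hn, ← sum_of_invariant N₁ hN₁_inv a]
    simp only [hN₁]
    rw [Finset.sum_comm, Finset.sum_congr rfl (fun h _ => hrow h)]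
    simp
  -- N₂
  set N₂ : Ω → Ω → ℕ := fun u v => ∑ h, I h u * I h v with hN₂
  have hN₂_inv : ∀ (k : G) (u v : Ω), N₂ (k • u) (k • v) = N₂ u v := by
    intro k u v
    simp only [hN₂]
    rw [← Equiv.sum_comp (Equiv.mulLeft k) (fun h => I h (k • u) * I h (k • v))]
    apply Finset.sum_congr rfl
    intro h _
    simp only [Equiv.coe_mulLeft]
    rw [hI_smul k h u, hI_smul k h v]
  have hN₂_const : ∀ u v : Ω, u ≠ v → N₂ u v = N₂ a b := by
    intro u v huv
    obtain ⟨k, hk1, hk2⟩ := (is_two_pretransitive_iff.1 h2t) hab huv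
    rw [← hk1, ← hk2, hN₂_inv]
  -- count pairs
  have hE2 : (n' + 1) * (n' * N₂ a b) + Fintype.card G * (m' + 1)
      = Fintype.card G * ((m' + 1) * (m' + 1)) := by
    have h1 : ∑ u, ∑ v ∈ Finset.univ.erase u, N₂ u v = (n' + 1) * (n' * N₂ a b) := by
      have : ∀ u : Ω, ∑ v ∈ Finset.univ.erase u, N₂ u v = n' * N₂ a b := by
        intro u
        rw [Finset.sum_congr rfl (fun v hv => hN₂_const u v (Finset.ne_of_mem_erase hv).symm)]
        simp [Finset.card_erase_of_mem, hn]
      rw [Finset.sum_congr rfl (fun u _ => this u)]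
      simp [hn]
    have h2 : ∀ h : G, (∑ u, ∑ v ∈ Finset.univ.erase u, I h u * I h v) + (m' + 1)
        = (m' + 1) * (m' + 1) := by
      intro h
      have e1 : ∀ u : Ω, (∑ v ∈ Finset.univ.erase u, I h u * I h v) + I h u * I h u
          = I h u * (m' + 1) := by
        intro u
        rw [Finset.sum_erase_add _ _ (Finset.mem_univ u), ← Finset.mul_sum, hrow h]
      have e2 : (∑ u, ∑ v ∈ Finset.univ.erase u, I h u * I h v) + ∑ u, I h u * I h u
          = ∑ u, I h u * (m' + 1) := by
        rw [← Finset.sum_add_distrib]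
        exact Finset.sum_congr rfl (fun u _ => e1 u)
      rw [Finset.sum_congr rfl (fun u _ => hI_sq h u), hrow h, ← Finset.sum_mul, hrow h] at e2
      exact e2
    have h3 : ∑ u, ∑ v ∈ Finset.univ.erase u, N₂ u v
        = ∑ h : G, ∑ u, ∑ v ∈ Finset.univ.erase u, I h u * I h v := by
      simp only [hN₂]
      rw [Finset.sum_comm]
      apply Finset.sum_congr rfl
      intro u _
      rw [Finset.sum_comm]
    have h4 : (∑ h : G, ∑ u, ∑ v ∈ Finset.univ.erase u, I h u * I h v)
        + Fintype.card G * (m' + 1) = Fintype.card G * ((m' + 1) * (m' + 1)) := by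
      have : ∑ h : G, ((∑ u, ∑ v ∈ Finset.univ.erase u, I h u * I h v) + (m' + 1))
          = ∑ h : G, (m' + 1) * (m' + 1) := Finset.sum_congr rfl (fun h _ => h2 h)
      rw [Finset.sum_add_distrib] at this
      simpa using this
    rw [← h1, h3]
    exact h4
  -- the key inequality
  have hkey : N₁ a * N₁ a ≤ n' * (N₂ a b * N₂ a b) := by
    have h1 : ∑ v ∈ Finset.univ.erase a, N₂ a v * N₂ a v = n' * (N₂ a b * N₂ a b) := by
      rw [Finset.sum_congr rfl (fun v hv => by
        rw [hN₂_const a v (Finset.ne_of_mem_erase hv).symm])]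
      simp [Finset.card_erase_of_mem, hn]
    rw [← h1]
    have h2 : ∀ v, N₂ a v * N₂ a v = ∑ h, ∑ k, (I h a * I k a) * (I h v * I k v) := by
      intro v
      simp only [hN₂]
      rw [Finset.sum_mul_sum]
      apply Finset.sum_congr rfl
      intro h _
      apply Finset.sum_congr rfl
      intro k _
      ring
    rw [Finset.sum_congr rfl (fun v _ => h2 v)]
    rw [Finset.sum_comm]
    have h3 : N₁ a * N₁ a = ∑ h, ∑ k, I h a * I k a := by
      simp only [hN₁]
      rw [Finset.sum_mul_sum]
    rw [h3]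
    apply Finset.sum_le_sum
    intro h _
    rw [Finset.sum_comm]
    apply Finset.sum_le_sum
    intro k _
    rw [← Finset.mul_sum]
    by_cases hha : (h * g * h⁻¹) • a ≠ a
    · by_cases hka : (k * g * k⁻¹) • a ≠ a
      · -- find `v ≠ a` in both supports
        have hamem : a ∈ Finset.univ.filter
            (fun ω : Ω => (h * g * h⁻¹) • ω ≠ ω ∧ (k * g * k⁻¹) • ω ≠ ω) := by
          simp only [Finset.mem_filter, Finset.mem_univ, true_and]
          exact ⟨hha, hka⟩
        have hcard : 1 < (Finset.univ.filter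
            (fun ω : Ω => (h * g * h⁻¹) • ω ≠ ω ∧ (k * g * k⁻¹) • ω ≠ ω)).card := by
          have h0 : 0 < (Finset.univ.filter
            (fun ω : Ω => (h * g * h⁻¹) • ω ≠ ω ∧ (k * g * k⁻¹) • ω ≠ ω)).card :=
            Finset.card_pos.2 ⟨a, hamem⟩
          have := hint h k
          omega
        obtain ⟨v, hv, hva⟩ := Finset.exists_mem_ne hcard a
        simp only [Finset.mem_filter, Finset.mem_univ, true_and] at hv
        have hone : 1 ≤ ∑ v ∈ Finset.univ.erase a, I h v * I k v := by
          have hv' : v ∈ Finset.univ.erase a := Finset.mem_erase.2 ⟨hva, Finset.mem_univ v⟩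
          have : I h v * I k v = 1 := by
            simp only [hI]
            rw [if_pos hv.1, if_pos hv.2]
          calc 1 = I h v * I k v := this.symm
            _ ≤ _ := Finset.single_le_sum (f := fun v => I h v * I k v)
                (fun _ _ => Nat.zero_le _) hv'
        calc I h a * I k a = I h a * I k a * 1 := (mul_one _).symm
          _ ≤ _ := Nat.mul_le_mul_left _ hone
      · have : I k a = 0 := by
          simp only [hI]
          rw [if_neg hka]
        simp [this]
    · have : I h a = 0 := by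
        simp only [hI]
        rw [if_neg hha]
      simp [this]
  -- arithmetic
  have hGpos : 0 < Fintype.card G := Fintype.card_pos
  clear_value N₁ N₂ I
  set A := Fintype.card G with hA
  set X := N₁ a with hX
  set Y := N₂ a b with hY
  clear_value A X Y
  have hE2' : (n' + 1) * (n' * Y) = A * (m' + 1) * m' := by
    have : A * ((m' + 1) * (m' + 1)) = A * (m' + 1) * m' + A * (m' + 1) := by ring
    omega
  have hfin : n' * (A * (m' + 1)) ^ 2 ≤ (m' * m') * (A * (m' + 1)) ^ 2 := by
    calc n' * (A * (m' + 1)) ^ 2 = n' * ((n' + 1) * X) ^ 2 := by rw [hE1]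
      _ = n' * (n' + 1) ^ 2 * (X * X) := by ring
      _ ≤ n' * (n' + 1) ^ 2 * (n' * (Y * Y)) := Nat.mul_le_mul_left _ hkey
      _ = ((n' + 1) * (n' * Y)) ^ 2 := by ring
      _ = (A * (m' + 1) * m') ^ 2 := by rw [hE2']
      _ = (m' * m') * (A * (m' + 1)) ^ 2 := by ring
  have hpos : 0 < (A * (m' + 1)) ^ 2 := by positivity
  exact Nat.le_of_mul_le_mul_right hfin hpos

end TwoTrans


section Main

variable {G : Type*} {Ω : Type*} [Group G] [Fintype G] [MulAction G Ω] [Fintype Ω]

/-- Babai's bound: in a primitive group in which no two conjugates of `g` have supports meeting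
in exactly one point, `n ≤ (2 m + 1)^2` where `m` is the number of points moved by `g`. -/
theorem main_bound [IsPreprimitive G Ω] (g : G) (x₀ : Ω) (hx₀ : g • x₀ ≠ x₀)
    (hint : ∀ h k : G, (Finset.univ.filter
      (fun ω : Ω => (h * g * h⁻¹) • ω ≠ ω ∧ (k * g * k⁻¹) • ω ≠ ω)).card ≠ 1) :
    Fintype.card Ω ≤ (2 * (Finset.univ.filter (fun ω : Ω => g • ω ≠ ω)).card + 1) ^ 2 := by
  set m := (Finset.univ.filter (fun ω : Ω => g • ω ≠ ω)).card with hm
  have hx₀mem : x₀ ∈ Finset.univ.filter (fun ω : Ω => g • ω ≠ ω) := by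
    simp only [Finset.mem_filter, Finset.mem_univ, true_and]
    exact hx₀
  have hm1 : 1 ≤ m := Finset.card_pos.2 ⟨x₀, hx₀mem⟩
  have hn1 : 1 ≤ Fintype.card Ω := Fintype.card_pos_iff.2 ⟨x₀⟩
  by_cases h2t : IsMultiplyPretransitive G Ω 2
  · obtain ⟨m', hm'⟩ : ∃ m', m = m' + 1 := ⟨m - 1, by omega⟩
    obtain ⟨n', hn'⟩ : ∃ n', Fintype.card Ω = n' + 1 := ⟨Fintype.card Ω - 1, by omega⟩
    have := twoTrans_bound h2t g hint m' n' (hm.symm.trans hm') hn' x₀ (g • x₀) (Ne.symm hx₀)
    rw [hn', hm']
    nlinarith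
  · have hd : (Dset G x₀ (g • x₀)).card ≤ m := by
      apply Finset.card_le_card
      intro w hw
      simp only [Finset.mem_filter, Finset.mem_univ, true_and]
      exact Dset_subset_supp rfl hw
    have hmono : (2 * (Dset G x₀ (g • x₀)).card + 1) ^ 2 ≤ (2 * m + 1) ^ 2 :=
      Nat.pow_le_pow_left (by omega) 2
    by_cases hsp : Orb G (x₀, g • x₀) (g • x₀, x₀)
    · exact le_trans (caseB h2t (Ne.symm hx₀) hsp) hmono
    · exact le_trans (caseA (Ne.symm hx₀) hsp) hmono


lemma natCard_subtype_eq (p : Ω → Prop) [DecidablePred p] :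
    Nat.card {ω : Ω // p ω} = (Finset.univ.filter p).card := by
  rw [Nat.card_eq_fintype_card, Fintype.card_subtype]

/-- instance-free form of `main_bound` -/
theorem main_bound_nat [IsPreprimitive G Ω] (g : G) (x₀ : Ω) (hx₀ : g • x₀ ≠ x₀)
    (hint : ∀ h k : G,
      Nat.card {ω : Ω // (h * g * h⁻¹) • ω ≠ ω ∧ (k * g * k⁻¹) • ω ≠ ω} ≠ 1) :
    Fintype.card Ω ≤ (2 * Nat.card {ω : Ω // g • ω ≠ ω} + 1) ^ 2 := by
  have e1 : Nat.card {ω : Ω // g • ω ≠ ω}
      = (Finset.univ.filter (fun ω : Ω => g • ω ≠ ω)).card := natCard_subtype_eq _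
  rw [e1]
  apply main_bound g x₀ hx₀
  intro h k
  have e2 : Nat.card {ω : Ω // (h * g * h⁻¹) • ω ≠ ω ∧ (k * g * k⁻¹) • ω ≠ ω}
      = (Finset.univ.filter
        (fun ω : Ω => (h * g * h⁻¹) • ω ≠ ω ∧ (k * g * k⁻¹) • ω ≠ ω)).card :=
    natCard_subtype_eq _
  rw [← e2]
  exact hint h k

theorem card_fixed_add_card_moved (g : G) :
    Nat.card (MulAction.fixedBy Ω g) + Nat.card {ω : Ω // g • ω ≠ ω} = Fintype.card Ω := by
  have e1 : Nat.card (MulAction.fixedBy Ω g) = Nat.card {ω : Ω // g • ω = ω} := rfl
  have e2 : Nat.card {ω : Ω // g • ω = ω}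
      = (Finset.univ.filter (fun ω : Ω => g • ω = ω)).card := natCard_subtype_eq _
  have e3 : Nat.card {ω : Ω // g • ω ≠ ω}
      = (Finset.univ.filter (fun ω : Ω => ¬ g • ω = ω)).card := natCard_subtype_eq _
  rw [e1, e2, e3]
  exact Finset.card_filter_add_card_filter_not (s := Finset.univ) (fun ω : Ω => g • ω = ω)

end Main

end Cfsg.Agent.Lib.Helper59.MD
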