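import Mathlib

/-! # S2930 piece A2: odd-order automorphisms of `A_6` preserve 3-cycles -/

set_option autoImplicit false

namespace Cfsg.Agent.Lib.Helper59.PMinAlt

open Equiv Equiv.Perm Subgroup MulAction

abbrev A6 := alternatingGroup (Fin 6)

/-- elements of order 3 -/
def E6 : Finset A6 := Finset.univ.filter (fun g : A6 => g ^ 3 = 1 ∧ g ≠ 1)
/-- 3-cycles -/
def T6 : Finset A6 := Finset.univ.filter (fun g : A6 => (g : Perm (Fin 6)).support.card = 3)

set_option maxRecDepth 100000 in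
theorem card_E6 : E6.card = 80 := by decide +kernel
set_option maxRecDepth 100000 in
theorem card_T6 : T6.card = 40 := by decide +kernel

lemma mem_T6 (g : A6) : g ∈ T6 ↔ (g : Perm (Fin 6)).IsThreeCycle := by
  simp only [T6, Finset.mem_filter, Finset.mem_univ, true_and]
  exact card_support_eq_three_iff

lemma mem_E6 (g : A6) : g ∈ E6 ↔ g ^ 3 = 1 ∧ g ≠ 1 := by
  simp [E6]

lemma T6_sub_E6 : T6 ⊆ E6 := by
  intro g hg
  rw [mem_T6] at hg
  rw [mem_E6]
  constructor
  · apply Subtype.ext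
    have := hg.orderOf
    rw [Subgroup.coe_pow, ← this, pow_orderOf_eq_one]; rfl
  · rintro rfl
    have := hg.card_support
    simp at this

lemma map_mem_E6 (ψ : MulAut A6) (g : A6) (hg : g ∈ E6) : ψ g ∈ E6 := by
  rw [mem_E6] at hg ⊢
  constructor
  · rw [← map_pow, hg.1, map_one]
  · intro h
    apply hg.2
    have := congrArg ψ.symm h
    simpa using this

lemma conj_mem_T6 (g k : A6) (hg : g ∈ T6) : k * g * k⁻¹ ∈ T6 := by
  rw [mem_T6] at hg ⊢
  have : ((k * g * k⁻¹ : A6) : Perm (Fin 6)) = (k : Perm (Fin 6)) * g * (k : Perm (Fin 6))⁻¹ := by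
    simp
  rw [this]
  unfold IsThreeCycle at hg ⊢
  rw [cycleType_conj]
  exact hg

/-- if one 3-cycle is mapped to a 3-cycle then all are -/
lemma all_of_one (ψ : MulAut A6) (t₀ : A6) (ht₀ : t₀ ∈ T6) (h : ψ t₀ ∈ T6) (t : A6) (ht : t ∈ T6) :
    ψ t ∈ T6 := by
  have hconj : IsConj t₀ t :=
    alternatingGroup.isThreeCycle_isConj (by simp) ((mem_T6 _).mp ht₀) ((mem_T6 _).mp ht)
  obtain ⟨k, hk⟩ := isConj_iff.mp hconj
  rw [← hk, map_mul, map_mul, map_inv]
  exact conj_mem_T6 _ _ h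

/-- **Piece A2.** An automorphism of `A_6` of odd order maps 3-cycles to 3-cycles.

Proof: `E = {g ∈ A_6 | g^3 = 1, g ≠ 1}` has 80 elements, of which 40 are 3-cycles (`decide +kernel`).
All 3-cycles are conjugate in `A_6`, so if `ψ` maps one 3-cycle to a non-3-cycle it maps all of
them to non-3-cycles; by counting `ψ` then exchanges 3-cycles and the other 40 elements of `E`,
so `ψ^m` maps 3-cycles to non-3-cycles for odd `m`; contradiction with `ψ^(3^k) = 1`. -/
theorem map_threeCycle_six (ψ : MulAut (alternatingGroup (Fin 6))) (k : ℕ)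
    (hψ : ψ ^ (3 ^ k) = 1) (t : alternatingGroup (Fin 6)) (ht : (t : Perm (Fin 6)).IsThreeCycle) :
    ((ψ t : alternatingGroup (Fin 6)) : Perm (Fin 6)).IsThreeCycle := by
  rw [← mem_T6] at ht ⊢
  by_contra hnot
  -- no 3-cycle is mapped to a 3-cycle
  have hnone : ∀ g ∈ T6, ψ g ∉ T6 := by
    intro g hg hψg
    exact hnot (all_of_one ψ g hg hψg t ht)
  -- the image of T6 is E6 \ T6
  have himg : T6.image ψ = E6 \ T6 := by
    apply Finset.eq_of_subset_of_card_le
    · intro g hg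
      obtain ⟨g', hg', rfl⟩ := Finset.mem_image.mp hg
      rw [Finset.mem_sdiff]
      exact ⟨map_mem_E6 ψ g' (T6_sub_E6 hg'), hnone g' hg'⟩
    · rw [Finset.card_image_of_injective _ ψ.injective, Finset.card_sdiff_of_subset T6_sub_E6,
        card_E6, card_T6]
  -- elements of E6 \ T6 are mapped into T6
  have hback : ∀ g ∈ E6, g ∉ T6 → ψ g ∈ T6 := by
    intro g hgE hgT
    by_contra hψg
    have h1 : ψ g ∈ E6 \ T6 := Finset.mem_sdiff.mpr ⟨map_mem_E6 ψ g hgE, hψg⟩
    rw [← himg] at h1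
    obtain ⟨g', hg', hgg'⟩ := Finset.mem_image.mp h1
    have : g' = g := ψ.injective hgg'
    exact hgT (this ▸ hg')
  -- parity
  have hpar : ∀ j : ℕ, ∀ g ∈ T6, ((ψ ^ j) g ∈ E6) ∧ ((ψ ^ j) g ∈ T6 ↔ Even j) := by
    intro j
    induction j with
    | zero =>
      intro g hg
      simp only [pow_zero, MulAut.one_apply]
      exact ⟨T6_sub_E6 hg, by simp [hg]⟩
    | succ j ih =>
      intro g hg
      obtain ⟨h1, h2⟩ := ih g hg
      have hstep : (ψ ^ (j + 1)) g = ψ ((ψ ^ j) g) := by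
        rw [pow_succ', MulAut.mul_apply]
      rw [hstep]
      refine ⟨map_mem_E6 ψ _ h1, ?_⟩
      by_cases hev : Even j
      · have h3 : (ψ ^ j) g ∈ T6 := h2.mpr hev
        have h4 : ψ ((ψ ^ j) g) ∉ T6 := hnone _ h3
        have h5 : ¬ Even (j + 1) := by
          rw [Nat.even_add_one]; exact not_not.mpr hev
        exact ⟨fun h => absurd h h4, fun h => absurd h h5⟩
      · have h3 : (ψ ^ j) g ∉ T6 := fun h => hev (h2.mp h)
        have h4 : ψ ((ψ ^ j) g) ∈ T6 := hback _ h1 h3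
        have h5 : Even (j + 1) := by
          rw [Nat.even_add_one]; exact hev
        exact ⟨fun _ => h5, fun _ => h4⟩
  have := (hpar (3 ^ k) t ht).2
  rw [hψ, MulAut.one_apply] at this
  have hodd : ¬ Even (3 ^ k) := by
    rw [Nat.not_even_iff_odd]
    exact Odd.pow (by decide)
  exact hodd (this.mp ht)

end Cfsg.Agent.Lib.Helper59.PMinAlt
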