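import Cfsg.Agent.Lib.Helper59.PMinAltA1
import Cfsg.Agent.Lib.Helper59.PMinAltA2

/-! # S2930 piece A: automorphisms of 3-power order of `A_n` are inner -/

set_option autoImplicit false

namespace Cfsg.Agent.Lib.Helper59.PMinAlt

open Equiv Equiv.Perm Subgroup MulAction

/-- the case distinction producing `σ` -/
theorem h80_exists_sigma {n : ℕ} (hn : 5 ≤ n) (ψ : MulAut (alternatingGroup (Fin n)))
    (k : ℕ) (hψ : ψ ^ (3 ^ k) = 1) : ∃ σ : Perm (Fin n), MulAut.conjNormal σ = ψ := by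
  have hα : 4 ≤ Fintype.card (Fin n) := by rw [Fintype.card_fin]; omega
  by_cases h6 : n = 6
  · subst h6
    exact exists_conjNormal_of_map_threeCycle hα ψ (fun t ht => map_threeCycle_six ψ k hψ t ht)
  · exact Cfsg.Agent.Lib.Helper35.conjNormal_surjective hα (by rw [Fintype.card_fin]; exact h6) ψ

/-- **Piece A.** For `n ≥ 5` an automorphism of `A_n` of 3-power order is conjugation by an element
of `A_n`.

Proof: `ψ = conjNormal σ` for some `σ : Perm (Fin n)` (by `Helper35.conjNormal_surjective` if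
`n ≠ 6`, by pieces A1, A2 if `n = 6`). By `Helper35.conjNormal_injective`, `σ^(3^k) = 1`, so
`sign σ = (sign σ)^(3^k) = 1` (`Int.units_eq_one_or`, odd power), i.e. `σ ∈ A_n`, and
`conjNormal σ = conj ⟨σ, _⟩`. -/
theorem mulAut_inner_of_pow_three {n : ℕ} (hn : 5 ≤ n) (ψ : MulAut (alternatingGroup (Fin n)))
    (k : ℕ) (hψ : ψ ^ (3 ^ k) = 1) :
    ∃ a : alternatingGroup (Fin n), ψ = MulAut.conj a := by
  have hα : 4 ≤ Fintype.card (Fin n) := by rw [Fintype.card_fin]; omega
  obtain ⟨σ, hσ⟩ := h80_exists_sigma hn ψ k hψ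
  have hσpow : σ ^ (3 ^ k) = 1 := by
    apply Cfsg.Agent.Lib.Helper35.conjNormal_injective hα
    rw [map_pow, hσ, hψ, map_one]
  have hsign : Perm.sign σ = 1 := by
    have h1 : (Perm.sign σ) ^ (3 ^ k) = 1 := by rw [← map_pow, hσpow, map_one]
    rcases Int.units_eq_one_or (Perm.sign σ) with h | h
    · exact h
    · rw [h] at h1
      have hodd : Odd (3 ^ k) := Odd.pow (by decide)
      rw [hodd.neg_one_pow] at h1
      exact absurd h1 (by decide)
  refine ⟨⟨σ, mem_alternatingGroup.mpr hsign⟩, ?_⟩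
  rw [← hσ]
  ext g x
  rw [MulAut.conjNormal_apply, MulAut.conj_apply]
  rfl

end Cfsg.Agent.Lib.Helper59.PMinAlt
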