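import Cfsg.Agent.Lib.Helper35.AltAutMain

/-! # S2930 piece A1: automorphisms of `A_n` preserving 3-cycles come from `S_n` -/

set_option autoImplicit false

namespace Cfsg.Agent.Lib.Helper59.PMinAlt

open Equiv Equiv.Perm Subgroup MulAction
open Cfsg.Agent.Lib.Helper35
open scoped Pointwise

/-- **Piece A1.** The proof of `Cfsg.Agent.Lib.Helper35.conjNormal_surjective`
(`Cfsg/Agent/Lib/Helper35/AltAutMain.lean`) uses `Fintype.card α ≠ 6` only through
`isThreeCycle_map`; copy that proof, replacing `isThreeCycle_map hα h6 ψ t ht.1` by `h3 t ht.1`. -/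
theorem exists_conjNormal_of_map_threeCycle {α : Type*} [Fintype α] [DecidableEq α]
    (hα : 4 ≤ Fintype.card α) (ψ : MulAut (alternatingGroup α))
    (h3 : ∀ t : alternatingGroup α, (t : Perm α).IsThreeCycle →
      ((ψ t : alternatingGroup α) : Perm α).IsThreeCycle) :
    ∃ σ : Perm α, MulAut.conjNormal σ = ψ := by
  have h3' := h3
  clear h3

  classical
  have hcard3 : 3 ≤ Nat.card α := by rw [Nat.card_eq_fintype_card]; omega
  have : Nontrivial α := by
    rw [← Fintype.one_lt_card_iff_nontrivial]; omega
  have hprim : IsPreprimitive (alternatingGroup α) α :=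
    alternatingGroup.isPreprimitive_of_three_le_card α hcard3
  have hcoatom : ∀ i : α, IsCoatom (stabilizer (alternatingGroup α) i) :=
    fun i => IsPreprimitive.isCoatom_stabilizer_of_isPreprimitive (alternatingGroup α) i
  -- the image of each point stabilizer is a point stabilizer
  have hkey : ∀ i : α, ∃ j : α, (stabilizer (alternatingGroup α) i).map ψ.toMonoidHom =
      stabilizer (alternatingGroup α) j := by
    intro i
    set T := {t : alternatingGroup α | (t : Perm α).IsThreeCycle ∧
        t ∈ stabilizer (alternatingGroup α) i} with hT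
    have hmap : (stabilizer (alternatingGroup α) i).map ψ.toMonoidHom =
        closure (ψ.toMonoidHom '' T) := by
      conv_lhs => rw [stabilizer_eq_closure i]
      rw [MonoidHom.map_closure]
    have hco : IsCoatom (closure (ψ.toMonoidHom '' T)) := by
      rw [← hmap]
      exact (OrderIso.isCoatom_iff (ψ.mapSubgroup) _).mpr (hcoatom i)
    have h3 : ∀ t ∈ ψ.toMonoidHom '' T, (t : Perm α).IsThreeCycle := by
      rintro _ ⟨t, ht, rfl⟩
      exact h3' t ht.1
    by_cases hne : (ψ.toMonoidHom '' T).Nonempty
    · obtain ⟨j, hj⟩ := exists_fixed_point_of_coatom _ h3 hne hco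
      refine ⟨j, ?_⟩
      rw [hmap]
      by_contra hne'
      exact (hcoatom j).1 (hco.2 _ (lt_of_le_of_ne hj hne'))
    · rw [Set.not_nonempty_iff_eq_empty] at hne
      rw [hne, Subgroup.closure_empty] at hco
      -- then the whole group has a trivial maximal subgroup, and any stabilizer is trivial
      refine ⟨i, ?_⟩
      rw [hmap, hne, Subgroup.closure_empty]
      symm
      by_contra hne'
      have hlt : (⊥ : Subgroup (alternatingGroup α)) < stabilizer (alternatingGroup α) i :=
        bot_lt_iff_ne_bot.mpr hne'
      exact (hcoatom i).1 (hco.2 _ hlt)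
  choose σ₀ hσ₀ using hkey
  have hinj : Function.Injective σ₀ := by
    intro i i' h
    have h1 : (stabilizer (alternatingGroup α) i).map ψ.toMonoidHom =
        (stabilizer (alternatingGroup α) i').map ψ.toMonoidHom := by
      rw [hσ₀ i, hσ₀ i', h]
    have h2 := Subgroup.map_injective ψ.injective h1
    exact stabilizer_injective hα h2
  have hbij : Function.Bijective σ₀ := Finite.injective_iff_bijective.mp hinj
  set σ : Perm α := Equiv.ofBijective σ₀ hbij with hσ
  -- equivariance
  have hequiv : ∀ (g : alternatingGroup α) (i : α),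
      ((ψ g : alternatingGroup α) : Perm α) (σ i) = σ ((g : Perm α) i) := by
    intro g i
    have h1 : stabilizer (alternatingGroup α) (g • i) =
        (stabilizer (alternatingGroup α) i).map (MulAut.conj g).toMonoidHom :=
      stabilizer_smul_eq_stabilizer_map_conj g i
    have h2 : stabilizer (alternatingGroup α) ((ψ g) • (σ₀ i)) =
        (stabilizer (alternatingGroup α) (σ₀ i)).map (MulAut.conj (ψ g)).toMonoidHom :=
      stabilizer_smul_eq_stabilizer_map_conj (ψ g) (σ₀ i)
    have h3 : stabilizer (alternatingGroup α) (σ₀ (g • i)) =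
        stabilizer (alternatingGroup α) ((ψ g) • (σ₀ i)) := by
      rw [← hσ₀ (g • i), h1, h2, ← hσ₀ i, Subgroup.map_map, Subgroup.map_map]
      congr 1
      ext x
      simp
    have h4 := stabilizer_injective hα h3
    exact h4.symm
  refine ⟨σ, ?_⟩
  ext g x
  rw [MulAut.conjNormal_apply]
  obtain ⟨i, rfl⟩ := σ.surjective x
  have h7 : σ⁻¹ (σ i) = i := σ.symm_apply_apply i
  simp only [Perm.coe_mul, Function.comp_apply, h7]
  exact (hequiv g i).symm

end Cfsg.Agent.Lib.Helper59.PMinAlt
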