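import Cfsg.Agent.Lib.Helper59.PMinAltA

/-! # S2930 piece B1: 3-elements lie in `K ≅ A_n` when `C_X(K) ≤ K ⊴ X` -/

set_option autoImplicit false

namespace Cfsg.Agent.Lib.Helper59.PMinAlt

open Subgroup

/-- **Piece B1.** `K ⊴ X` with `C_X(K) ≤ K` and `K ≅ A_n`, `n ≥ 5`. Then every 3-element of `X`
lies in `K`.

Proof: conjugation by `s` induces `ψ : MulAut K` (`MulAut.conjNormal s`), transported by `e` to an
automorphism of `A_n` whose `3^k`-th power is 1; by `mulAut_inner_of_pow_three` it is conjugation by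
some `a`, so `s` and `a' = e.symm a ∈ K` induce the same automorphism of `K`:
`a'⁻¹ s ∈ C_X(K) ≤ K`, whence `s ∈ K`. -/
theorem pElement_mem_of_alt {X : Type*} [Group X] [Finite X] (K : Subgroup X) [K.Normal]
    (hCK : Subgroup.centralizer (K : Set X) ≤ K) (n : ℕ) (hn : 5 ≤ n)
    (e : ↥K ≃* ↥(alternatingGroup (Fin n))) (s : X) (k : ℕ) (hs : s ^ (3 ^ k) = 1) : s ∈ K := by
  set ψ₀ : MulAut K := MulAut.conjNormal s with hψ₀
  have hψ₀pow : ψ₀ ^ (3 ^ k) = 1 := by
    rw [hψ₀, ← map_pow, hs, map_one]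
  set ψ : MulAut (alternatingGroup (Fin n)) := MulAut.congr e ψ₀ with hψ
  have hψpow : ψ ^ (3 ^ k) = 1 := by
    rw [hψ, ← map_pow, hψ₀pow, map_one]
  obtain ⟨a, ha⟩ := mulAut_inner_of_pow_three hn ψ k hψpow
  set a' : K := e.symm a with ha'
  have hea' : e a' = a := e.apply_symm_apply a
  have key : ∀ h : K, s * (h : X) * s⁻¹ = (a' : X) * h * (a' : X)⁻¹ := by
    intro h
    have h1 : ψ (e h) = e (ψ₀ h) := by
      show e (ψ₀ (e.symm (e h))) = e (ψ₀ h)
      rw [e.symm_apply_apply]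
    have h2 : ψ (e h) = e (a' * h * a'⁻¹) := by
      rw [ha, MulAut.conj_apply, map_mul, map_mul, map_inv, hea']
    have h3 : ψ₀ h = a' * h * a'⁻¹ := e.injective (h1.symm.trans h2)
    have h4 := congrArg (fun z : K => (z : X)) h3
    simp only [hψ₀, MulAut.conjNormal_apply] at h4
    rw [h4]
    simp
  have hcent : (a' : X)⁻¹ * s ∈ Subgroup.centralizer (K : Set X) := by
    rw [Subgroup.mem_centralizer_iff]
    intro h hh
    have h5 := key ⟨h, hh⟩
    simp only at h5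
    -- `h * (a'⁻¹ s) = (a'⁻¹ s) * h`
    have h6 : s * h = (a' : X) * h * (a' : X)⁻¹ * s := by
      rw [← h5]; group
    calc h * ((a' : X)⁻¹ * s) = (a' : X)⁻¹ * ((a' : X) * h * (a' : X)⁻¹ * s) := by group
      _ = (a' : X)⁻¹ * (s * h) := by rw [h6]
      _ = (a' : X)⁻¹ * s * h := by group
  have h7 : (a' : X)⁻¹ * s ∈ K := hCK hcent
  have h8 : s = (a' : X) * ((a' : X)⁻¹ * s) := by group
  rw [h8]
  exact K.mul_mem a'.2 h7

end Cfsg.Agent.Lib.Helper59.PMinAlt
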