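import Mathlib

/-! # S2930 piece B2: proper overgroups lie in the unique maximal overgroup -/

set_option autoImplicit false

namespace Cfsg.Agent.Lib.Helper59.PMinAlt

open Subgroup

/-- In a finite group, if `M₀` is the only maximal subgroup over `S` then every proper overgroup of
`S` lies in `M₀`. -/
theorem overgroup_le {G : Type*} [Group G] [Finite G] (S M₀ : Subgroup G)
    (huniq : ∀ M' : Subgroup G, IsCoatom M' ∧ S ≤ M' → M' = M₀)
    (H : Subgroup G) (hSH : S ≤ H) (hH : H ≠ ⊤) : H ≤ M₀ := by
  rcases eq_top_or_exists_le_coatom H with h | ⟨M', hM', hle⟩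
  · exact absurd h hH
  · rw [← huniq M' ⟨hM', hSH.trans hle⟩]; exact hle

end Cfsg.Agent.Lib.Helper59.PMinAlt
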