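import Cfsg.Agent.Lib.Helper59.PMinAltB2
import Cfsg.Prelude.Def_LocalEven

/-! # S2930 piece B3: Frattini argument in a 3-minimal group -/

set_option autoImplicit false

namespace Cfsg.Agent.Lib.Helper59.PMinAlt

open Subgroup

/-- **Piece B3.** A normal subgroup containing all Sylow 3-subgroups of a 3-minimal group is
everything.

Proof: take `S : Sylow 3 X` and its unique maximal overgroup `M₀`. If `K ≠ ⊤` then `K ≤ M₀`
(`overgroup_le`); `N_X(S) ≠ ⊤` as `S` is not normal, so `N_X(S) ≤ M₀`; but `N_X(S) ⊔ K = ⊤`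
(Frattini: `Sylow.normalizer_sup_eq_top` with `S.subtype hle : Sylow 3 K`). -/
theorem normal_eq_top_of_pMinimal {X : Type*} [Group X] [Finite X] (hX : Cfsg.IsPMinimal 3 X)
    (K : Subgroup X) [K.Normal] (hK : ∀ S : Sylow 3 X, (S : Subgroup X) ≤ K) : K = ⊤ := by
  haveI : Fact (Nat.Prime 3) := ⟨Nat.prime_three⟩
  obtain ⟨S⟩ : Nonempty (Sylow 3 X) := inferInstance
  obtain ⟨hSn, M₀, ⟨hM₀, hSM₀⟩, huniq⟩ := hX S
  by_contra hKtop
  have h1 : K ≤ M₀ := overgroup_le (S : Subgroup X) M₀ (fun M' hM' => huniq M' hM') K (hK S) hKtop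
  have hNtop : normalizer ((S : Subgroup X) : Set X) ≠ ⊤ := by
    intro h
    exact hSn (normalizer_eq_top_iff.mp h)
  have h2 : normalizer ((S : Subgroup X) : Set X) ≤ M₀ :=
    overgroup_le (S : Subgroup X) M₀ (fun M' hM' => huniq M' hM') _ le_normalizer hNtop
  have h3 := Sylow.normalizer_sup_eq_top' S (hK S)
  have h4 : (⊤ : Subgroup X) ≤ M₀ := by
    rw [← h3]
    exact sup_le h2 h1
  exact hM₀.1 (top_le_iff.mp h4)

end Cfsg.Agent.Lib.Helper59.PMinAlt
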