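import Cfsg.Agent.Lib.Helper59.PMinAltB2
import Cfsg.Prelude.Def_LocalEven

/-! # S2930 piece B4: transport of 3-minimality along an isomorphism -/

set_option autoImplicit false

namespace Cfsg.Agent.Lib.Helper59.PMinAlt

open Subgroup

/-- **Piece B4.** Transport of 3-minimality along an isomorphism, in the form used by part 2.

Proof: `S : Sylow 3 X` (exists), `M₀` its unique maximal overgroup; `P = S.map φ`, `M = M₀.map φ`.
For `H ≥ P` proper, `H.comap φ ≥ S` is proper, so `≤ M₀` by `overgroup_le`. -/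
theorem transport_pMinimal {X : Type*} [Group X] [Finite X] (hX : Cfsg.IsPMinimal 3 X)
    {A : Type*} [Group A] (φ : X ≃* A) :
    ∃ P M : Subgroup A, IsPGroup 3 P ∧ M ≠ ⊤ ∧
      ∀ H : Subgroup A, P ≤ H → H ≠ ⊤ → H ≤ M := by
  haveI : Fact (Nat.Prime 3) := ⟨Nat.prime_three⟩
  obtain ⟨S⟩ : Nonempty (Sylow 3 X) := inferInstance
  obtain ⟨-, M₀, ⟨hM₀, hSM₀⟩, huniq⟩ := hX S
  refine ⟨(S : Subgroup X).map φ.toMonoidHom, M₀.map φ.toMonoidHom, S.isPGroup'.map _, ?_, ?_⟩
  · intro h
    apply hM₀.1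
    rw [eq_top_iff]
    intro x _
    have hx : φ x ∈ M₀.map φ.toMonoidHom := by rw [h]; exact mem_top _
    obtain ⟨y, hy, hyx⟩ := mem_map.mp hx
    have : y = x := φ.injective hyx
    rwa [← this]
  · intro H hPH hH
    have h1 : (S : Subgroup X) ≤ H.comap φ.toMonoidHom := by
      intro x hx
      exact hPH (mem_map_of_mem _ hx)
    have h2 : H.comap φ.toMonoidHom ≠ ⊤ := by
      intro h
      apply hH
      rw [eq_top_iff]
      intro a _
      have : φ.symm a ∈ H.comap φ.toMonoidHom := by rw [h]; exact mem_top _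
      rw [mem_comap] at this
      simpa using this
    have h3 := overgroup_le (S : Subgroup X) M₀ (fun M' hM' => huniq M' hM') _ h1 h2
    intro a ha
    have h4 : φ.symm a ∈ H.comap φ.toMonoidHom := by
      rw [mem_comap]
      simpa using ha
    exact mem_map.mpr ⟨φ.symm a, h3 h4, by simp⟩

end Cfsg.Agent.Lib.Helper59.PMinAlt
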