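import Cfsg.Agent.Lib.Helper59.PMinAltDefs

/-! # S2930 piece T: the swap lemma -/

set_option autoImplicit false

namespace Cfsg.Agent.Lib.Helper59.PMinAlt

open Equiv Equiv.Perm Subgroup MulAction

variable {α : Type*} [Fintype α] [DecidableEq α]

omit [Fintype α] [DecidableEq α] in
lemma h21_inv_eq (σ : Perm α) (hσ3 : σ ^ 3 = 1) : σ⁻¹ = σ * σ := by
  have h : σ * (σ * σ) = 1 := by
    rw [← hσ3, pow_succ, pow_two, mul_assoc]
  exact inv_eq_of_mul_eq_one_right h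

omit [Fintype α] [DecidableEq α] in
lemma h21_cube_apply (σ : Perm α) (hσ3 : σ ^ 3 = 1) (x : α) : σ (σ (σ x)) = x := by
  have h : (σ ^ 3) x = x := by rw [hσ3]; rfl
  simpa [pow_succ, Perm.mul_apply] using h

omit [Fintype α] [DecidableEq α] in
/-- If `k` is supported on a set `S` which is disjoint from its images under `σ` and `σ²`
(`σ³ = 1`), then the product of the three `σ`-conjugates of `k` commutes with `σ` and agrees with
`k` on `S`. -/
lemma h21_key (σ k : Perm α) (hσ3 : σ ^ 3 = 1) (S : Set α)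
    (hk : ∀ x, x ∉ S → k x = x) (hS1 : ∀ x ∈ S, σ x ∉ S) (hS2 : ∀ x ∈ S, σ (σ x) ∉ S) :
    (k * (σ * k * σ⁻¹) * (σ⁻¹ * k * σ)) * σ = σ * (k * (σ * k * σ⁻¹) * (σ⁻¹ * k * σ)) ∧
      (∀ x ∈ S, (k * (σ * k * σ⁻¹) * (σ⁻¹ * k * σ)) x = k x) := by
  have hinv : σ⁻¹ = σ * σ := h21_inv_eq σ hσ3
  have hinvx : ∀ x, σ⁻¹ x = σ (σ x) := fun x => by rw [hinv]; rfl
  have d12 : Disjoint k (σ * k * σ⁻¹) := by
    intro x
    by_cases hx : x ∈ S
    · right
      have h1 : σ⁻¹ x ∉ S := by rw [hinvx]; exact hS2 x hx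
      show σ (k (σ⁻¹ x)) = x
      rw [hk _ h1]; simp
    · left; exact hk x hx
  have d13 : Disjoint k (σ⁻¹ * k * σ) := by
    intro x
    by_cases hx : x ∈ S
    · right
      simp [Perm.mul_apply, hk _ (hS1 x hx)]
    · left; exact hk x hx
  have d23 : Disjoint (σ * k * σ⁻¹) (σ⁻¹ * k * σ) := by
    intro x
    by_cases hx : σ⁻¹ x ∈ S
    · right
      have h1 : σ x = σ (σ (σ⁻¹ x)) := by simp
      have h2 : σ x ∉ S := by rw [h1]; exact hS2 _ hx
      simp [Perm.mul_apply, hk _ h2]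
    · left
      show σ (k (σ⁻¹ x)) = x
      rw [hk _ hx]; simp
  have c12 := d12.commute
  have c13 := d13.commute
  have c23 := d23.commute
  refine ⟨?_, ?_⟩
  · -- commutation
    have e1 : σ * k = (σ * k * σ⁻¹) * σ := by group
    have e2 : σ * (σ * k * σ⁻¹) = (σ⁻¹ * k * σ) * σ := by
      rw [hinv]; group
    have e3 : σ * (σ⁻¹ * k * σ) = k * σ := by group
    calc k * (σ * k * σ⁻¹) * (σ⁻¹ * k * σ) * σ
        = (σ * k * σ⁻¹) * (σ⁻¹ * k * σ) * k * σ := by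
          rw [c12.eq, mul_assoc (σ * k * σ⁻¹) k, c13.eq, ← mul_assoc]
      _ = (σ * k * σ⁻¹) * (σ⁻¹ * k * σ) * (σ * (σ⁻¹ * k * σ)) := by
          rw [e3, mul_assoc _ k σ]
      _ = (σ * k * σ⁻¹) * (σ * (σ * k * σ⁻¹)) * (σ⁻¹ * k * σ) := by
          rw [e2]; simp only [mul_assoc]
      _ = σ * (k * (σ * k * σ⁻¹) * (σ⁻¹ * k * σ)) := by
          rw [← mul_assoc (σ * k * σ⁻¹) σ, ← e1]; simp only [mul_assoc]
  · intro x hx
    have h1 : (σ⁻¹ * k * σ) x = x := by
      simp [Perm.mul_apply, hk _ (hS1 x hx)]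
    have h2 : (σ * k * σ⁻¹) x = x := by
      have h3 : σ⁻¹ x ∉ S := by rw [hinvx]; exact hS2 x hx
      show σ (k (σ⁻¹ x)) = x
      rw [hk _ h3]; simp
    rw [Perm.mul_apply, Perm.mul_apply, h1, h2]

/-- **Piece T.** `σ` is a fixed-point-free permutation of order 3 whose centralizer in `A_n` lies
in `M`; `C` is a `σ`-invariant set with at least 7 points all of whose 3-cycles are in `M`.
Then every point `v ∉ C` is moved into `C` by some 3-cycle of `M`.

Proof: pick `u, u', u'' ∈ C` in three different `σ`-cycles. Put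
`h = swap u v * swap u' u''`, `g = h * (σ h σ⁻¹) * (σ² h σ⁻²)`; the three factors have disjoint
supports so they commute, hence `g` commutes with `σ`; `sign g = (sign h)^3 = 1`; `g u = v`,
`g u' = u''`. Let `c` be the 3-cycle `(u u' σu)` (supported in `C`, so in `M`). Then
`t = g c g⁻¹ ∈ M` is a 3-cycle and `t v = g (c u) = g u' = u'' ∈ C`.

(Implemented with the slightly cheaper choice `k = (u v w)`, `u, w ∈ C` in two different
`σ`-cycles, `g = k * (σ k σ⁻¹) * (σ⁻¹ k σ)`, `c = (u w σu)`: `t v = g (c u) = g w = u`.) -/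
theorem swap_lemma (σ : Perm α) (hσ3 : σ ^ 3 = 1) (hfpf : ∀ x, σ x ≠ x)
    (M : Subgroup (alternatingGroup α))
    (hcent : ∀ g : alternatingGroup α, (g : Perm α) * σ = σ * (g : Perm α) → g ∈ M)
    (C : Set α) (hCσ : ∀ x ∈ C, σ x ∈ C) (hCfull : Full M C) (hC7 : 7 ≤ C.ncard)
    (v : α) (hv : v ∉ C) :
    ∃ t : alternatingGroup α, t ∈ M ∧ (t : Perm α).IsThreeCycle ∧ (t : Perm α) v ∈ C := by
  classical
  have h3 : ∀ x, σ (σ (σ x)) = x := h21_cube_apply σ hσ3
  have hfpf2 : ∀ x, σ (σ x) ≠ x := fun x h => by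
    have := h3 x
    rw [h] at this
    exact hfpf x this
  have hv1 : σ v ∉ C := fun h => hv (by have := hCσ _ (hCσ _ h); rwa [h3] at this)
  have hv2 : σ (σ v) ∉ C := fun h => hv (by have := hCσ _ h; rwa [h3] at this)
  have hCne : C.Nonempty := by
    rw [← Set.ncard_pos]; omega
  obtain ⟨u, hu⟩ := hCne
  obtain ⟨w, hwC, hw⟩ : ∃ w ∈ C, w ∉ ({u, σ u, σ (σ u)} : Set α) := by
    refine Set.exists_mem_notMem_of_ncard_lt_ncard ?_ (Set.toFinite _)
    calc ({u, σ u, σ (σ u)} : Set α).ncard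
        ≤ ({σ u, σ (σ u)} : Set α).ncard + 1 := Set.ncard_insert_le _ _
      _ ≤ (({σ (σ u)} : Set α).ncard + 1) + 1 :=
          Nat.add_le_add_right (Set.ncard_insert_le _ _) 1
      _ = 3 := by rw [Set.ncard_singleton]
      _ < C.ncard := by omega
  simp only [Set.mem_insert_iff, Set.mem_singleton_iff, not_or] at hw
  have hwu : w ≠ u := hw.1
  have hwu1 : w ≠ σ u := hw.2.1
  have hwu2 : w ≠ σ (σ u) := hw.2.2
  have huC1 : σ u ∈ C := hCσ _ hu
  have huC2 : σ (σ u) ∈ C := hCσ _ huC1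
  have hwC1 : σ w ∈ C := hCσ _ hwC
  have hwC2 : σ (σ w) ∈ C := hCσ _ hwC1
  have huv : u ≠ v := fun h => hv (h ▸ hu)
  have hwv : w ≠ v := fun h => hv (h ▸ hwC)
  -- the set S and the 3-cycle k
  set S : Set α := {u, v, w} with hS
  set k : Perm α := swap v u * swap v w with hkdef
  have hku : k u = v := by
    simp [hkdef, Perm.mul_apply, swap_apply_of_ne_of_ne huv hwu.symm]
  have hkw : k w = u := by
    simp [hkdef, Perm.mul_apply]
  have hk : ∀ x, x ∉ S → k x = x := by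
    intro x hx
    simp only [hS, Set.mem_insert_iff, Set.mem_singleton_iff, not_or] at hx
    obtain ⟨hxu, hxv, hxw⟩ := hx
    simp [hkdef, Perm.mul_apply, swap_apply_of_ne_of_ne hxv hxw, swap_apply_of_ne_of_ne hxv hxu]
  have hk3 : k.IsThreeCycle := isThreeCycle_swap_mul_swap_same huv.symm hwv.symm hwu.symm
  have ne_of_mem_of_not : ∀ {a b : α}, a ∈ C → b ∉ C → a ≠ b := fun ha hb h => hb (h ▸ ha)
  have hS1 : ∀ x ∈ S, σ x ∉ S := by
    intro x hx
    simp only [hS, Set.mem_insert_iff, Set.mem_singleton_iff] at hx ⊢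
    rcases hx with rfl | rfl | rfl
    · -- x = u
      refine not_or.mpr ⟨hfpf _, not_or.mpr ⟨ne_of_mem_of_not huC1 hv, fun h => hwu1 h.symm⟩⟩
    · -- x = v
      refine not_or.mpr ⟨fun h => hv1 (h ▸ hu), not_or.mpr ⟨hfpf _, fun h => hv1 (h ▸ hwC)⟩⟩
    · -- x = w
      refine not_or.mpr ⟨?_, not_or.mpr ⟨ne_of_mem_of_not hwC1 hv, hfpf _⟩⟩
      intro h
      apply hwu2
      rw [← h, h3]
  have hS2 : ∀ x ∈ S, σ (σ x) ∉ S := by
    intro x hx
    simp only [hS, Set.mem_insert_iff, Set.mem_singleton_iff] at hx ⊢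
    rcases hx with rfl | rfl | rfl
    · refine not_or.mpr ⟨hfpf2 _, not_or.mpr ⟨ne_of_mem_of_not huC2 hv, fun h => hwu2 h.symm⟩⟩
    · refine not_or.mpr ⟨fun h => hv2 (h ▸ hu), not_or.mpr ⟨hfpf2 _, fun h => hv2 (h ▸ hwC)⟩⟩
    · refine not_or.mpr ⟨?_, not_or.mpr ⟨ne_of_mem_of_not hwC2 hv, hfpf2 _⟩⟩
      intro h
      apply hwu1
      rw [← h, h3]
  obtain ⟨hcomm, hgS⟩ := h21_key σ k hσ3 S hk hS1 hS2
  set g : Perm α := k * (σ * k * σ⁻¹) * (σ⁻¹ * k * σ) with hg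
  have hgsign : Perm.sign g = 1 := by
    simp [hg, hk3.sign]
  have hgu : g u = v := by
    rw [hgS u (by simp [hS]), hku]
  have hgw : g w = u := by
    rw [hgS w (by simp [hS]), hkw]
  let gA : alternatingGroup α := ⟨g, by rw [Equiv.Perm.mem_alternatingGroup]; exact hgsign⟩
  have hgM : gA ∈ M := hcent gA hcomm
  -- the 3-cycle c = (u w σu)
  set c : Perm α := swap w u * swap w (σ u) with hcdef
  have hc3 : c.IsThreeCycle := isThreeCycle_swap_mul_swap_same hwu hwu1 (hfpf u).symm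
  have hcu : c u = w := by
    simp [hcdef, Perm.mul_apply, swap_apply_of_ne_of_ne hwu.symm (hfpf u).symm]
  let cA : alternatingGroup α := ⟨c, hc3.mem_alternatingGroup⟩
  have hcM : cA ∈ M := by
    apply hCfull cA hc3
    intro x hx
    by_contra hxC
    apply hx
    have hxu : x ≠ u := fun h => hxC (h ▸ hu)
    have hxw : x ≠ w := fun h => hxC (h ▸ hwC)
    have hxu1 : x ≠ σ u := fun h => hxC (h ▸ huC1)
    show c x = x
    simp [hcdef, Perm.mul_apply, swap_apply_of_ne_of_ne hxw hxu1, swap_apply_of_ne_of_ne hxw hxu]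
  refine ⟨gA * cA * gA⁻¹, M.mul_mem (M.mul_mem hgM hcM) (M.inv_mem hgM), ?_, ?_⟩
  · show (g * c * g⁻¹).IsThreeCycle
    unfold Equiv.Perm.IsThreeCycle
    rw [Equiv.Perm.cycleType_conj]
    exact hc3
  · show (g * c * g⁻¹) v ∈ C
    have hginv : g⁻¹ v = u := by
      rw [Perm.inv_eq_iff_eq, hgu]
    rw [Perm.mul_apply, Perm.mul_apply, hginv, hcu, hgw]
    exact hu

end Cfsg.Agent.Lib.Helper59.PMinAlt
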