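import Cfsg.Agent.Lib.Helper59.PMinAltY0

/-! # S2930 piece Y: a normal subgroup of index p containing a central element, and its orbits -/

set_option autoImplicit false

namespace Cfsg.Agent.Lib.Helper59.PMinAlt

open Subgroup MulAction

/-- the elements of `P` moving `x₀` inside the `⟨z⟩`-orbit of `x₀`, for `z` central in `P` -/
def zOrbitStab {G α : Type*} [Group G] [MulAction G α] (P : Subgroup G) (x₀ : α) (z : G)
    (hzc : ∀ g ∈ P, z * g = g * z) : Subgroup ↥P where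
  carrier := {g | ∃ w ∈ zpowers z, (g : G) • x₀ = w • x₀}
  one_mem' := ⟨1, one_mem _, by simp⟩
  mul_mem' := by
    rintro a b ⟨w, hw, ha⟩ ⟨w', hw', hb⟩
    have hcomm : w' * (a : G) = (a : G) * w' := by
      obtain ⟨k, rfl⟩ := mem_zpowers_iff.mp hw'
      exact ((Commute.zpow_left (hzc a a.2) k)).eq
    refine ⟨w' * w, mul_mem hw' hw, ?_⟩
    rw [Subgroup.coe_mul, mul_smul, hb, ← mul_smul, ← hcomm, mul_smul, ha, mul_smul]
  inv_mem' := by
    rintro a ⟨w, hw, ha⟩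
    have hcomm : w⁻¹ * (a : G)⁻¹ = (a : G)⁻¹ * w⁻¹ := by
      obtain ⟨k, rfl⟩ := mem_zpowers_iff.mp hw
      have h1 : Commute (z ^ k) (a : G) := Commute.zpow_left (hzc a a.2) k
      exact (h1.inv_inv).eq
    refine ⟨w⁻¹, inv_mem hw, ?_⟩
    rw [Subgroup.coe_inv]
    have : x₀ = w⁻¹ • (a : G) • x₀ := by rw [ha, inv_smul_smul]
    conv_lhs => rw [this]
    rw [← mul_smul, ← mul_smul, ← hcomm, mul_assoc, inv_mul_cancel, mul_one]

/-- **Piece Y.** `P` a finite `p`-subgroup of `G` acting on `α`, `z ∈ Z(P)`, and some point of the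
orbit `P x₀` is not of the form `z^i x₀`. Then there is `Y ≤ P`, normalized by `P`, containing `z`,
all of whose orbits on `P x₀` have exactly `|P x₀| / p` points.

Proof: `W = {g ∈ P | ∃ i, g x₀ = z^i x₀}` is a proper subgroup of `P` containing `z` and the
stabilizer of `x₀`; take `Y ⊇ W` normal of index `p` in `P` (`exists_normal_index_p` inside `↥P`).
`Y`-orbit of `g x₀` is `g` (`Y`-orbit of `x₀`) by normality, and
`|Y x₀| = |Y : Y_{x₀}| = |Y : P_{x₀}| = |P : P_{x₀}| / p`. -/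
theorem exists_normal_with_orbits {G α : Type*} [Group G] [MulAction G α] (p : ℕ) [Fact p.Prime]
    (P : Subgroup G) [Finite P] (hP : IsPGroup p P) (x₀ : α) (z : G) (hz : z ∈ P)
    (hzc : ∀ g ∈ P, z * g = g * z) (hbig : ∃ g ∈ P, ∀ i : ℕ, g • x₀ ≠ z ^ i • x₀) :
    ∃ Y : Subgroup G, Y ≤ P ∧ z ∈ Y ∧ (∀ g ∈ P, ∀ y ∈ Y, g * y * g⁻¹ ∈ Y) ∧
      (∀ g ∈ P, {x | ∃ y ∈ Y, y • g • x₀ = x}.ncard * p = {x | ∃ h ∈ P, h • x₀ = x}.ncard) := by
  set W : Subgroup ↥P := zOrbitStab P x₀ z hzc with hW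
  -- `W` is proper
  have hWtop : W ≠ ⊤ := by
    obtain ⟨g, hg, hne⟩ := hbig
    intro htop
    have hmem : (⟨g, hg⟩ : ↥P) ∈ W := by rw [htop]; exact mem_top _
    obtain ⟨w, hw, hgw⟩ := hmem
    have hfin : IsOfFinOrder z := by
      have : IsOfFinOrder (⟨z, hz⟩ : ↥P) := isOfFinOrder_of_finite _
      exact (Submonoid.isOfFinOrder_coe (H := P.toSubmonoid) (x := ⟨z, hz⟩)).mpr this
    rw [← hfin.mem_powers_iff_mem_zpowers, Submonoid.mem_powers_iff] at hw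
    obtain ⟨i, rfl⟩ := hw
    exact hne i hgw
  obtain ⟨Y', hWY, hYn, hYi⟩ := exists_normal_index_p p hP W hWtop
  haveI := hYn
  refine ⟨Y'.map P.subtype, map_subtype_le _, ?_, ?_, ?_⟩
  · refine ⟨⟨z, hz⟩, hWY ?_, rfl⟩
    exact ⟨z, mem_zpowers z, rfl⟩
  · rintro g hg y ⟨y', hy', rfl⟩
    refine ⟨⟨g, hg⟩ * y' * ⟨g, hg⟩⁻¹, hYn.conj_mem y' hy' ⟨g, hg⟩, ?_⟩
    simp
  · intro g hg
    set a : α := g • x₀ with ha
    -- the two sets as orbits
    have e1 : {x | ∃ y ∈ Y'.map P.subtype, y • g • x₀ = x} = orbit ↥Y' a := by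
      ext x
      constructor
      · rintro ⟨y, ⟨y', hy', rfl⟩, rfl⟩
        exact ⟨⟨y', hy'⟩, rfl⟩
      · rintro ⟨y'', rfl⟩
        exact ⟨((y'' : ↥P) : G), ⟨(y'' : ↥P), y''.2, rfl⟩, rfl⟩
    have e2 : {x | ∃ h ∈ P, h • x₀ = x} = orbit ↥P x₀ := by
      ext x
      constructor
      · rintro ⟨h, hh, rfl⟩
        exact ⟨⟨h, hh⟩, rfl⟩
      · rintro ⟨h, rfl⟩
        exact ⟨(h : G), h.2, rfl⟩
    rw [e1, e2]
    -- orbit-stabilizer
    set Sg : Subgroup ↥P := stabilizer ↥P a with hSg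
    have hSgY : Sg ≤ Y' := by
      -- `Sg` is a conjugate of the stabilizer of `x₀`, which lies in `W ≤ Y'`
      intro s hs
      have hs' : (s : G) • g • x₀ = g • x₀ := hs
      have h1 : (⟨g, hg⟩ : ↥P)⁻¹ * s * ⟨g, hg⟩ ∈ W := by
        refine ⟨1, one_mem _, ?_⟩
        simp only [Subgroup.coe_mul, Subgroup.coe_inv, one_smul, mul_smul]
        rw [hs', inv_smul_smul]
      have h2 := hYn.conj_mem _ (hWY h1) ⟨g, hg⟩
      have e : (⟨g, hg⟩ : ↥P) * ((⟨g, hg⟩ : ↥P)⁻¹ * s * ⟨g, hg⟩) * (⟨g, hg⟩ : ↥P)⁻¹ = s := by group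
      rwa [e] at h2
    have hstab : stabilizer ↥Y' a = Sg.subgroupOf Y' := by
      ext y
      simp only [mem_stabilizer_iff, mem_subgroupOf, hSg]
      rfl
    have h1 : (orbit ↥Y' a).ncard = (Sg.subgroupOf Y').index := by
      rw [← hstab, index_stabilizer]
    have h2 : (orbit ↥P a).ncard = Sg.index := by
      rw [hSg, index_stabilizer]
    have h3 : orbit ↥P a = orbit ↥P x₀ := by
      have : a = (⟨g, hg⟩ : ↥P) • x₀ := rfl
      rw [this, orbit_smul]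
    rw [h1, ← h3, h2, ← hYi]
    exact Subgroup.relIndex_mul_index hSgY

end Cfsg.Agent.Lib.Helper59.PMinAlt
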