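import Mathlib

/-! # S2930 piece Z: a "central" element of a p-group acting on an orbit -/

set_option autoImplicit false

namespace Cfsg.Agent.Lib.Helper59.PMinAlt

open Subgroup MulAction

/-- the kernel of the action of `P` on the orbit `P x₀`, as a subgroup of `↥P` -/
def orbitKer {G α : Type*} [Group G] [MulAction G α] (P : Subgroup G) (x₀ : α) : Subgroup ↥P where
  carrier := {n | ∀ g : ↥P, (n : G) • (g : G) • x₀ = (g : G) • x₀}
  one_mem' := by intro g; simp
  mul_mem' := by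
    intro a b ha hb g
    rw [Subgroup.coe_mul, mul_smul, hb g, ha g]
  inv_mem' := by
    intro a ha g
    rw [Subgroup.coe_inv, inv_smul_eq_iff, ha g]

theorem mem_orbitKer {G α : Type*} [Group G] [MulAction G α] (P : Subgroup G) (x₀ : α) (n : ↥P) :
    n ∈ orbitKer P x₀ ↔ ∀ g : ↥P, (n : G) • (g : G) • x₀ = (g : G) • x₀ := Iff.rfl

instance orbitKer_normal {G α : Type*} [Group G] [MulAction G α] (P : Subgroup G) (x₀ : α) :
    (orbitKer P x₀).Normal := by
  constructor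
  intro n hn k g
  have h := hn (k⁻¹ * g)
  rw [Subgroup.coe_mul, Subgroup.coe_mul, Subgroup.coe_inv, mul_smul, mul_smul]
  rw [Subgroup.coe_mul, Subgroup.coe_inv, mul_smul] at h
  rw [h, smul_inv_smul]

/-- **Piece Z.** A finite `p`-subgroup `P` of `G` acting on `α`, moving the point `x₀`.  There is
`y ∈ P` which acts on the orbit `P x₀` without fixed points, with `y ^ p` acting trivially on it,
and commuting (on the orbit) with the action of every element of `P`.

Proof: `N` = kernel of `P` on the orbit (normal in `P`, proper). `P ⧸ N` is a nontrivial `p`-group,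
so its centre is nontrivial (`IsPGroup.center_nontrivial`) and contains an element of order `p`
(Cauchy); lift it to `y`. Then `y ∉ N`, `y^p ∈ N`, `y⁻¹ g⁻¹ y g ∈ N` for `g ∈ P`. The third claim
follows; for the first, if `y` fixed `g x₀` it would fix every `h g x₀`, so `y ∈ N`. -/
theorem exists_central_on_orbit {G α : Type*} [Group G] [MulAction G α] (p : ℕ) [Fact p.Prime]
    (P : Subgroup G) [Finite P] (hP : IsPGroup p P) (x₀ : α) (hmove : ∃ g ∈ P, g • x₀ ≠ x₀) :
    ∃ y ∈ P, (∀ g ∈ P, y • g • x₀ ≠ g • x₀) ∧ (∀ g ∈ P, y ^ p • g • x₀ = g • x₀) ∧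
      (∀ g ∈ P, ∀ h ∈ P, y • g • h • x₀ = g • y • h • x₀) := by
  have hp : p.Prime := Fact.out
  set N : Subgroup ↥P := orbitKer P x₀ with hN
  obtain ⟨g0, hg0P, hg0⟩ := hmove
  have hg0N : (⟨g0, hg0P⟩ : ↥P) ∉ N := by
    intro h
    have := h 1
    simp only [Subgroup.coe_one, one_smul] at this
    exact hg0 this
  have hQ : IsPGroup p (↥P ⧸ N) := hP.to_quotient N
  haveI : Nontrivial (↥P ⧸ N) :=
    ⟨⟨QuotientGroup.mk ⟨g0, hg0P⟩, 1, fun h => hg0N ((QuotientGroup.eq_one_iff _).mp h)⟩⟩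
  haveI : Nontrivial (Subgroup.center (↥P ⧸ N)) := hQ.center_nontrivial
  have hZ : IsPGroup p (Subgroup.center (↥P ⧸ N)) := hQ.to_subgroup _
  obtain ⟨n, hn0, hn⟩ := (hZ.nontrivial_iff_card).mp inferInstance
  have hdvd : p ∣ Nat.card (Subgroup.center (↥P ⧸ N)) := by
    rw [hn]; exact dvd_pow_self p hn0.ne'
  obtain ⟨c, hc⟩ := exists_prime_orderOf_dvd_card' p hdvd
  obtain ⟨y', hy'⟩ := QuotientGroup.mk_surjective (c : ↥P ⧸ N)
  have hc1 : (c : ↥P ⧸ N) ≠ 1 := by
    intro h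
    have : c = 1 := Subtype.ext h
    rw [this, orderOf_one] at hc
    exact hp.one_lt.ne hc
  have hcp : (c : ↥P ⧸ N) ^ p = 1 := by
    have : c ^ p = 1 := by rw [← hc]; exact pow_orderOf_eq_one c
    have h2 := congrArg (fun z : Subgroup.center (↥P ⧸ N) => (z : ↥P ⧸ N)) this
    simpa using h2
  have hy'N : y' ∉ N := fun h => hc1 (by rw [← hy']; exact (QuotientGroup.eq_one_iff _).mpr h)
  have hy'p : y' ^ p ∈ N := by
    rw [← QuotientGroup.eq_one_iff, QuotientGroup.mk_pow, hy']; exact hcp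
  have hcomm : ∀ g' : ↥P, y'⁻¹ * g'⁻¹ * y' * g' ∈ N := by
    intro g'
    rw [← QuotientGroup.eq_one_iff]
    have hcen := Subgroup.mem_center_iff.mp c.2 (QuotientGroup.mk g')
    simp only [QuotientGroup.mk_mul, QuotientGroup.mk_inv, hy']
    generalize (c : ↥P ⧸ N) = cq at hcen ⊢
    generalize (QuotientGroup.mk g' : ↥P ⧸ N) = gq at hcen ⊢
    calc cq⁻¹ * gq⁻¹ * cq * gq = cq⁻¹ * gq⁻¹ * (cq * gq) := by group
      _ = cq⁻¹ * gq⁻¹ * (gq * cq) := by rw [hcen]
      _ = 1 := by group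
  -- the three claims
  have h3 : ∀ g ∈ P, ∀ h ∈ P, (y' : G) • g • h • x₀ = g • (y' : G) • h • x₀ := by
    intro g hg h hh
    have hn := hcomm ⟨g, hg⟩ ⟨h, hh⟩
    simp only [Subgroup.coe_mul, Subgroup.coe_inv] at hn
    -- `y g = g y (y⁻¹ g⁻¹ y g)`
    have e : (y' : G) * g = g * (y' : G) * ((y' : G)⁻¹ * g⁻¹ * (y' : G) * g) := by group
    calc (y' : G) • g • h • x₀ = ((y' : G) * g) • h • x₀ := by rw [mul_smul]
      _ = (g * (y' : G) * ((y' : G)⁻¹ * g⁻¹ * (y' : G) * g)) • h • x₀ := by rw [← e]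
      _ = g • (y' : G) • ((y' : G)⁻¹ * g⁻¹ * (y' : G) * g) • h • x₀ := by
          rw [mul_smul, mul_smul]
      _ = g • (y' : G) • h • x₀ := by rw [hn]
  refine ⟨(y' : G), y'.2, ?_, ?_, h3⟩
  · intro g hg hfix
    apply hy'N
    intro h
    -- `h x₀ = (h g⁻¹) g x₀`
    have e : (h : G) • x₀ = ((h : G) * g⁻¹) • g • x₀ := by
      rw [mul_smul, inv_smul_smul]
    rw [e, h3 _ (P.mul_mem h.2 (P.inv_mem hg)) g hg, hfix]
  · intro g hg
    have := hy'p ⟨g, hg⟩
    simpa using this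

end Cfsg.Agent.Lib.Helper59.PMinAlt
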