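import Cfsg.Agent.Lib.Helper59.PMinAltOver
import Cfsg.Agent.Lib.Helper59.PMinAltSwap
import Cfsg.Agent.Lib.Helper59.PMinAltZ
import Cfsg.Agent.Lib.Helper59.PMinAltY

/-! # S2930 part 2: the orbit case analysis in `A_n` -/

set_option autoImplicit false

namespace Cfsg.Agent.Lib.Helper59.PMinAlt

open Equiv Equiv.Perm Subgroup MulAction
open Cfsg.Agent.Lib.Helper35

variable {α : Type*} [Fintype α] [DecidableEq α]

/-- The orbit of `x` under `P ≤ A_n`. -/
def orb (P : Subgroup (alternatingGroup α)) (x : α) : Set α :=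
  {y | ∃ p ∈ P, ((p : alternatingGroup α) : Perm α) x = y}

lemma mem_orb_self (P : Subgroup (alternatingGroup α)) (x : α) : x ∈ orb P x :=
  ⟨1, Subgroup.one_mem _, rfl⟩

lemma orb_invariant (P : Subgroup (alternatingGroup α)) (x : α) :
    ∀ p ∈ P, ∀ y ∈ orb P x, ((p : alternatingGroup α) : Perm α) y ∈ orb P x := by
  rintro p hp _ ⟨q, hq, rfl⟩
  exact ⟨p * q, Subgroup.mul_mem _ hp hq, rfl⟩

lemma orb_symm {P : Subgroup (alternatingGroup α)} {x y : α} (h : y ∈ orb P x) : x ∈ orb P y := by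
  obtain ⟨p, hp, rfl⟩ := h
  exact ⟨p⁻¹, Subgroup.inv_mem _ hp, by simp⟩

lemma orb_trans {P : Subgroup (alternatingGroup α)} {x y z : α} (h1 : y ∈ orb P x)
    (h2 : z ∈ orb P y) : z ∈ orb P x := by
  obtain ⟨p, hp, rfl⟩ := h1
  obtain ⟨q, hq, rfl⟩ := h2
  exact ⟨q * p, Subgroup.mul_mem _ hq hp, rfl⟩

lemma orb_disjoint {P : Subgroup (alternatingGroup α)} {x y : α} (h : y ∉ orb P x) :
    Disjoint (orb P x) (orb P y) := by
  rw [Set.disjoint_left]
  intro a hax hay
  exact h (orb_trans hax (orb_symm hay))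

lemma orb_eq_orbit (P : Subgroup (alternatingGroup α)) (x : α) :
    orb P x = MulAction.orbit P x := by
  ext y
  constructor
  · rintro ⟨p, hp, rfl⟩
    exact ⟨⟨p, hp⟩, rfl⟩
  · rintro ⟨p, rfl⟩
    exact ⟨p.1, p.2, rfl⟩

lemma orb_ncard_pow {P : Subgroup (alternatingGroup α)} (hP : IsPGroup 3 P) (x : α) :
    ∃ k : ℕ, (orb P x).ncard = 3 ^ k := by
  have : Fact (Nat.Prime 3) := ⟨Nat.prime_three⟩
  obtain ⟨k, hk⟩ := hP.card_orbit x
  refine ⟨k, ?_⟩
  rw [orb_eq_orbit, ← hk, Nat.card_coe_set_eq]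

section main

variable (P M : Subgroup (alternatingGroup α)) (hP3 : IsPGroup 3 P) (hMtop : M ≠ ⊤)
  (hM : ∀ H : Subgroup (alternatingGroup α), P ≤ H → H ≠ ⊤ → H ≤ M)

include hMtop in
/-- Two overlapping full sets with at least 3 points each cannot cover everything. -/
lemma two_full_false (h2 : 2 ≤ Fintype.card α) (Δ Δ' : Set α) (hΔ : Full M Δ) (hΔ' : Full M Δ')
    (h3 : 3 ≤ Δ.ncard) (h3' : 3 ≤ Δ'.ncard) (c : α) (hc : c ∈ Δ) (hc' : c ∈ Δ')
    (hcover : ∀ a, a ∈ Δ ∨ a ∈ Δ') : False := by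
  apply not_all_conn hMtop h2
  have hkey : ∀ a, Conn M a c := by
    intro a
    rcases hcover a with ha | ha
    · exact conn_of_full hΔ h3 ha hc
    · exact conn_of_full hΔ' h3' ha hc'
  intro a b
  exact conn_trans (hkey a) (conn_symm (hkey b))

include hMtop hM in
/-- **Case of at least three orbits.** -/
lemma three_orbits_false (h5 : 5 ≤ Fintype.card α) (x₀ x₁ x₂ : α) (h01 : x₁ ∉ orb P x₀)
    (h02 : x₂ ∉ orb P x₀) (h12 : x₂ ∉ orb P x₁) : False := by
  have h10 : x₀ ∉ orb P x₁ := fun h => h01 (orb_symm h)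
  have h20 : x₀ ∉ orb P x₂ := fun h => h02 (orb_symm h)
  have h21 : x₁ ∉ orb P x₂ := fun h => h12 (orb_symm h)
  -- complements of orbits are full
  have hfull : ∀ x y : α, y ∉ orb P x → Full M (orb P x)ᶜ := by
    intro x y hy
    apply full_of_invariant P M hM (by omega)
    · intro p hp a ha hpa
      apply ha
      have := orb_invariant P x p⁻¹ (Subgroup.inv_mem _ hp) _ hpa
      simpa using this
    · exact ⟨y, hy⟩
    · rw [compl_compl]; exact ⟨x, mem_orb_self P x⟩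
  -- cardinalities
  have hcard : ∀ x : α, (orb P x).ncard + (orb P x)ᶜ.ncard = Fintype.card α := by
    intro x
    rw [Set.ncard_add_ncard_compl, Nat.card_eq_fintype_card]
  have hpos : ∀ x : α, 1 ≤ (orb P x).ncard := by
    intro x
    rw [Nat.one_le_iff_ne_zero, Ne, Set.ncard_eq_zero]
    exact Set.Nonempty.ne_empty ⟨x, mem_orb_self P x⟩
  have hsum : (orb P x₀).ncard + (orb P x₁).ncard + (orb P x₂).ncard ≤ Fintype.card α := by
    have hd1 : Disjoint (orb P x₀) (orb P x₁) := orb_disjoint h01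
    have hd2 : Disjoint (orb P x₀ ∪ orb P x₁) (orb P x₂) := by
      rw [Set.disjoint_union_left]
      exact ⟨orb_disjoint h02, orb_disjoint h12⟩
    rw [← Set.ncard_union_eq hd1, ← Set.ncard_union_eq hd2, ← Nat.card_eq_fintype_card]
    exact Set.ncard_le_card _
  have h0 := hcard x₀
  have h1 := hcard x₁
  have h2 := hcard x₂
  have p0 := hpos x₀
  have p1 := hpos x₁
  have p2 := hpos x₂
  have hcov : ∀ x y : α, y ∉ orb P x → ∀ a, a ∈ (orb P x)ᶜ ∨ a ∈ (orb P y)ᶜ := by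
    intro x y hy a
    by_cases ha : a ∈ orb P x
    · right
      intro hay
      exact hy (orb_trans ha (orb_symm hay))
    · left; exact ha
  by_cases c0 : 3 ≤ (orb P x₀)ᶜ.ncard
  · by_cases c1 : 3 ≤ (orb P x₁)ᶜ.ncard
    · exact two_full_false M hMtop (by omega) _ _ (hfull x₀ x₁ h01) (hfull x₁ x₀ h10) c0 c1 x₂
        h02 h12 (hcov x₀ x₁ h01)
    · have c2 : 3 ≤ (orb P x₂)ᶜ.ncard := by omega
      exact two_full_false M hMtop (by omega) _ _ (hfull x₀ x₁ h01) (hfull x₂ x₀ h20) c0 c2 x₁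
        h01 h21 (hcov x₀ x₂ h02)
  · have c1 : 3 ≤ (orb P x₁)ᶜ.ncard := by omega
    have c2 : 3 ≤ (orb P x₂)ᶜ.ncard := by omega
    exact two_full_false M hMtop (by omega) _ _ (hfull x₁ x₀ h10) (hfull x₂ x₀ h20) c1 c2 x₀
      h10 h20 (hcov x₁ x₂ h12)

include hP3 hMtop hM in
/-- **Case of two orbits, of sizes at least 9 and at least 3.** -/
lemma two_orbits_false (h5 : 5 ≤ Fintype.card α) (x₀ x₁ : α) (h01 : x₁ ∉ orb P x₀)
    (hcover : ∀ a, a ∈ orb P x₀ ∨ a ∈ orb P x₁) (h9 : 9 ≤ (orb P x₀).ncard)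
    (h3 : 3 ≤ (orb P x₁).ncard) : False := by
  classical
  have : Fact (Nat.Prime 3) := ⟨Nat.prime_three⟩
  have h10 : x₀ ∉ orb P x₁ := fun h => h01 (orb_symm h)
  have hdisj : ∀ a, a ∈ orb P x₀ → a ∉ orb P x₁ := by
    intro a ha ha'
    exact h01 (orb_trans ha (orb_symm ha'))
  -- the orbits are full
  have hfull0 : Full M (orb P x₀) :=
    full_of_invariant P M hM (by omega) _ (orb_invariant P x₀) ⟨x₀, mem_orb_self P x₀⟩ ⟨x₁, h01⟩
  have hfull1 : Full M (orb P x₁) :=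
    full_of_invariant P M hM (by omega) _ (orb_invariant P x₁) ⟨x₁, mem_orb_self P x₁⟩ ⟨x₀, h10⟩
  -- the orbits are moved
  have hmove : ∀ x : α, 2 ≤ (orb P x).ncard → ∃ g ∈ P, g • x ≠ x := by
    intro x hx
    obtain ⟨c, hc, hcx, -⟩ := exists_third (orb P x) (by
      by_contra hlt
      push Not at hlt
      obtain ⟨k, hk⟩ := orb_ncard_pow hP3 x
      rw [hk] at hlt hx
      have : k = 0 := by
        by_contra hk0
        have : 3 ^ 1 ≤ 3 ^ k := Nat.pow_le_pow_right (by norm_num) (Nat.one_le_iff_ne_zero.mpr hk0)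
        omega
      rw [this] at hx
      norm_num at hx) x x
    obtain ⟨g, hg, rfl⟩ := hc
    exact ⟨g, hg, hcx⟩
  have : Finite P := inferInstance
  obtain ⟨y₀, hy₀P, hy₀fpf, hy₀3, hy₀c⟩ :=
    exists_central_on_orbit 3 P hP3 x₀ (hmove x₀ (by omega))
  obtain ⟨y₁, hy₁P, hy₁fpf, hy₁3, hy₁c⟩ :=
    exists_central_on_orbit 3 P hP3 x₁ (hmove x₁ (by omega))
  -- restate on the orbits
  have e0fpf : ∀ x ∈ orb P x₀, (y₀ : Perm α) x ≠ x := by
    rintro _ ⟨g, hg, rfl⟩; exact hy₀fpf g hg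
  have e1fpf : ∀ x ∈ orb P x₁, (y₁ : Perm α) x ≠ x := by
    rintro _ ⟨g, hg, rfl⟩; exact hy₁fpf g hg
  have e03 : ∀ x ∈ orb P x₀, (y₀ : Perm α) ((y₀ : Perm α) ((y₀ : Perm α) x)) = x := by
    rintro _ ⟨g, hg, rfl⟩
    have := hy₀3 g hg
    rw [pow_succ, pow_succ, pow_one, mul_smul, mul_smul] at this
    exact this
  have e13 : ∀ x ∈ orb P x₁, (y₁ : Perm α) ((y₁ : Perm α) ((y₁ : Perm α) x)) = x := by
    rintro _ ⟨g, hg, rfl⟩
    have := hy₁3 g hg
    rw [pow_succ, pow_succ, pow_one, mul_smul, mul_smul] at this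
    exact this
  have e0c : ∀ g ∈ P, ∀ x ∈ orb P x₀, (y₀ : Perm α) ((g : Perm α) x) = (g : Perm α) ((y₀ : Perm α) x) := by
    rintro g hg _ ⟨h, hh, rfl⟩; exact hy₀c g hg h hh
  have e1c : ∀ g ∈ P, ∀ x ∈ orb P x₁, (y₁ : Perm α) ((g : Perm α) x) = (g : Perm α) ((y₁ : Perm α) x) := by
    rintro g hg _ ⟨h, hh, rfl⟩; exact hy₁c g hg h hh
  have i0 : ∀ x ∈ orb P x₀, (y₀ : Perm α) x ∈ orb P x₀ := orb_invariant P x₀ y₀ hy₀P
  have i1 : ∀ x ∈ orb P x₁, (y₁ : Perm α) x ∈ orb P x₁ := orb_invariant P x₁ y₁ hy₁P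
  have n1 : ∀ x, x ∉ orb P x₀ → x ∈ orb P x₁ := fun x hx => (hcover x).resolve_left hx
  -- the permutation σ
  let f : α → α := fun x => if x ∈ orb P x₀ then (y₀ : Perm α) x else (y₁ : Perm α) x
  have hf0 : ∀ x ∈ orb P x₀, f x = (y₀ : Perm α) x := fun x hx => if_pos hx
  have hf1 : ∀ x, x ∉ orb P x₀ → f x = (y₁ : Perm α) x := fun x hx => if_neg hx
  have hfff : ∀ x, f (f (f x)) = x := by
    intro x
    by_cases hx : x ∈ orb P x₀
    · rw [hf0 x hx, hf0 _ (i0 x hx), hf0 _ (i0 _ (i0 x hx))]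
      exact e03 x hx
    · have hx1 := n1 x hx
      have a1 : (y₁ : Perm α) x ∉ orb P x₀ := fun h => hdisj _ h (i1 x hx1)
      have a2 : (y₁ : Perm α) ((y₁ : Perm α) x) ∉ orb P x₀ := fun h => hdisj _ h (i1 _ (i1 x hx1))
      rw [hf1 x hx, hf1 _ a1, hf1 _ a2]
      exact e13 x hx1
  let σ : Perm α := ⟨f, fun x => f (f x), hfff, hfff⟩
  have hσ : ∀ x, σ x = f x := fun _ => rfl
  have hσ3 : σ ^ 3 = 1 := by
    ext x
    rw [pow_succ, pow_succ, pow_one]
    simp only [Perm.coe_mul, Function.comp_apply, Perm.coe_one, id_eq, hσ]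
    exact hfff x
  have hσfpf : ∀ x, σ x ≠ x := by
    intro x
    rw [hσ]
    by_cases hx : x ∈ orb P x₀
    · rw [hf0 x hx]; exact e0fpf x hx
    · rw [hf1 x hx]; exact e1fpf x (n1 x hx)
  have hσP : ∀ p ∈ P, (p : Perm α) * σ = σ * (p : Perm α) := by
    intro p hp
    ext x
    simp only [Perm.coe_mul, Function.comp_apply, hσ]
    by_cases hx : x ∈ orb P x₀
    · rw [hf0 x hx, hf0 _ (orb_invariant P x₀ p hp x hx)]
      exact (e0c p hp x hx).symm
    · have hx1 := n1 x hx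
      have a1 : (p : Perm α) x ∉ orb P x₀ := fun h => hdisj _ h (orb_invariant P x₁ p hp x hx1)
      rw [hf1 x hx, hf1 _ a1]
      exact (e1c p hp x hx1).symm
  have hσ1 : σ ≠ 1 := by
    intro h
    apply hσfpf x₀
    rw [h]; rfl
  have hσinv : ∀ x ∈ orb P x₀, σ x ∈ orb P x₀ := by
    intro x hx
    rw [hσ, hf0 x hx]; exact i0 x hx
  obtain ⟨t, htM, ht3, htv⟩ := swap_lemma σ hσ3 hσfpf M
    (fun g hg => centralizer_le P M hM (by omega) σ hσ1 hσP g hg) (orb P x₀) hσinv hfull0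
    (by omega) x₁ h01
  -- everything is connected to `t x₁`
  apply not_all_conn hMtop (by omega : 2 ≤ Fintype.card α)
  have hkey : ∀ a, Conn M a ((t : Perm α) x₁) := by
    intro a
    by_cases ha : a ∈ orb P x₀
    · exact conn_of_full hfull0 (by omega) ha htv
    · exact conn_trans (conn_of_full hfull1 h3 (n1 a ha) (mem_orb_self P x₁))
        (conn_of_mem htM ht3 x₁)
  intro a b
  exact conn_trans (hkey a) (conn_symm (hkey b))

include hP3 hMtop hM in
/-- **Case of one orbit with at least 27 points.** -/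
lemma one_orbit_false (h27 : 27 ≤ Fintype.card α) (x₀ : α) (htrans : ∀ a, a ∈ orb P x₀) :
    False := by
  classical
  have : Fact (Nat.Prime 3) := ⟨Nat.prime_three⟩
  have : Finite P := inferInstance
  have hmove : ∃ g ∈ P, g • x₀ ≠ x₀ := by
    obtain ⟨a, ha, -, -⟩ := exists_fourth (by omega : 4 ≤ Fintype.card α) x₀ x₀ x₀
    obtain ⟨g, hg, rfl⟩ := htrans a
    exact ⟨g, hg, ha⟩
  obtain ⟨z, hzP, hzfpf', hz3', hzc'⟩ := exists_central_on_orbit 3 P hP3 x₀ hmove
  have hzfpf : ∀ x, (z : Perm α) x ≠ x := by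
    intro x
    obtain ⟨g, hg, rfl⟩ := htrans x
    exact hzfpf' g hg
  have hz3 : ∀ x, (z : Perm α) ((z : Perm α) ((z : Perm α) x)) = x := by
    intro x
    obtain ⟨g, hg, rfl⟩ := htrans x
    have := hz3' g hg
    rw [pow_succ, pow_succ, pow_one, mul_smul, mul_smul] at this
    exact this
  have hzc : ∀ g ∈ P, ∀ x, (z : Perm α) ((g : Perm α) x) = (g : Perm α) ((z : Perm α) x) := by
    intro g hg x
    obtain ⟨h, hh, rfl⟩ := htrans x
    exact hzc' g hg h hh
  have hzcomm : ∀ g ∈ P, z * g = g * z := by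
    intro g hg
    apply Subtype.ext
    ext x
    simp only [Subgroup.coe_mul, Perm.coe_mul, Function.comp_apply]
    exact hzc g hg x
  -- a point outside the `z`-cycle of `x₀`
  have hpow : ∀ i : ℕ, z ^ i • x₀ = x₀ ∨ z ^ i • x₀ = (z : Perm α) x₀ ∨
      z ^ i • x₀ = (z : Perm α) ((z : Perm α) x₀) := by
    intro i
    induction i with
    | zero => left; simp
    | succ i ih =>
      have hstep : z ^ (i + 1) • x₀ = (z : Perm α) (z ^ i • x₀) := by
        rw [pow_succ', mul_smul]; rfl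
      rw [hstep]
      rcases ih with h | h | h
      · right; left; rw [h]
      · right; right; rw [h]
      · left; rw [h]; exact hz3 x₀
  have hbig : ∃ g ∈ P, ∀ i : ℕ, g • x₀ ≠ z ^ i • x₀ := by
    obtain ⟨a, ha1, ha2, ha3⟩ := exists_fourth (by omega : 4 ≤ Fintype.card α) x₀
      ((z : Perm α) x₀) ((z : Perm α) ((z : Perm α) x₀))
    obtain ⟨g, hg, rfl⟩ := htrans a
    refine ⟨g, hg, fun i => ?_⟩
    rcases hpow i with h | h | h <;> rw [h]
    · exact ha1
    · exact ha2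
    · exact ha3
  obtain ⟨Y, hYP, hzY, hYnorm, hYcard⟩ :=
    exists_normal_with_orbits 3 P hP3 x₀ z hzP hzcomm hbig
  have horb : {x | ∃ h ∈ P, h • x₀ = x} = (Set.univ : Set α) := by
    rw [Set.eq_univ_iff_forall]
    intro a
    exact htrans a
  rw [horb, Set.ncard_univ, Nat.card_eq_fintype_card] at hYcard
  -- the orbit relation of `Y`
  let r : Setoid α :=
    { r := fun x y => ∃ y' ∈ Y, ((y' : alternatingGroup α) : Perm α) x = y
      iseqv := by
        refine ⟨fun x => ⟨1, Subgroup.one_mem _, rfl⟩, ?_, ?_⟩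
        · rintro x y ⟨y', hy', rfl⟩
          exact ⟨y'⁻¹, Subgroup.inv_mem _ hy', by simp⟩
        · rintro x y w ⟨y', hy', rfl⟩ ⟨y'', hy'', rfl⟩
          exact ⟨y'' * y', Subgroup.mul_mem _ hy'' hy', rfl⟩ }
  have hr : ∀ x y, r x y ↔ ∃ y' ∈ Y, ((y' : alternatingGroup α) : Perm α) x = y := fun _ _ => Iff.rfl
  have hclass : ∀ x : α, {y | r x y}.ncard * 3 = Fintype.card α := by
    intro x
    obtain ⟨g, hg, rfl⟩ := htrans x
    exact hYcard g hg
  have hrP : ∀ p ∈ P, ∀ x y, r x y → r ((p : Perm α) x) ((p : Perm α) y) := by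
    rintro p hp x _ ⟨y', hy', rfl⟩
    refine ⟨p * y' * p⁻¹, hYnorm p hp y' hy', ?_⟩
    simp
  -- two related points, two unrelated points
  obtain ⟨c, hc, hcx, -⟩ := exists_third {y | r x₀ y} (by have := hclass x₀; omega) x₀ x₀
  obtain ⟨d, -, hd⟩ := Set.exists_mem_notMem_of_ncard_lt_ncard
    (s := {y | r x₀ y}) (t := (Set.univ : Set α))
    (by rw [Set.ncard_univ, Nat.card_eq_fintype_card]; have := hclass x₀; omega)
  have hfull : ∀ x : α, Full M {y | r x y} :=
    full_of_rel P M hM (by omega) r hrP x₀ c d (Ne.symm hcx) hc hd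
  have hσ3 : (z : Perm α) ^ 3 = 1 := by
    ext x
    rw [pow_succ, pow_succ, pow_one]
    simp only [Perm.coe_mul, Function.comp_apply, Perm.coe_one, id_eq]
    exact hz3 x
  have hσ1 : (z : Perm α) ≠ 1 := by
    intro h
    apply hzfpf x₀
    rw [h]; rfl
  have hσP : ∀ p ∈ P, (p : Perm α) * (z : Perm α) = (z : Perm α) * (p : Perm α) := by
    intro p hp
    ext x
    simp only [Perm.coe_mul, Function.comp_apply]
    exact (hzc p hp x).symm
  have hσinv : ∀ x ∈ {y | r x₀ y}, (z : Perm α) x ∈ {y | r x₀ y} := by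
    rintro _ ⟨y', hy', rfl⟩
    exact ⟨z * y', Subgroup.mul_mem _ hzY hy', rfl⟩
  apply not_all_conn hMtop (by omega : 2 ≤ Fintype.card α)
  have hkey : ∀ a, Conn M a x₀ := by
    intro a
    by_cases ha : a ∈ {y | r x₀ y}
    · exact conn_of_full (hfull x₀) (by have := hclass x₀; omega) ha (r.refl x₀)
    · obtain ⟨t, htM, ht3, htv⟩ := swap_lemma (z : Perm α) hσ3 hzfpf M
        (fun g hg => centralizer_le P M hM (by omega) _ hσ1 hσP g hg) {y | r x₀ y} hσinv
        (hfull x₀) (by have := hclass x₀; omega) a ha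
      exact conn_trans (conn_of_mem htM ht3 a)
        (conn_of_full (hfull x₀) (by have := hclass x₀; omega) htv (r.refl x₀))
  intro a b
  exact conn_trans (hkey a) (conn_symm (hkey b))

include hP3 hMtop hM in
lemma two_orbits_concl (h5 : 5 ≤ Fintype.card α) (x₀ x₁ : α) (h01 : x₁ ∉ orb P x₀)
    (hcover : ∀ a, a ∈ orb P x₀ ∨ a ∈ orb P x₁) (a b : ℕ) (ha : (orb P x₀).ncard = 3 ^ a)
    (hb : (orb P x₁).ncard = 3 ^ b) (hab : b ≤ a) :
    Fintype.card α = 6 ∨ Fintype.card α = 9 ∨ ∃ a : ℕ, 2 ≤ a ∧ Fintype.card α = 3 ^ a + 1 := by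
  have hsum : (orb P x₀).ncard + (orb P x₁).ncard = Fintype.card α := by
    rw [← Set.ncard_union_eq (orb_disjoint h01), ← Nat.card_eq_fintype_card, ← Set.ncard_univ]
    congr 1
    rw [Set.eq_univ_iff_forall]
    exact hcover
  rw [ha, hb] at hsum
  rcases Nat.eq_zero_or_pos b with hb0 | hb0
  · -- n = 3^a + 1
    right; right
    refine ⟨a, ?_, ?_⟩
    · by_contra hlt
      push Not at hlt
      rw [hb0] at hsum
      interval_cases a <;> omega
    · rw [hb0] at hsum; omega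
  · by_cases ha1 : a = 1
    · left
      have hb1 : b = 1 := by omega
      rw [ha1, hb1] at hsum
      omega
    · exfalso
      have ha2 : 2 ≤ a := by omega
      have h9 : 3 ^ 2 ≤ 3 ^ a := Nat.pow_le_pow_right (by norm_num) ha2
      have h3 : 3 ^ 1 ≤ 3 ^ b := Nat.pow_le_pow_right (by norm_num) hb0
      exact two_orbits_false P M hP3 hMtop hM h5 x₀ x₁ h01 hcover (by rw [ha]; omega)
        (by rw [hb]; omega)

include hP3 hMtop hM in
/-- **Part 2 of S2930.** If the 3-subgroup `P` of `A_n` (`n ≥ 5`) has the property that all its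
proper overgroups lie in one proper subgroup `M`, then `n = 6`, `n = 9` or `n = 3^a + 1`. -/
theorem main_P2 (h5 : 5 ≤ Fintype.card α) :
    Fintype.card α = 6 ∨ Fintype.card α = 9 ∨ ∃ a : ℕ, 2 ≤ a ∧ Fintype.card α = 3 ^ a + 1 := by
  classical
  have hne : Nonempty α := by
    rw [← Fintype.card_pos_iff]; omega
  obtain ⟨x₀⟩ := hne
  by_cases h1 : ∀ a, a ∈ orb P x₀
  · -- one orbit
    obtain ⟨k, hk⟩ := orb_ncard_pow hP3 x₀
    have huniv : orb P x₀ = Set.univ := by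
      rw [Set.eq_univ_iff_forall]; exact h1
    rw [huniv, Set.ncard_univ, Nat.card_eq_fintype_card] at hk
    by_cases h27 : 27 ≤ Fintype.card α
    · exact absurd (one_orbit_false P M hP3 hMtop hM h27 x₀ h1) id
    · right; left
      push Not at h27
      rw [hk] at h27 h5 ⊢
      have hk3 : k < 3 := by
        by_contra hge
        push Not at hge
        have : 3 ^ 3 ≤ 3 ^ k := Nat.pow_le_pow_right (by norm_num) hge
        omega
      interval_cases k <;> omega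
  · push Not at h1
    obtain ⟨x₁, h01⟩ := h1
    by_cases h2 : ∀ a, a ∈ orb P x₀ ∨ a ∈ orb P x₁
    · obtain ⟨a, ha⟩ := orb_ncard_pow hP3 x₀
      obtain ⟨b, hb⟩ := orb_ncard_pow hP3 x₁
      rcases le_total b a with hab | hab
      · exact two_orbits_concl P M hP3 hMtop hM h5 x₀ x₁ h01 h2 a b ha hb hab
      · exact two_orbits_concl P M hP3 hMtop hM h5 x₁ x₀ (fun h => h01 (orb_symm h))
          (fun c => (h2 c).symm) b a hb ha hab
    · push Not at h2
      obtain ⟨x₂, h02, h12⟩ := h2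
      exact absurd (three_orbits_false P M hMtop hM h5 x₀ x₁ x₂ h01 h02 h12) id

end main

end Cfsg.Agent.Lib.Helper59.PMinAlt
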