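import Mathlib
import Cfsg.Agent.Lib.Helper35.AltAutMain

/-!
# S2930 (3-minimal groups with F* alternating): basic definitions

`T3 M`: the 3-cycles of a subgroup `M ≤ A_n`; `Conn M a b`: `a` and `b` lie in the same orbit of
the subgroup generated by the 3-cycles of `M`; `Full M Δ`: every 3-cycle supported in `Δ` lies in
`M`.
-/

set_option autoImplicit false

namespace Cfsg.Agent.Lib.Helper59.PMinAlt

open Equiv Equiv.Perm Subgroup MulAction

variable {α : Type*} [Fintype α] [DecidableEq α]

/-- The 3-cycles of `M`. -/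
def T3 (M : Subgroup (alternatingGroup α)) : Set (alternatingGroup α) :=
  {t | t ∈ M ∧ (t : Perm α).IsThreeCycle}

/-- `a` and `b` are in the same orbit of the group generated by the 3-cycles of `M`. -/
def Conn (M : Subgroup (alternatingGroup α)) (a b : α) : Prop :=
  ∃ k ∈ Subgroup.closure (T3 M), ((k : alternatingGroup α) : Perm α) a = b

/-- Every 3-cycle whose support lies in `Δ` belongs to `M`. -/
def Full (M : Subgroup (alternatingGroup α)) (Δ : Set α) : Prop :=
  ∀ t : alternatingGroup α, (t : Perm α).IsThreeCycle →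
    (∀ x, (t : Perm α) x ≠ x → x ∈ Δ) → t ∈ M

lemma conn_refl (M : Subgroup (alternatingGroup α)) (a : α) : Conn M a a :=
  ⟨1, Subgroup.one_mem _, rfl⟩

lemma conn_symm {M : Subgroup (alternatingGroup α)} {a b : α} (h : Conn M a b) : Conn M b a := by
  obtain ⟨k, hk, rfl⟩ := h
  refine ⟨k⁻¹, Subgroup.inv_mem _ hk, ?_⟩
  simp

lemma conn_trans {M : Subgroup (alternatingGroup α)} {a b c : α} (h1 : Conn M a b)
    (h2 : Conn M b c) : Conn M a c := by
  obtain ⟨k, hk, rfl⟩ := h1
  obtain ⟨k', hk', rfl⟩ := h2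
  exact ⟨k' * k, Subgroup.mul_mem _ hk' hk, rfl⟩

lemma conn_of_mem {M : Subgroup (alternatingGroup α)} {t : alternatingGroup α} (ht : t ∈ M)
    (h3 : (t : Perm α).IsThreeCycle) (a : α) : Conn M a ((t : Perm α) a) :=
  ⟨t, Subgroup.subset_closure ⟨ht, h3⟩, rfl⟩

end Cfsg.Agent.Lib.Helper59.PMinAlt
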