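import Cfsg.Agent.Lib.Helper59.PMinAltDefs

/-! # S2930: connectivity and overgroup lemmas -/

set_option autoImplicit false

namespace Cfsg.Agent.Lib.Helper59.PMinAlt

open Equiv Equiv.Perm Subgroup MulAction
open Cfsg.Agent.Lib.Helper35

variable {α : Type*} [Fintype α] [DecidableEq α]

/-- The 3-cycle `(a b c)` in `A_n`. -/
def tc (a b c : α) (hab : a ≠ b) (hbc : b ≠ c) : alternatingGroup α := threeCyc a b c hab hbc

lemma tc_isThreeCycle (a b c : α) (hab : a ≠ b) (hbc : b ≠ c) (hac : a ≠ c) :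
    ((tc a b c hab hbc : alternatingGroup α) : Perm α).IsThreeCycle := by
  have h : ((tc a b c hab hbc : alternatingGroup α) : Perm α) = swap b a * swap b c := by
    simp only [tc, threeCyc]
    rw [swap_comm a b]
  rw [h]
  exact isThreeCycle_swap_mul_swap_same hab.symm hbc hac

lemma tc_apply_self (a b c : α) (hab : a ≠ b) (hbc : b ≠ c) (hac : a ≠ c) :
    ((tc a b c hab hbc : alternatingGroup α) : Perm α) a = b :=
  threeCyc_apply_self a b c hab hbc hac

lemma tc_apply_of_ne (x a b c : α) (hab : a ≠ b) (hbc : b ≠ c) (hxa : x ≠ a) (hxb : x ≠ b)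
    (hxc : x ≠ c) : ((tc a b c hab hbc : alternatingGroup α) : Perm α) x = x :=
  threeCyc_apply_of_ne x a b c hab hbc hxa hxb hxc

lemma tc_support (a b c : α) (hab : a ≠ b) (hbc : b ≠ c) (x : α)
    (hx : ((tc a b c hab hbc : alternatingGroup α) : Perm α) x ≠ x) : x = a ∨ x = b ∨ x = c := by
  by_contra h
  push Not at h
  exact hx (tc_apply_of_ne x a b c hab hbc h.1 h.2.1 h.2.2)

omit [DecidableEq α] in
lemma exists_third (Δ : Set α) (h : 3 ≤ Δ.ncard) (a b : α) : ∃ c ∈ Δ, c ≠ a ∧ c ≠ b := by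
  have h2 : ({a, b} : Set α).ncard < Δ.ncard := by
    have := Set.ncard_insert_le a ({b} : Set α)
    rw [Set.ncard_singleton] at this
    omega
  obtain ⟨c, hc, hcn⟩ := Set.exists_mem_notMem_of_ncard_lt_ncard h2
  refine ⟨c, hc, ?_, ?_⟩
  · rintro rfl; exact hcn (by simp)
  · rintro rfl; exact hcn (by simp)

omit [DecidableEq α] in
lemma exists_fourth (h : 4 ≤ Fintype.card α) (a b c : α) : ∃ d : α, d ≠ a ∧ d ≠ b ∧ d ≠ c := by
  have h2 : ({a, b, c} : Set α).ncard < (Set.univ : Set α).ncard := by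
    have h1 := Set.ncard_insert_le a ({b, c} : Set α)
    have h3 := Set.ncard_insert_le b ({c} : Set α)
    rw [Set.ncard_singleton] at h3
    rw [Set.ncard_univ, Nat.card_eq_fintype_card]
    omega
  obtain ⟨d, -, hdn⟩ := Set.exists_mem_notMem_of_ncard_lt_ncard h2
  refine ⟨d, ?_, ?_, ?_⟩ <;> (rintro rfl; exact hdn (by simp))

/-- Points of a full set with at least three points are connected. -/
lemma conn_of_full {M : Subgroup (alternatingGroup α)} {Δ : Set α} (hΔ : Full M Δ)
    (h3 : 3 ≤ Δ.ncard) {a b : α} (ha : a ∈ Δ) (hb : b ∈ Δ) : Conn M a b := by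
  by_cases hab : a = b
  · rw [hab]; exact conn_refl M b
  obtain ⟨c, hc, hca, hcb⟩ := exists_third Δ h3 a b
  have hmem : tc a b c hab (Ne.symm hcb) ∈ M := by
    apply hΔ _ (tc_isThreeCycle a b c hab (Ne.symm hcb) (Ne.symm hca))
    intro x hx
    rcases tc_support a b c hab (Ne.symm hcb) x hx with rfl | rfl | rfl <;> assumption
  have := conn_of_mem hmem (tc_isThreeCycle a b c hab (Ne.symm hcb) (Ne.symm hca)) a
  rwa [tc_apply_self a b c hab (Ne.symm hcb) (Ne.symm hca)] at this

/-- A proper subgroup of `A_n` cannot be "connected". -/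
lemma not_all_conn {M : Subgroup (alternatingGroup α)} (hM : M ≠ ⊤) (h2 : 2 ≤ Fintype.card α) :
    ¬ ∀ a b : α, Conn M a b := by
  intro hall
  obtain ⟨a, b, hab⟩ := Fintype.exists_pair_of_one_lt_card (α := α) (by omega)
  have hne : (T3 M).Nonempty := by
    by_contra hemp
    rw [Set.not_nonempty_iff_eq_empty] at hemp
    obtain ⟨k, hk, hkab⟩ := hall a b
    rw [hemp, Subgroup.closure_empty, Subgroup.mem_bot] at hk
    rw [hk] at hkab
    exact hab (by simpa using hkab)
  have htop := closure_eq_top_of_transitive (T3 M) (fun t ht => ht.2) hne hall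
  have hle : Subgroup.closure (T3 M) ≤ M := by
    rw [Subgroup.closure_le]
    intro t ht
    exact ht.1
  rw [htop] at hle
  exact hM (top_le_iff.mp hle)

section overgroup

variable (P M : Subgroup (alternatingGroup α))
  (hM : ∀ H : Subgroup (alternatingGroup α), P ≤ H → H ≠ ⊤ → H ≤ M)

include hM in
lemma le_of_not_mem (H : Subgroup (alternatingGroup α)) (hPH : P ≤ H)
    (g : alternatingGroup α) (hg : g ∉ H) : H ≤ M :=
  hM H hPH (fun h => hg (h ▸ Subgroup.mem_top g))

/-- The subgroup of `A_n` preserving an equivalence relation. -/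
def relStab (r : Setoid α) : Subgroup (alternatingGroup α) where
  carrier := {g | ∀ x y, r x y ↔ r ((g : Perm α) x) ((g : Perm α) y)}
  one_mem' := by intro x y; simp
  mul_mem' := by
    intro g h hg hh x y
    rw [hh x y, hg ((h : Perm α) x) ((h : Perm α) y)]
    simp
  inv_mem' := by
    intro g hg x y
    rw [hg (((g⁻¹ : alternatingGroup α) : Perm α) x) (((g⁻¹ : alternatingGroup α) : Perm α) y)]
    simp

lemma mem_relStab (r : Setoid α) (g : alternatingGroup α) :
    g ∈ relStab r ↔ ∀ x y, r x y ↔ r ((g : Perm α) x) ((g : Perm α) y) := Iff.rfl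

include hM in
/-- **Overgroup lemma for invariant partitions.** If `P` preserves the equivalence relation `r`,
which has a class with two points and is not the full relation, then every class of `r` is full. -/
lemma full_of_rel (h4 : 4 ≤ Fintype.card α) (r : Setoid α)
    (hP : ∀ p ∈ P, ∀ x y, r x y → r ((p : Perm α) x) ((p : Perm α) y))
    (x₁ x₂ x₃ : α) (h12 : x₁ ≠ x₂) (hr12 : r x₁ x₂) (hr13 : ¬ r x₁ x₃) (x : α) :
    Full M {y | r x y} := by
  have hPH : P ≤ relStab r := by
    intro p hp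
    rw [mem_relStab]
    intro a b
    refine ⟨hP p hp a b, fun h => ?_⟩
    have := hP p⁻¹ (Subgroup.inv_mem _ hp) _ _ h
    simpa using this
  -- a 3-cycle not preserving r
  have h13 : x₁ ≠ x₃ := by
    rintro rfl; exact hr13 (r.refl _)
  have h23 : x₂ ≠ x₃ := by
    rintro rfl; exact hr13 hr12
  obtain ⟨d, hd1, hd2, hd3⟩ := exists_fourth h4 x₁ x₂ x₃
  have hnot : tc x₂ x₃ d h23 (Ne.symm hd3) ∉ relStab r := by
    intro hmem
    rw [mem_relStab] at hmem
    have := (hmem x₁ x₂).mp hr12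
    rw [tc_apply_self x₂ x₃ d h23 (Ne.symm hd3) (Ne.symm hd2),
      tc_apply_of_ne x₁ x₂ x₃ d h23 (Ne.symm hd3) h12 h13 (Ne.symm hd1)] at this
    exact hr13 this
  have hle := le_of_not_mem P M hM (relStab r) hPH _ hnot
  intro t ht hsupp
  apply hle
  rw [mem_relStab]
  -- every point is related to its image
  have hkey : ∀ a, r a ((t : Perm α) a) := by
    intro a
    by_cases hta : (t : Perm α) a = a
    · rw [hta]
    · have h1 : r x a := hsupp a hta
      have h2 : r x ((t : Perm α) a) := by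
        apply hsupp
        intro h
        exact hta ((t : Perm α).injective h)
      exact r.trans (r.symm h1) h2
  intro a b
  constructor
  · intro hab
    exact r.trans (r.symm (hkey a)) (r.trans hab (hkey b))
  · intro hab
    exact r.trans (hkey a) (r.trans hab (r.symm (hkey b)))

include hM in
/-- **Overgroup lemma for invariant sets.** A proper nonempty `P`-invariant set is full. -/
lemma full_of_invariant (h4 : 4 ≤ Fintype.card α) (Δ : Set α)
    (hP : ∀ p ∈ P, ∀ x ∈ Δ, (p : Perm α) x ∈ Δ) (hne : Δ.Nonempty) (hne' : Δᶜ.Nonempty) :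
    Full M Δ := by
  classical
  -- invariance of the complement
  have hPc : ∀ p ∈ P, ∀ x, x ∉ Δ → (p : Perm α) x ∉ Δ := by
    intro p hp x hx hpx
    apply hx
    have := hP p⁻¹ (Subgroup.inv_mem _ hp) _ hpx
    simpa using this
  obtain ⟨a, ha⟩ := hne
  obtain ⟨b, hb⟩ := hne'
  have hab : a ≠ b := by rintro rfl; exact hb ha
  -- the relation "both in Δ or both outside"
  let r : Setoid α :=
    { r := fun x y => (x ∈ Δ ↔ y ∈ Δ)
      iseqv := ⟨fun _ => Iff.rfl, fun h => h.symm, fun h1 h2 => h1.trans h2⟩ }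
  have hrP : ∀ p ∈ P, ∀ x y, r x y → r ((p : Perm α) x) ((p : Perm α) y) := by
    intro p hp x y hxy
    show ((p : Perm α) x ∈ Δ ↔ (p : Perm α) y ∈ Δ)
    have hxy' : (x ∈ Δ ↔ y ∈ Δ) := hxy
    by_cases hx : x ∈ Δ
    · exact ⟨fun _ => hP p hp y (hxy'.mp hx), fun _ => hP p hp x hx⟩
    · have hy : y ∉ Δ := fun h => hx (hxy'.mpr h)
      exact ⟨fun h => absurd h (hPc p hp x hx), fun h => absurd h (hPc p hp y hy)⟩
  obtain ⟨c, hca, hcb, -⟩ := exists_fourth h4 a b b
  by_cases hc : c ∈ Δ
  · have := full_of_rel P M hM h4 r hrP a c b (Ne.symm hca) (show (a ∈ Δ ↔ c ∈ Δ) from ⟨fun _ => hc, fun _ => ha⟩)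
      (show ¬ (a ∈ Δ ↔ b ∈ Δ) from fun h => hb (h.mp ha)) a
    intro t ht hsupp
    apply this t ht
    intro x hx
    show (a ∈ Δ ↔ x ∈ Δ)
    exact ⟨fun _ => hsupp x hx, fun _ => ha⟩
  · have := full_of_rel P M hM h4 r hrP b c a (Ne.symm hcb) (show (b ∈ Δ ↔ c ∈ Δ) from ⟨fun h => absurd h hb, fun h => absurd h hc⟩)
      (show ¬ (b ∈ Δ ↔ a ∈ Δ) from fun h => hb (h.mpr ha)) a
    intro t ht hsupp
    apply this t ht
    intro x hx
    show (a ∈ Δ ↔ x ∈ Δ)
    exact ⟨fun _ => hsupp x hx, fun _ => ha⟩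

include hM in
/-- **Overgroup lemma for centralizers.** If `σ ≠ 1` commutes with `P` then `C_{A_n}(σ) ≤ M`. -/
lemma centralizer_le (h4 : 4 ≤ Fintype.card α) (σ : Perm α) (hσ : σ ≠ 1)
    (hP : ∀ p ∈ P, (p : Perm α) * σ = σ * (p : Perm α)) (g : alternatingGroup α)
    (hg : (g : Perm α) * σ = σ * (g : Perm α)) : g ∈ M := by
  let H : Subgroup (alternatingGroup α) :=
    { carrier := {g | (g : Perm α) * σ = σ * (g : Perm α)}
      one_mem' := by simp
      mul_mem' := by
        intro a b ha hb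
        show ((a * b : alternatingGroup α) : Perm α) * σ = σ * ((a * b : alternatingGroup α) : Perm α)
        rw [Subgroup.coe_mul, mul_assoc, hb, ← mul_assoc, ha, mul_assoc]
      inv_mem' := by
        intro a ha
        show ((a⁻¹ : alternatingGroup α) : Perm α) * σ = σ * ((a⁻¹ : alternatingGroup α) : Perm α)
        rw [Subgroup.coe_inv]
        have ha' : (a : Perm α) * σ = σ * (a : Perm α) := ha
        calc (a : Perm α)⁻¹ * σ = (a : Perm α)⁻¹ * (σ * (a : Perm α)) * (a : Perm α)⁻¹ := by group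
          _ = (a : Perm α)⁻¹ * ((a : Perm α) * σ) * (a : Perm α)⁻¹ := by rw [ha']
          _ = σ * (a : Perm α)⁻¹ := by group }
  have hPH : P ≤ H := fun p hp => hP p hp
  have hHtop : H ≠ ⊤ := by
    intro htop
    apply hσ
    apply conjNormal_injective h4
    rw [map_one]
    ext k
    rw [MulAut.conjNormal_apply]
    have hk : k ∈ H := htop ▸ Subgroup.mem_top k
    have hk' : (k : Perm α) * σ = σ * (k : Perm α) := hk
    rw [← hk']
    simp
  exact hM H hPH hHtop hg

end overgroup

end Cfsg.Agent.Lib.Helper59.PMinAlt
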