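import Mathlib

/-! # S2930 piece Y0: proper subgroups of p-groups lie in normal subgroups of index p -/

set_option autoImplicit false

namespace Cfsg.Agent.Lib.Helper59.PMinAlt

open Subgroup MulAction

/-- **Piece Y0.** In a finite `p`-group every proper subgroup lies in a normal subgroup of index `p`.

Proof: `Sylow.exists_subgroup_card_pow_prime_le` (or induction with
`Sylow.exists_subgroup_card_pow_succ`) gives `Y ≥ W` with `|Y| = |G| / p`; it is normal by
`Subgroup.normal_of_index_eq_minFac_card`. -/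
theorem exists_normal_index_p {G : Type*} [Group G] [Finite G] (p : ℕ) [Fact p.Prime]
    (hG : IsPGroup p G) (W : Subgroup G) (hW : W ≠ ⊤) :
    ∃ Y : Subgroup G, W ≤ Y ∧ Y.Normal ∧ Y.index = p := by
  have hp : p.Prime := Fact.out
  obtain ⟨n, hn⟩ := IsPGroup.iff_card.mp hG
  obtain ⟨k, hk⟩ := IsPGroup.iff_card.mp (hG.to_subgroup W)
  have hkn : k < n := by
    by_contra hle
    rw [not_lt] at hle
    apply hW
    apply Subgroup.eq_top_of_card_eq
    have h1 : Nat.card W ∣ Nat.card G := Subgroup.card_subgroup_dvd_card W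
    rw [hk, hn] at h1
    have h2 : k ≤ n := (Nat.pow_dvd_pow_iff_le_right hp.one_lt).mp h1
    have : k = n := le_antisymm h2 hle
    rw [hk, hn, this]
  obtain ⟨Y, hYc, hWY⟩ := Sylow.exists_subgroup_card_pow_prime_le p
    (by rw [hn]; exact pow_dvd_pow p (Nat.sub_le n 1)) W hk (Nat.le_sub_one_of_lt hkn)
  have hidx : Y.index = p := by
    have h := Subgroup.card_mul_index Y
    rw [hYc, hn] at h
    have hn1 : n = (n - 1) + 1 := by omega
    have hpos : 0 < p ^ (n - 1) := pow_pos hp.pos _
    apply Nat.eq_of_mul_eq_mul_left hpos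
    rw [h]
    conv_lhs => rw [hn1]
    rw [pow_succ]
  refine ⟨Y, hWY, ?_, hidx⟩
  apply Subgroup.normal_of_index_eq_minFac_card
  rw [hidx, hn]
  exact (hp.pow_minFac (by omega)).symm

end Cfsg.Agent.Lib.Helper59.PMinAlt
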