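import Mathlib

set_option autoImplicit false

namespace Cfsg.Agent.Lib.Helper59

section General

variable {G G' : Type*} [Group G] [Group G']

theorem card_mul_relIndex_of_le {N H : Subgroup G} (h : N ≤ H) :
    Nat.card N * N.relIndex H = Nat.card H := by
  have := Subgroup.relIndex_mul_relIndex (H := (⊥ : Subgroup G)) (K := N) (L := H) bot_le h
  rwa [Subgroup.relIndex_bot_left, Subgroup.relIndex_bot_left] at this

theorem card_ker_inf_mul_card_map (f : G →* G') (H : Subgroup G) :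
    Nat.card (f.ker ⊓ H : Subgroup G) * Nat.card (H.map f) = Nat.card H := by
  rw [← Subgroup.relIndex_ker H f, ← Subgroup.inf_relIndex_right]
  exact card_mul_relIndex_of_le inf_le_right

end General

section Pi

variable {ι : Type} [Fintype ι] [DecidableEq ι] (Φ : ι → Type) [∀ j, Group (Φ j)]
  [∀ j, Finite (Φ j)]

theorem coprime_card_ker_eval (j : ι)
    (hcop : ∀ i, i ≠ j → Nat.Coprime (Nat.card (Φ i)) (Nat.card (Φ j))) :
    Nat.Coprime (Nat.card (Pi.evalMonoidHom Φ j).ker) (Nat.card (Φ j)) := by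
  classical
  have hsurj : Function.Surjective (Pi.evalMonoidHom Φ j) := by
    intro x
    exact ⟨Pi.mulSingle j x, by simp⟩
  have h1 := card_ker_inf_mul_card_map (Pi.evalMonoidHom Φ j) ⊤
  rw [inf_top_eq, ← MonoidHom.range_eq_map, MonoidHom.range_eq_top.2 hsurj, Subgroup.card_top,
    Subgroup.card_top, Nat.card_pi] at h1
  rw [← Finset.mul_prod_erase Finset.univ _ (Finset.mem_univ j)] at h1
  have hpos : 0 < Nat.card (Φ j) := Nat.card_pos
  have h2 : Nat.card (Pi.evalMonoidHom Φ j).ker = ∏ i ∈ Finset.univ.erase j, Nat.card (Φ i) := by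
    have : Nat.card (Φ j) * Nat.card (Pi.evalMonoidHom Φ j).ker
        = Nat.card (Φ j) * ∏ i ∈ Finset.univ.erase j, Nat.card (Φ i) := by
      rw [mul_comm, h1]
    exact Nat.eq_of_mul_eq_mul_left hpos this
  rw [h2]
  apply Nat.Coprime.prod_left
  intro i hi
  exact hcop i (Finset.ne_of_mem_erase hi)

theorem pi_orderOf_eq_prod
    (hcop : ∀ i j, i ≠ j → Nat.Coprime (Nat.card (Φ i)) (Nat.card (Φ j))) (x : ∀ j, Φ j) :
    orderOf x = ∏ j, orderOf (x j) := by
  rw [Pi.orderOf]
  apply Finset.lcm_eq_prod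
  intro i _ j _ hij
  exact Nat.Coprime.of_dvd (orderOf_dvd_natCard (x i)) (orderOf_dvd_natCard (x j)) (hcop i j hij)

theorem pi_critical (q r : ι → ℕ)
    (hqΦ : ∀ j, q j ∣ Nat.card (Φ j)) (hrΦ : ∀ j, r j ∣ Nat.card (Φ j))
    (hcop : ∀ i j, i ≠ j → Nat.Coprime (Nat.card (Φ i)) (Nat.card (Φ j)))
    (hcrit : ∀ j, ∀ H N : Subgroup (Φ j), N ≤ H → (∀ h ∈ H, ∀ n ∈ N, h * n * h⁻¹ ∈ N) →
      q j ∣ N.relIndex H → r j ∣ N.relIndex H → H = ⊤ ∧ N = ⊥)
    (H N : Subgroup (∀ j, Φ j)) (hNH : N ≤ H) (hnorm : ∀ h ∈ H, ∀ n ∈ N, h * n * h⁻¹ ∈ N)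
    (hqd : ∀ j, q j ∣ N.relIndex H) (hrd : ∀ j, r j ∣ N.relIndex H) : H = ⊤ ∧ N = ⊥ := by
  classical
  have key : ∀ j, H.map (Pi.evalMonoidHom Φ j) = ⊤ ∧ N.map (Pi.evalMonoidHom Φ j) = ⊥ := by
    intro j
    set π := Pi.evalMonoidHom Φ j with hπ
    have hle : N.map π ≤ H.map π := Subgroup.map_mono hNH
    have hn' : ∀ h ∈ H.map π, ∀ n ∈ N.map π, h * n * h⁻¹ ∈ N.map π := by
      rintro _ ⟨h, hh, rfl⟩ _ ⟨n, hn, rfl⟩
      exact ⟨h * n * h⁻¹, hnorm h hh n hn, by simp⟩
    have e1 := card_mul_relIndex_of_le hNH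
    have e2 := card_mul_relIndex_of_le hle
    have e3 := card_ker_inf_mul_card_map π H
    have e4 := card_ker_inf_mul_card_map π N
    have hNjpos : 0 < Nat.card (N.map π) := Nat.card_pos
    have e5 : Nat.card (π.ker ⊓ N : Subgroup _) * N.relIndex H
        = (N.map π).relIndex (H.map π) * Nat.card (π.ker ⊓ H : Subgroup _) := by
      have : Nat.card (N.map π) * (Nat.card (π.ker ⊓ N : Subgroup _) * N.relIndex H)
          = Nat.card (N.map π) * ((N.map π).relIndex (H.map π) * Nat.card (π.ker ⊓ H : Subgroup _)) := by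
        calc Nat.card (N.map π) * (Nat.card (π.ker ⊓ N : Subgroup _) * N.relIndex H)
            = (Nat.card (π.ker ⊓ N : Subgroup _) * Nat.card (N.map π)) * N.relIndex H := by ring
          _ = Nat.card H := by rw [e4, e1]
          _ = Nat.card (π.ker ⊓ H : Subgroup _) * Nat.card (H.map π) := e3.symm
          _ = Nat.card (π.ker ⊓ H : Subgroup _) *
              (Nat.card (N.map π) * (N.map π).relIndex (H.map π)) := by rw [e2]
          _ = _ := by ring
      exact Nat.eq_of_mul_eq_mul_left hNjpos this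
    have hcopK : Nat.Coprime (Nat.card (π.ker ⊓ H : Subgroup _)) (Nat.card (Φ j)) := by
      apply Nat.Coprime.coprime_dvd_left (Subgroup.card_dvd_of_le inf_le_left)
      exact coprime_card_ker_eval Φ j (fun i hi => hcop i j hi)
    have hq1 : q j ∣ (N.map π).relIndex (H.map π) := by
      have h1 : q j ∣ (N.map π).relIndex (H.map π) * Nat.card (π.ker ⊓ H : Subgroup _) := by
        rw [← e5]; exact Dvd.dvd.mul_left (hqd j) _
      have h2 : Nat.Coprime (q j) (Nat.card (π.ker ⊓ H : Subgroup _)) :=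
        (Nat.Coprime.coprime_dvd_right (hqΦ j) hcopK).symm
      exact h2.dvd_of_dvd_mul_right h1
    have hr1 : r j ∣ (N.map π).relIndex (H.map π) := by
      have h1 : r j ∣ (N.map π).relIndex (H.map π) * Nat.card (π.ker ⊓ H : Subgroup _) := by
        rw [← e5]; exact Dvd.dvd.mul_left (hrd j) _
      have h2 : Nat.Coprime (r j) (Nat.card (π.ker ⊓ H : Subgroup _)) :=
        (Nat.Coprime.coprime_dvd_right (hrΦ j) hcopK).symm
      exact h2.dvd_of_dvd_mul_right h1
    exact hcrit j _ _ hle hn' hq1 hr1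
  constructor
  · apply Subgroup.eq_top_of_le_card
    apply Nat.le_of_dvd Nat.card_pos
    rw [Nat.card_pi]
    apply Fintype.prod_dvd_of_isRelPrime
    · intro i j hij
      exact Nat.coprime_iff_isRelPrime.1 (hcop i j hij)
    · intro j
      have := card_ker_inf_mul_card_map (Pi.evalMonoidHom Φ j) H
      rw [(key j).1, Subgroup.card_top] at this
      exact Dvd.intro_left _ this
  · rw [Subgroup.eq_bot_iff_forall]
    intro x hx
    funext j
    have : Pi.evalMonoidHom Φ j x ∈ N.map (Pi.evalMonoidHom Φ j) := ⟨x, hx, rfl⟩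
    rw [(key j).2, Subgroup.mem_bot] at this
    exact this

end Pi

end Cfsg.Agent.Lib.Helper59
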