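import Mathlib
import Cfsg.Agent.Lib.Helper81.Q4Defs
import Cfsg.Agent.Lib.Helper60.P4P5

/-! # S6002 hive (helper81), leaf Q4-P5: fifth roots of unity in the prime field, `p` odd
(= helper60's P4-P5 proof; quadratic reciprocity applied via the prime `5 ≡ 1 (mod 4)`). -/

set_option autoImplicit false

namespace Cfsg.Agent.Lib.Helper81.Q4

open Matrix

variable {F : Type*} [Field F] [Fintype F]

/-- Q4-P5.  Fifth roots of unity in `𝔽_p`, `p` odd. -/
theorem five_facts {p : ℕ} [Fact p.Prime] [CharP F p] (hF : Fintype.card F = p) (hodd : Odd p) :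
    (orderOf (p : ZMod 5) = 4 → Irreducible (Polynomial.cyclotomic 5 F)) ∧
    (orderOf (p : ZMod 5) ≠ 4 → p ≠ 5 → ∃ u : F, u * u + u - 1 = 0) := by
  have hp : p.Prime := Fact.out
  have : Fact (Nat.Prime 5) := ⟨by norm_num⟩
  constructor
  · intro ho
    have hp5 : (5 : ℕ) ≠ p := by
      intro h
      have h0 : ((p : ℕ) : ZMod 5) = 0 := by
        rw [← h]; exact ZMod.natCast_self 5
      rw [h0, orderOf_zero] at ho
      omega
    have hall := Cfsg.Agent.Lib.Helper2.BG.allIrrDeg_cyclotomic (F := F) (p := p) (r := 5) hp5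
    rw [hF, ho] at hall
    have hdeg : (Polynomial.cyclotomic 5 F).natDegree = 4 := by
      rw [Polynomial.natDegree_cyclotomic]
      decide
    have hne : Polynomial.cyclotomic 5 F ≠ 0 := Polynomial.cyclotomic_ne_zero 5 F
    have hnu : ¬ IsUnit (Polynomial.cyclotomic 5 F) := by
      intro hu
      have := Polynomial.natDegree_eq_zero_of_isUnit hu
      omega
    obtain ⟨g, hg, hgd⟩ := WfDvdMonoid.exists_irreducible_factor hnu hne
    have hgdeg := hall g hg hgd
    obtain ⟨c, hc⟩ := hgd
    have hc0 : c ≠ 0 := by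
      rintro rfl
      rw [mul_zero] at hc
      exact hne hc
    have hcdeg : c.natDegree = 0 := by
      have := congrArg Polynomial.natDegree hc
      rw [Polynomial.natDegree_mul hg.ne_zero hc0, hdeg, hgdeg] at this
      omega
    have hcu : IsUnit c := by
      rw [Polynomial.isUnit_iff]
      refine ⟨c.coeff 0, ?_, (Polynomial.eq_C_of_natDegree_eq_zero hcdeg).symm⟩
      rw [isUnit_iff_ne_zero]
      intro h0
      apply hc0
      rw [Polynomial.eq_C_of_natDegree_eq_zero hcdeg, h0, map_zero]
    rw [hc]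
    exact (irreducible_mul_isUnit hcu).mpr hg
  · intro ho hp5
    -- `p % 5 ∈ {1, 4}`
    have hcast : ((p : ℕ) : ZMod 5) = ((p % 5 : ℕ) : ZMod 5) := by
      rw [ZMod.natCast_mod]
    have hmod : p % 5 = 1 ∨ p % 5 = 4 := by
      have hlt : p % 5 < 5 := Nat.mod_lt _ (by norm_num)
      interval_cases h : p % 5
      · exfalso
        have : 5 ∣ p := Nat.dvd_of_mod_eq_zero h
        exact hp5 ((Nat.prime_dvd_prime_iff_eq (by norm_num) hp).mp this).symm
      · left; rfl
      · exfalso; apply ho; rw [hcast]; exact Cfsg.Agent.Lib.Helper14.P4.p5_orderOf_two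
      · exfalso; apply ho; rw [hcast]; exact Cfsg.Agent.Lib.Helper14.P4.p5_orderOf_three
      · right; rfl
    have hsq5 : IsSquare ((p : ℕ) : ZMod 5) := by
      rw [hcast]
      rcases hmod with h | h <;> rw [h]
      · exact ⟨1, by norm_num⟩
      · refine ⟨2, ?_⟩
        have : ((4 : ℕ) : ZMod 5) = 2 * 2 := by
          norm_num
        exact this
    have hp2 : p ≠ 2 := by
      rintro rfl
      exact absurd hodd (by decide)
    have hsq : IsSquare ((5 : ℕ) : ZMod p) :=
      (ZMod.exists_sq_eq_prime_iff_of_mod_four_eq_one (p := 5) (q := p) (by norm_num) hp2).mp hsq5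
    obtain ⟨s0, hs0⟩ := hsq
    let φ : ZMod p →+* F := ZMod.castHom (dvd_refl p) F
    set s : F := φ s0 with hs
    have hs5 : s * s = 5 := by
      rw [hs, ← map_mul, ← hs0, map_natCast]
      norm_num
    have h2 : (2 : F) ≠ 0 := by
      intro h0
      have : ((2 : ℕ) : F) = 0 := by exact_mod_cast h0
      rw [CharP.cast_eq_zero_iff F p] at this
      exact hp2 ((Nat.prime_dvd_prime_iff_eq hp Nat.prime_two).mp this)
    refine ⟨(-1 + s) / 2, ?_⟩
    field_simp
    linear_combination hs5

end Cfsg.Agent.Lib.Helper81.Q4
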