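import Mathlib
import Cfsg.Prelude.Def_Classical
import Cfsg.Prelude.Def_EvenType
import Cfsg.Agent.Lib.Helper76.RkIso

/-! # Rk hive (helper76, S1788): leaf RK-PSP `rk_psp` (helper59)

`A` = image in `PSp_{2m}(F)` of `{fromBlocks 1 S 0 1 : S = S(a,b,c)}` with
`S(a,b,c) = a E₀₀ + b (E₀₁ + E₁₀) + c E₁₁`; an element of this shape that commutes with `J` has `S = 0`. -/

set_option autoImplicit false

namespace Cfsg.Agent.Lib.Helper76.Rk

open Cfsg Matrix

section psp

variable {F : Type} [Field F]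

/-- the symmetric matrix `a E₀₀ + b (E₀₁ + E₁₀) + c E₁₁` -/
def psp_S (m : ℕ) (t : F × F × F) : Matrix (Fin m) (Fin m) F :=
  Matrix.of fun i j =>
    if i.val = 0 ∧ j.val = 0 then t.1
    else if (i.val = 0 ∧ j.val = 1) ∨ (i.val = 1 ∧ j.val = 0) then t.2.1
    else if i.val = 1 ∧ j.val = 1 then t.2.2 else 0

theorem psp_S_symm (m : ℕ) (t : F × F × F) : (psp_S m t)ᵀ = psp_S m t := by
  ext i j
  simp only [psp_S, Matrix.transpose_apply, Matrix.of_apply]
  by_cases h1 : i.val = 0 <;> by_cases h2 : j.val = 0 <;> by_cases h3 : i.val = 1 <;>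
    by_cases h4 : j.val = 1 <;> simp [h1, h2, h3, h4] <;> omega

theorem psp_S_add (m : ℕ) (s t : F × F × F) : psp_S m s + psp_S m t = psp_S m (s + t) := by
  ext i j
  simp only [psp_S, Matrix.add_apply, Matrix.of_apply, Prod.fst_add, Prod.snd_add]
  split_ifs <;> simp

theorem psp_S_zero (m : ℕ) : psp_S m (0 : F × F × F) = 0 := by
  ext i j
  simp [psp_S]

/-- the unipotent element `[1 S; 0 1]` -/
def psp_u (m : ℕ) (t : F × F × F) : Matrix (Fin m ⊕ Fin m) (Fin m ⊕ Fin m) F :=
  Matrix.fromBlocks 1 (psp_S m t) 0 1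

theorem psp_u_mem (m : ℕ) (t : F × F × F) : psp_u m t ∈ Matrix.symplecticGroup (Fin m) F := by
  unfold psp_u
  rw [SymplecticGroup.fromBlocks_mem_iff]
  refine ⟨by simp, ?_, by simp⟩
  rw [psp_S_symm]
  simp

theorem psp_u_mul (m : ℕ) (s t : F × F × F) : psp_u m s * psp_u m t = psp_u m (s + t) := by
  unfold psp_u
  rw [Matrix.fromBlocks_multiply, ← psp_S_add]
  simp [add_comm]

/-- the elements as members of the symplectic group -/
def psp_g (m : ℕ) (t : F × F × F) : Matrix.symplecticGroup (Fin m) F := ⟨psp_u m t, psp_u_mem m t⟩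

theorem psp_g_mul (m : ℕ) (s t : F × F × F) : psp_g m s * psp_g m t = psp_g m (s + t) := by
  apply Subtype.ext
  exact psp_u_mul m s t

theorem psp_g_zero (m : ℕ) : psp_g m (0 : F × F × F) = 1 := by
  apply Subtype.ext
  show psp_u m 0 = 1
  unfold psp_u
  rw [psp_S_zero, Matrix.fromBlocks_one]

theorem psp_g_inv (m : ℕ) (t : F × F × F) : (psp_g m t)⁻¹ = psp_g m (-t) := by
  rw [inv_eq_iff_mul_eq_one, psp_g_mul, add_neg_cancel, psp_g_zero]

/-- `J` as an element of the symplectic group -/
def psp_J (m : ℕ) : Matrix.symplecticGroup (Fin m) F :=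
  ⟨Matrix.J (Fin m) F, SymplecticGroup.J_mem (Fin m) F⟩

/-- an element `psp_g t` that commutes with `J` is trivial -/
theorem psp_eq_zero_of_comm (m : ℕ) (hm : 2 ≤ m) (t : F × F × F)
    (h : psp_g m t * psp_J m = psp_J m * psp_g m t) : t = 0 := by
  have h1 : psp_u m t * Matrix.J (Fin m) F = Matrix.J (Fin m) F * psp_u m t :=
    congrArg Subtype.val h
  unfold psp_u Matrix.J at h1
  rw [Matrix.fromBlocks_multiply, Matrix.fromBlocks_multiply] at h1
  have h2 := (Matrix.fromBlocks_inj.1 h1).1
  simp only [Matrix.one_mul, Matrix.mul_zero, Matrix.mul_one, Matrix.zero_mul, zero_add,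
    Matrix.neg_mul, neg_zero, add_zero] at h2
  -- `h2 : psp_S m t = 0`
  have e00 := congrFun (congrFun h2 ⟨0, by omega⟩) ⟨0, by omega⟩
  have e01 := congrFun (congrFun h2 ⟨0, by omega⟩) ⟨1, by omega⟩
  have e11 := congrFun (congrFun h2 ⟨1, by omega⟩) ⟨1, by omega⟩
  simp [psp_S] at e00 e01 e11
  ext
  · exact e00
  · exact e01
  · exact e11

end psp

/-- RK-PSP -/
theorem rk_psp {F : Type} [Field F] [Fintype F] [CharP F 2] (m : ℕ) (hm : 2 ≤ m) :
    PRankAtLeast 2 3 (PSp m F) := by
  classical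
  let π : Matrix.symplecticGroup (Fin m) F →* PSp m F :=
    QuotientGroup.mk' (Subgroup.center (Matrix.symplecticGroup (Fin m) F))
  have h2F : (2 : F × F × F) = 0 := by
    ext <;> simp [CharTwo.two_eq_zero]
  have hdouble : ∀ t : F × F × F, t + t = 0 := fun t => by
    rw [← two_mul, h2F, zero_mul]
  apply prank_of_closure (Set.range fun t : F × F × F => π (psp_g m t)) 3
  · rintro _ ⟨s, rfl⟩ _ ⟨t, rfl⟩
    show π (psp_g m s) * π (psp_g m t) = π (psp_g m t) * π (psp_g m s)
    rw [← map_mul, ← map_mul, psp_g_mul, psp_g_mul, add_comm]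
  · rintro _ ⟨s, rfl⟩
    show π (psp_g m s) ^ 2 = 1
    rw [← map_pow, pow_two, psp_g_mul, hdouble, psp_g_zero, map_one]
  · -- the cardinality
    have hinj : Function.Injective (fun t : F × F × F =>
        (⟨π (psp_g m t), Subgroup.subset_closure ⟨t, rfl⟩⟩ :
          Subgroup.closure (Set.range fun t : F × F × F => π (psp_g m t)))) := by
      intro s t hst
      have h1 : π (psp_g m s) = π (psp_g m t) := congrArg Subtype.val hst
      have h2 : (psp_g m s)⁻¹ * psp_g m t ∈
          Subgroup.center (Matrix.symplecticGroup (Fin m) F) := by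
        have := (QuotientGroup.eq (s := Subgroup.center (Matrix.symplecticGroup (Fin m) F))).1 h1
        exact this
      rw [psp_g_inv, psp_g_mul] at h2
      have h3 := psp_eq_zero_of_comm m hm (-s + t)
        ((Subgroup.mem_center_iff.1 h2 (psp_J m)).symm)
      have : t = s := by
        have := eq_neg_of_add_eq_zero_right h3
        rw [neg_neg] at this
        exact this
      exact this.symm
    have : Finite (PSp m F) := by
      unfold PSp
      infer_instance
    have hle := Nat.card_le_card_of_injective _ hinj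
    have hcard : Nat.card (F × F × F) = Fintype.card F ^ 3 := by
      rw [Nat.card_eq_fintype_card, Fintype.card_prod, Fintype.card_prod]
      ring
    have hq : 2 ≤ Fintype.card F := Fintype.one_lt_card
    calc 2 ^ 3 ≤ Fintype.card F ^ 3 := Nat.pow_le_pow_left hq 3
      _ = Nat.card (F × F × F) := hcard.symm
      _ ≤ _ := hle

end Cfsg.Agent.Lib.Helper76.Rk
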