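import Mathlib

set_option autoImplicit false

namespace Cfsg.Agent.Lib.Helper59.SR

open MulAction
open scoped Pointwise

universe u v w

section Basic

variable {G : Type u} {Ω : Type v} {K : Type w} [Group G] [MulAction G Ω] [Group K]

/-- the point of `Ω` attached to `x : K` (via `j : K →* G` and the base point) -/
def pt (j : K →* G) (ω₀ : Ω) (x : K) : Ω := j x • ω₀

theorem pt_one (j : K →* G) (ω₀ : Ω) : pt j ω₀ 1 = ω₀ := by
  simp [pt]

theorem pt_mul (j : K →* G) (ω₀ : Ω) (x y : K) : pt j ω₀ (x * y) = j x • pt j ω₀ y := by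
  simp [pt, mul_smul]

/-- invariance of a function on `K` under the stabilizer of the base point -/
def StabInv {R : Type*} (j : K →* G) (ω₀ : Ω) (φ : K → R) : Prop :=
  ∀ s : G, s • ω₀ = ω₀ → ∀ x y : K, s • pt j ω₀ x = pt j ω₀ y → φ x = φ y

variable {j : K →* G} {ω₀ : Ω}

/-- the permutation of `K` induced by an element of `G` -/
noncomputable def tr (hreg : Function.Bijective (pt j ω₀)) (s : G) : K ≃ K :=
  ((Equiv.ofBijective _ hreg).trans (MulAction.toPerm s)).trans (Equiv.ofBijective _ hreg).symm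

theorem pt_tr (hreg : Function.Bijective (pt j ω₀)) (s : G) (x : K) :
    pt j ω₀ (tr hreg s x) = s • pt j ω₀ x := by
  unfold tr
  exact (Equiv.ofBijective _ hreg).apply_symm_apply (s • pt j ω₀ x)

theorem tr_eq_of (hreg : Function.Bijective (pt j ω₀)) (s : G) (x y : K)
    (h : s • pt j ω₀ x = pt j ω₀ y) : tr hreg s x = y := by
  apply hreg.1
  rw [pt_tr, h]

theorem key_transport (hreg : Function.Bijective (pt j ω₀)) (s : G) (x z : K) :
    ∃ s' : G, s' • ω₀ = ω₀ ∧
      s' • pt j ω₀ (x⁻¹ * z) = pt j ω₀ ((tr hreg s x)⁻¹ * tr hreg s z) := by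
  refine ⟨(j (tr hreg s x))⁻¹ * s * j x, ?_, ?_⟩
  · have h1 : j (tr hreg s x) • ω₀ = s • j x • ω₀ := pt_tr hreg s x
    rw [mul_smul, mul_smul, ← h1, inv_smul_smul]
  · have h2 : j (tr hreg s z) • ω₀ = s • j z • ω₀ := pt_tr hreg s z
    simp only [pt, map_mul, map_inv, mul_smul]
    rw [smul_inv_smul, ← h2]

end Basic

section Algebra

variable {G : Type u} {Ω : Type v} {K : Type w} [Group G] [MulAction G Ω] [Group K] [Fintype K]
variable {R : Type*} [Semiring R]
variable {j : K →* G} {ω₀ : Ω}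

theorem stabInv_mul (hreg : Function.Bijective (pt j ω₀)) (φ ψ : MonoidAlgebra R K)
    (hφ : StabInv j ω₀ (fun x => φ.coeff x)) (hψ : StabInv j ω₀ (fun x => ψ.coeff x)) :
    StabInv j ω₀ (fun x => (φ * ψ).coeff x) := by
  intro s hs z z' hz
  have hz' : tr hreg s z = z' := tr_eq_of hreg s z z' hz
  simp only
  rw [MonoidAlgebra.coeff_mul_apply_left, MonoidAlgebra.coeff_mul_apply_left,
    Finsupp.sum_fintype _ _ (by intro i; simp), Finsupp.sum_fintype _ _ (by intro i; simp)]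
  rw [← Equiv.sum_comp (tr hreg s) (fun y => φ.coeff y * ψ.coeff (y⁻¹ * z'))]
  apply Finset.sum_congr rfl
  intro x _
  have h1 : φ.coeff x = φ.coeff (tr hreg s x) := hφ s hs x _ (pt_tr hreg s x).symm
  obtain ⟨s', hs', h2⟩ := key_transport hreg s x z
  have h3 : ψ.coeff (x⁻¹ * z) = ψ.coeff ((tr hreg s x)⁻¹ * tr hreg s z) := hψ s' hs' _ _ h2
  rw [h1, h3, hz']

omit [Fintype K] in
theorem stabInv_one (hreg : Function.Bijective (pt j ω₀)) :
    StabInv j ω₀ (fun x => (1 : MonoidAlgebra R K).coeff x) := by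
  classical
  intro s hs x y hxy
  simp only [MonoidAlgebra.one_def, MonoidAlgebra.coeff_single, Finsupp.single_apply]
  have : x = 1 ↔ y = 1 := by
    constructor
    · intro h
      subst h
      rw [pt_one, hs] at hxy
      apply hreg.1
      rw [← hxy, pt_one]
    · intro h
      subst h
      rw [pt_one] at hxy
      apply hreg.1
      rw [pt_one]
      have := congrArg (fun ω => s⁻¹ • ω) hxy
      simp only [inv_smul_smul] at this
      rw [this, ← hs, inv_smul_smul, hs]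
  by_cases h : x = 1
  · have h' := this.1 h
    simp [h, h']
  · have h' : ¬ y = 1 := fun hy => h (this.2 hy)
    simp [h, h', eq_comm]

theorem stabInv_pow (hreg : Function.Bijective (pt j ω₀)) (φ : MonoidAlgebra R K)
    (hφ : StabInv j ω₀ (fun x => φ.coeff x)) (n : ℕ) :
    StabInv j ω₀ (fun x => (φ ^ n).coeff x) := by
  induction n with
  | zero => rw [pow_zero]; exact stabInv_one hreg
  | succ n ih => rw [pow_succ]; exact stabInv_mul hreg _ _ ih hφ

end Algebra

section Frobenius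

variable {K : Type w} [CommGroup K] [DecidableEq K] (p : ℕ) [hp : Fact p.Prime]

/-- indicator element of a finite subset in the group algebra over `ZMod p` -/
noncomputable def ind (T : Finset K) : MonoidAlgebra (ZMod p) K :=
  ∑ t ∈ T, MonoidAlgebra.single t 1

theorem ind_coeff (T : Finset K) (x : K) : (ind p T).coeff x = if x ∈ T then 1 else 0 := by
  unfold ind
  rw [MonoidAlgebra.coeff_sum, Finsupp.finsetSum_apply]
  simp only [MonoidAlgebra.coeff_single, Finsupp.single_apply]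
  rw [Finset.sum_ite_eq' T x]

theorem ind_pow_coeff (T : Finset K) (z : K) :
    ((ind p T) ^ p).coeff z = ((T.filter (fun t => t ^ p = z)).card : ZMod p) := by
  have : CharP (MonoidAlgebra (ZMod p) K) p :=
    charP_of_injective_ringHom (f := MonoidAlgebra.singleOneRingHom)
      (MonoidAlgebra.single_right_injective) p
  unfold ind
  rw [sum_pow_char]
  simp only [MonoidAlgebra.single_pow, one_pow]
  rw [MonoidAlgebra.coeff_sum, Finsupp.finsetSum_apply]
  simp only [MonoidAlgebra.coeff_single, Finsupp.single_apply]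
  rw [Finset.card_filter]
  push_cast
  rfl

end Frobenius

section Prim

variable {G : Type u} {Ω : Type v} {K : Type w} [Group G] [MulAction G Ω] [Group K]
variable {j : K →* G} {ω₀ : Ω}

/-- the set of `x : K` whose point lies in the orbit of `β` under the stabilizer of `ω₀` -/
def basicSet (j : K →* G) (ω₀ : Ω) (β : Ω) : Set K :=
  {x | ∃ s : G, s • ω₀ = ω₀ ∧ s • β = pt j ω₀ x}

theorem basicSet_tr {β : Ω} {x y : K} (hx : x ∈ basicSet j ω₀ β) (s : G) (hs : s • ω₀ = ω₀)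
    (h : s • pt j ω₀ x = pt j ω₀ y) : y ∈ basicSet j ω₀ β := by
  obtain ⟨s₁, hs₁, h₁⟩ := hx
  refine ⟨s * s₁, ?_, ?_⟩
  · rw [mul_smul, hs₁, hs]
  · rw [mul_smul, h₁, h]

theorem one_notMem_basicSet {β : Ω} (hβ : β ≠ ω₀) : (1 : K) ∉ basicSet j ω₀ β := by
  rintro ⟨s, hs, h⟩
  rw [pt_one] at h
  apply hβ
  have := congrArg (fun ω => s⁻¹ • ω) h
  simp only [inv_smul_smul] at this
  rw [this, ← hs, inv_smul_smul, hs]

theorem self_mem_basicSet (x : K) : x ∈ basicSet j ω₀ (pt j ω₀ x) :=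
  ⟨1, one_smul _ _, one_smul _ _⟩

theorem eq_univ_of_invariant [IsPretransitive G Ω] [Finite Ω]
    (hmax : IsCoatom (stabilizer G ω₀)) (B : Set Ω)
    (hne : B.Nonempty) (hstab : ∀ s : G, s • ω₀ = ω₀ → ∀ b ∈ B, s • b ∈ B) (g : G)
    (hg : g • ω₀ ≠ ω₀) (hgB : ∀ b ∈ B, g • b ∈ B) : B = Set.univ := by
  have hfin : B.Finite := Set.toFinite B
  have h1 : stabilizer G ω₀ ≤ stabilizer G B := by
    intro s hs
    rw [mem_stabilizer_set' hfin]
    intro b hb
    exact hstab s hs b hb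
  have h2 : g ∈ stabilizer G B := by
    rw [mem_stabilizer_set' hfin]
    intro b hb
    exact hgB b hb
  have h3 : stabilizer G ω₀ < stabilizer G B := by
    refine lt_of_le_of_ne h1 ?_
    intro heq
    apply hg
    have : g ∈ stabilizer G ω₀ := by rw [heq]; exact h2
    exact this
  have h4 : stabilizer G B = ⊤ := hmax.2 _ h3
  obtain ⟨b, hb⟩ := hne
  ext ω
  simp only [Set.mem_univ, iff_true]
  obtain ⟨g', hg'⟩ := exists_smul_eq G b ω
  have h5 : g' ∈ stabilizer G B := by rw [h4]; exact Subgroup.mem_top _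
  rw [mem_stabilizer_set' hfin] at h5
  rw [← hg']
  exact h5 hb

theorem inv_transport (s : G) (hs : s • ω₀ = ω₀) (y w : K)
    (h : s • pt j ω₀ y⁻¹ = pt j ω₀ w) :
    ∃ s' : G, s' • ω₀ = ω₀ ∧ s' • pt j ω₀ y = pt j ω₀ w⁻¹ := by
  refine ⟨(j w)⁻¹ * s * (j y)⁻¹, ?_, ?_⟩
  · have h1 : s • (j y)⁻¹ • ω₀ = j w • ω₀ := by
      simpa [pt] using h
    rw [mul_smul, mul_smul, h1, inv_smul_smul]
  · simp only [pt, map_inv, mul_smul, inv_smul_smul, hs]

theorem exists_notMem_of_coatom [IsPretransitive G Ω] [Finite Ω]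
    (hreg : Function.Bijective (pt j ω₀)) (hmax : IsCoatom (stabilizer G ω₀))
    (L : Subgroup K) (hL : L ≠ ⊤) (β : Ω) (hβ : β ≠ ω₀) :
    ∃ x ∈ basicSet j ω₀ β, x ∉ L := by
  by_contra hcon
  have hall : ∀ x ∈ basicSet j ω₀ β, x ∈ L := by
    intro x hx
    by_contra hxL
    exact hcon ⟨x, hx, hxL⟩
  set T := basicSet j ω₀ β with hT
  set K' := Subgroup.closure T with hK'
  have hK'L : K' ≤ L := (Subgroup.closure_le L).2 hall
  have hP : ∀ k ∈ K', ∀ s : G, s • ω₀ = ω₀ → ∃ k' ∈ K', s • pt j ω₀ k = pt j ω₀ k' := by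
    intro k hk
    induction hk using Subgroup.closure_induction_right with
    | one =>
      intro s hs
      exact ⟨1, one_mem _, by rw [pt_one, hs]⟩
    | mul_right x hx y hy ih =>
      intro s hs
      obtain ⟨k', hk', h1⟩ := ih s hs
      have hs' : ((j k')⁻¹ * s * j x) • ω₀ = ω₀ := by
        have h2 : s • j x • ω₀ = j k' • ω₀ := h1
        rw [mul_smul, mul_smul, h2, inv_smul_smul]
      refine ⟨k' * tr hreg ((j k')⁻¹ * s * j x) y, ?_, ?_⟩
      · apply mul_mem hk'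
        apply Subgroup.subset_closure
        exact basicSet_tr hy _ hs' (pt_tr hreg _ y).symm
      · rw [pt_mul, pt_mul, pt_tr]
        simp only [mul_smul, smul_inv_smul]
    | mul_inv_cancel x hx y hy ih =>
      intro s hs
      obtain ⟨k', hk', h1⟩ := ih s hs
      have hs' : ((j k')⁻¹ * s * j x) • ω₀ = ω₀ := by
        have h2 : s • j x • ω₀ = j k' • ω₀ := h1
        rw [mul_smul, mul_smul, h2, inv_smul_smul]
      refine ⟨k' * tr hreg ((j k')⁻¹ * s * j x) y⁻¹, ?_, ?_⟩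
      · apply mul_mem hk'
        obtain ⟨s'', hs'', h3⟩ := inv_transport _ hs' y _ (pt_tr hreg _ y⁻¹).symm
        have h4 : (tr hreg ((j k')⁻¹ * s * j x) y⁻¹)⁻¹ ∈ T := basicSet_tr hy s'' hs'' h3
        have h5 : _ ∈ K' := inv_mem (Subgroup.subset_closure h4)
        rwa [inv_inv] at h5
      · rw [pt_mul, pt_mul, pt_tr]
        simp only [mul_smul, smul_inv_smul]
  -- the set of points of K' is invariant
  obtain ⟨t, ht⟩ : ∃ t, t ∈ T := by
    obtain ⟨x, hx⟩ := hreg.2 β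
    exact ⟨x, by rw [hT, ← hx]; exact self_mem_basicSet x⟩
  have htK' : t ∈ K' := Subgroup.subset_closure ht
  have huniv := eq_univ_of_invariant hmax {ω | ∃ k ∈ K', ω = pt j ω₀ k}
    ⟨pt j ω₀ 1, 1, one_mem _, rfl⟩
    (by
      rintro s hs b ⟨k, hk, rfl⟩
      obtain ⟨k', hk', h1⟩ := hP k hk s hs
      exact ⟨k', hk', h1⟩)
    (j t)
    (by
      intro h
      have h1 : pt j ω₀ t = pt j ω₀ 1 := by rw [pt_one]; exact h
      have h2 := hreg.1 h1
      rw [h2] at ht
      exact one_notMem_basicSet hβ ht)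
    (by
      rintro b ⟨k, hk, rfl⟩
      exact ⟨t * k, mul_mem htK' hk, (pt_mul j ω₀ t k).symm⟩)
  apply hL
  rw [eq_top_iff]
  intro y _
  apply hK'L
  have : pt j ω₀ y ∈ {ω | ∃ k ∈ K', ω = pt j ω₀ k} := by rw [huniv]; exact Set.mem_univ _
  obtain ⟨k, hk, h1⟩ := this
  rw [hreg.1 h1]
  exact hk

theorem not_mul_invariant [IsPretransitive G Ω] [Finite Ω]
    (hreg : Function.Bijective (pt j ω₀)) (hmax : IsCoatom (stabilizer G ω₀))
    (β : Ω) (hβ : β ≠ ω₀) (u : K) (hu : u ≠ 1)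
    (h : ∀ x ∈ basicSet j ω₀ β, u * x ∈ basicSet j ω₀ β) : False := by
  have huniv := eq_univ_of_invariant hmax {ω | ∃ k ∈ basicSet j ω₀ β, ω = pt j ω₀ k}
    (by
      obtain ⟨x, hx⟩ := hreg.2 β
      exact ⟨pt j ω₀ x, x, by rw [← hx]; exact self_mem_basicSet x, rfl⟩)
    (by
      rintro s hs b ⟨k, hk, rfl⟩
      exact ⟨tr hreg s k, basicSet_tr hk s hs (pt_tr hreg s k).symm, (pt_tr hreg s k).symm⟩)
    (j u)
    (by
      intro h1
      have h2 : pt j ω₀ u = pt j ω₀ 1 := by rw [pt_one]; exact h1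
      exact hu (hreg.1 h2))
    (by
      rintro b ⟨k, hk, rfl⟩
      exact ⟨u * k, h k hk, (pt_mul j ω₀ u k).symm⟩)
  have : pt j ω₀ 1 ∈ {ω | ∃ k ∈ basicSet j ω₀ β, ω = pt j ω₀ k} := by
    rw [huniv]; exact Set.mem_univ _
  obtain ⟨k, hk, h1⟩ := this
  rw [← hreg.1 h1] at hk
  exact one_notMem_basicSet hβ hk

end Prim

section Cyclic

variable {G : Type u} {Ω : Type v} {K : Type w} [Group G] [MulAction G Ω] [CommGroup K]
  [Fintype K] [DecidableEq K]
variable {j : K →* G} {ω₀ : Ω}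

open Classical in
/-- `basicSet` as a finset -/
noncomputable def basicFin (j : K →* G) (ω₀ : Ω) (β : Ω) : Finset K :=
  Finset.univ.filter (fun x => x ∈ basicSet j ω₀ β)

theorem mem_basicFin {β : Ω} {x : K} : x ∈ basicFin j ω₀ β ↔ x ∈ basicSet j ω₀ β := by
  simp [basicFin]

theorem frob_inv (hreg : Function.Bijective (pt j ω₀)) (p : ℕ) [Fact p.Prime] (β : Ω) (s : G)
    (hs : s • ω₀ = ω₀) (z z' : K) (h : s • pt j ω₀ z = pt j ω₀ z') :
    (((basicFin j ω₀ β).filter (fun t => t ^ p = z)).card : ZMod p) =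
      (((basicFin j ω₀ β).filter (fun t => t ^ p = z')).card : ZMod p) := by
  rw [← ind_pow_coeff, ← ind_pow_coeff]
  have hInd : StabInv j ω₀ (fun x => (ind p (basicFin j ω₀ β)).coeff x) := by
    intro s hs x y hxy
    have : x ∈ basicSet j ω₀ β ↔ y ∈ basicSet j ω₀ β :=
      ⟨fun hx => basicSet_tr hx s hs hxy,
        fun hy => basicSet_tr hy s⁻¹ (by rw [inv_smul_eq_iff, hs]) (by rw [inv_smul_eq_iff, hxy])⟩
    have hx : x ∈ basicFin j ω₀ β ↔ y ∈ basicFin j ω₀ β := by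
      rw [mem_basicFin, mem_basicFin]; exact this
    simp only [ind_coeff]
    by_cases hh : x ∈ basicFin j ω₀ β
    · rw [if_pos hh, if_pos (hx.1 hh)]
    · rw [if_neg hh, if_neg (fun h => hh (hx.2 h))]
  exact stabInv_pow hreg _ hInd p s hs z z' h

variable [IsCyclic K]

theorem card_pow_fibre_le (p : ℕ) (hp : 0 < p) (t : K) :
    (Finset.univ.filter (fun t' : K => t' ^ p = t ^ p)).card ≤ p := by
  have h1 : Finset.univ.filter (fun t' : K => t' ^ p = t ^ p) ⊆
      (Finset.univ.filter (fun u : K => u ^ p = 1)).image (fun u => t * u) := by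
    intro t' ht'
    rw [Finset.mem_filter] at ht'
    rw [Finset.mem_image]
    refine ⟨t⁻¹ * t', ?_, by simp⟩
    rw [Finset.mem_filter]
    refine ⟨Finset.mem_univ _, ?_⟩
    rw [mul_pow, ht'.2, inv_pow, inv_mul_cancel]
  calc (Finset.univ.filter (fun t' : K => t' ^ p = t ^ p)).card
      ≤ ((Finset.univ.filter (fun u : K => u ^ p = 1)).image (fun u => t * u)).card :=
        Finset.card_le_card h1
    _ ≤ (Finset.univ.filter (fun u : K => u ^ p = 1)).card := Finset.card_image_le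
    _ ≤ p := IsCyclic.card_pow_eq_one_le hp

theorem pow_range_ne_top (p : ℕ) [Fact p.Prime] (hp : p ∣ Fintype.card K) :
    (powMonoidHom p : K →* K).range ≠ ⊤ := by
  intro htop
  obtain ⟨u, hu⟩ := exists_prime_orderOf_dvd_card p hp
  have hsurj : Function.Surjective (powMonoidHom p : K →* K) :=
    MonoidHom.range_eq_top.1 htop
  have hinj : Function.Injective (powMonoidHom p : K →* K) :=
    Finite.injective_iff_surjective.2 hsurj
  have h1 : (powMonoidHom p : K →* K) u = (powMonoidHom p : K →* K) 1 := by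
    simp only [powMonoidHom_apply, one_pow]
    rw [← hu]; exact pow_orderOf_eq_one u
  have h2 := hinj h1
  rw [h2, orderOf_one] at hu
  exact (Fact.out : p.Prime).one_lt.ne hu

theorem coset_closed [IsPretransitive G Ω] [Finite Ω]
    (hreg : Function.Bijective (pt j ω₀)) (hmax : IsCoatom (stabilizer G ω₀))
    (p : ℕ) [Fact p.Prime] (hp : p ∣ Fintype.card K) (β : Ω) (t : K)
    (ht : t ∈ basicSet j ω₀ β) (htp : t ^ p ≠ 1) (u : K) (hu : u ^ p = 1) :
    t * u ∈ basicSet j ω₀ β := by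
  have hpp : p.Prime := Fact.out
  set T := basicFin j ω₀ β with hT
  set z := t ^ p with hz
  have htT : t ∈ T := mem_basicFin.2 ht
  have hcz : ((T.filter (fun t' => t' ^ p = z)).card : ZMod p) = 0 := by
    by_contra hne
    have hzne : pt j ω₀ z ≠ ω₀ := by
      intro h
      apply htp
      apply hreg.1
      rw [h, pt_one]
    obtain ⟨x, hx, hxL⟩ := exists_notMem_of_coatom hreg hmax _ (pow_range_ne_top p hp)
      (pt j ω₀ z) hzne
    obtain ⟨s, hs, hsx⟩ := hx
    have h1 := frob_inv hreg p β s hs z x hsx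
    rw [← hT] at h1
    rw [h1] at hne
    have h2 : (T.filter (fun t' => t' ^ p = x)).card ≠ 0 := by
      intro h0
      apply hne
      rw [h0]; simp
    obtain ⟨t', ht'⟩ := Finset.card_pos.1 (Nat.pos_of_ne_zero h2)
    rw [Finset.mem_filter] at ht'
    apply hxL
    exact ⟨t', ht'.2⟩
  have hdvd : p ∣ (T.filter (fun t' => t' ^ p = z)).card :=
    (ZMod.natCast_eq_zero_iff _ _).1 hcz
  have hpos : 0 < (T.filter (fun t' => t' ^ p = z)).card :=
    Finset.card_pos.2 ⟨t, Finset.mem_filter.2 ⟨htT, rfl⟩⟩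
  have hge : p ≤ (T.filter (fun t' => t' ^ p = z)).card := Nat.le_of_dvd hpos hdvd
  have hsub : T.filter (fun t' => t' ^ p = z) ⊆ Finset.univ.filter (fun t' : K => t' ^ p = z) := by
    intro t' ht'
    rw [Finset.mem_filter] at ht' ⊢
    exact ⟨Finset.mem_univ _, ht'.2⟩
  have heq : T.filter (fun t' => t' ^ p = z) = Finset.univ.filter (fun t' : K => t' ^ p = z) :=
    Finset.eq_of_subset_of_card_le hsub ((card_pow_fibre_le p hpp.pos t).trans hge)
  have h3 : t * u ∈ Finset.univ.filter (fun t' : K => t' ^ p = z) := by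
    rw [Finset.mem_filter]
    refine ⟨Finset.mem_univ _, ?_⟩
    rw [mul_pow, hu, mul_one]
  rw [← heq, Finset.mem_filter] at h3
  exact mem_basicFin.1 h3.1

theorem meets_torsion [IsPretransitive G Ω] [Finite Ω]
    (hreg : Function.Bijective (pt j ω₀)) (hmax : IsCoatom (stabilizer G ω₀))
    (p : ℕ) [Fact p.Prime] (hp : p ∣ Fintype.card K) (β : Ω) (hβ : β ≠ ω₀) :
    ∃ t ∈ basicSet j ω₀ β, t ^ p = 1 := by
  by_contra hcon
  have hall : ∀ t ∈ basicSet j ω₀ β, t ^ p ≠ 1 := by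
    intro t ht h1
    exact hcon ⟨t, ht, h1⟩
  obtain ⟨u, hu⟩ := exists_prime_orderOf_dvd_card p hp
  have hu1 : u ≠ 1 := by
    intro h
    rw [h, orderOf_one] at hu
    exact (Fact.out : p.Prime).one_lt.ne hu
  have hup : u ^ p = 1 := by rw [← hu]; exact pow_orderOf_eq_one u
  apply not_mul_invariant hreg hmax β hβ u hu1
  intro x hx
  rw [mul_comm]
  exact coset_closed hreg hmax p hp β x hx (hall x hx) u hup

theorem mem_basicSet_of_orderOf [IsPretransitive G Ω] [Finite Ω]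
    (hreg : Function.Bijective (pt j ω₀)) (hmax : IsCoatom (stabilizer G ω₀))
    (p q : ℕ) [Fact p.Prime] [Fact q.Prime] (hpq : p ≠ q) (hp : p ∣ Fintype.card K)
    (hq : q ∣ Fintype.card K) (u₀ : K) (hu₀ : orderOf u₀ = p) (β : Ω) (hβ : β ≠ ω₀) :
    u₀ ∈ basicSet j ω₀ β := by
  have hpp : p.Prime := Fact.out
  have hqp : q.Prime := Fact.out
  obtain ⟨v, hv, hvq⟩ := meets_torsion hreg hmax q hq β hβ
  have hv1 : v ≠ 1 := by
    intro h
    rw [h] at hv
    exact one_notMem_basicSet hβ hv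
  have hvp : v ^ p ≠ 1 := by
    intro h
    apply hv1
    have h1 : orderOf v ∣ p := orderOf_dvd_of_pow_eq_one h
    have h2 : orderOf v ∣ q := orderOf_dvd_of_pow_eq_one hvq
    have h3 : orderOf v ∣ Nat.gcd p q := Nat.dvd_gcd h1 h2
    rw [(Nat.coprime_primes hpp hqp).2 hpq] at h3
    exact orderOf_eq_one_iff.1 (Nat.dvd_one.1 h3)
  have hu₀p : u₀ ^ p = 1 := by rw [← hu₀]; exact pow_orderOf_eq_one u₀
  have h1 : v * u₀ ∈ basicSet j ω₀ β := coset_closed hreg hmax p hp β v hv hvp u₀ hu₀p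
  have h2 : (v * u₀) ^ q ≠ 1 := by
    rw [mul_pow, hvq, one_mul]
    intro h
    have h3 : orderOf u₀ ∣ q := orderOf_dvd_of_pow_eq_one h
    rw [hu₀] at h3
    exact hpq ((Nat.prime_dvd_prime_iff_eq hpp hqp).1 h3)
  have h3 := coset_closed hreg hmax q hq β (v * u₀) h1 h2 v⁻¹ (by rw [inv_pow, hvq, inv_one])
  have h4 : v * u₀ * v⁻¹ = u₀ := by
    rw [mul_comm v u₀, mul_assoc, mul_inv_cancel, mul_one]
  rwa [h4] at h3

/-- the stabilizer of `ω₀` is transitive on the other points -/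
theorem stabilizer_transitive [IsPretransitive G Ω] [Finite Ω]
    (hreg : Function.Bijective (pt j ω₀)) (hmax : IsCoatom (stabilizer G ω₀))
    (hnpp : ¬ IsPrimePow (Fintype.card K)) (h2 : 2 ≤ Fintype.card K)
    (β β' : Ω) (hβ : β ≠ ω₀) (hβ' : β' ≠ ω₀) : ∃ s : G, s • ω₀ = ω₀ ∧ s • β = β' := by
  obtain ⟨p, hpp, hpd⟩ := Nat.exists_prime_and_dvd (n := Fintype.card K) (by omega)
  have hq : ∃ q, q.Prime ∧ q ∣ Fintype.card K ∧ p ≠ q := by
    by_contra hcon
    apply hnpp
    rw [isPrimePow_iff_unique_prime_dvd]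
    refine ⟨p, ⟨hpp, hpd⟩, ?_⟩
    rintro q ⟨hqp, hqd⟩
    by_contra hne
    exact hcon ⟨q, hqp, hqd, fun h => hne h.symm⟩
  obtain ⟨q, hqp, hqd, hpq⟩ := hq
  have : Fact p.Prime := ⟨hpp⟩
  have : Fact q.Prime := ⟨hqp⟩
  obtain ⟨u₀, hu₀⟩ := exists_prime_orderOf_dvd_card p hpd
  obtain ⟨s₁, hs₁, h₁⟩ := mem_basicSet_of_orderOf hreg hmax p q hpq hpd hqd u₀ hu₀ β hβ
  obtain ⟨s₂, hs₂, h₂⟩ := mem_basicSet_of_orderOf hreg hmax p q hpq hpd hqd u₀ hu₀ β' hβ'
  refine ⟨s₂⁻¹ * s₁, ?_, ?_⟩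
  · rw [mul_smul, hs₁, inv_smul_eq_iff, hs₂]
  · rw [mul_smul, h₁, inv_smul_eq_iff, h₂]

end Cyclic

end Cfsg.Agent.Lib.Helper59.SR
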