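import Cfsg.Agent.S1414
import Cfsg.Agent.S1405
import Cfsg.Agent.Lib.Helper55.Cores

/-!
BG: for a maximal subgroup `M` of a minimal simple group of odd order, `M_σ ≠ 1`.
(piece (P4) of the BG 11.5 split)
-/

set_option autoImplicit false
set_option linter.style.haveILetI false

namespace Cfsg.Agent.Lib.Helper59.BG

open Cfsg

/-- A normal subgroup whose index is prime to `q` contains every `q`-subgroup. -/
theorem le_of_not_dvd_index {M : Type*} [Group M] [Finite M] {q : ℕ} (hq : q.Prime)
    (K : Subgroup M) [K.Normal] (hK : ¬ q ∣ K.index) {P : Subgroup M} (hP : IsPGroup q P) :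
    P ≤ K := by
  intro x hx
  obtain ⟨k, hk⟩ := hP ⟨x, hx⟩
  have hk' : x ^ (q ^ k) = 1 := by
    have := congrArg Subtype.val hk
    simpa using this
  have h1 : ((x : M) : M ⧸ K) ^ (q ^ k) = 1 := by
    rw [← QuotientGroup.mk_pow, hk']; rfl
  have h2 : ((x : M) : M ⧸ K) ^ K.index = 1 := by
    rw [Subgroup.index_eq_card]; exact pow_card_eq_one'
  have hcop : Nat.gcd (q ^ k) K.index = 1 :=
    Nat.Coprime.pow_left k ((Nat.Prime.coprime_iff_not_dvd hq).2 hK)
  have h3 : ((x : M) : M ⧸ K) = 1 := by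
    have := pow_gcd_eq_one.2 ⟨h1, h2⟩
    rw [hcop, pow_one] at this
    exact this
  exact (QuotientGroup.eq_one_iff x).1 h3

variable {G : Type*} [Group G]

theorem coatom_ne_bot (hG : Cfsg.IsMinSimpleOddOrder G) {M : Subgroup G} (hM : IsCoatom M) :
    M ≠ ⊥ := by
  intro hbot
  subst hbot
  apply hG.2.2.1
  refine ⟨⟨fun a b => ?_⟩⟩
  by_cases ha : a = 1
  · subst ha; simp
  · have hz : Subgroup.zpowers a = ⊤ := by
      apply hM.2
      exact bot_lt_iff_ne_bot.2 (by simpa using ha)
    have hb : b ∈ Subgroup.zpowers a := hz ▸ Subgroup.mem_top b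
    obtain ⟨k, rfl⟩ := Subgroup.mem_zpowers_iff.1 hb
    exact (Commute.self_zpow a k).eq  

theorem sigmaCore_ne_bot [Finite G] (hG : Cfsg.IsMinSimpleOddOrder G) {M : Subgroup G} (hM : IsCoatom M) :
    Cfsg.sigmaCore M ≠ ⊥ := by
  classical
  by_cases hα : ∃ r, r ∈ Cfsg.alpha M
  · -- some prime of `α(M)`: `M_α ≠ 1` and `M_α ≤ M_σ`
    obtain ⟨r, hr⟩ := hα
    obtain ⟨hHall, -, hle, -, -⟩ := Cfsg.Agent.S1405.result hG M hM
    have hrp : r.Prime := hr.1
    have hrM : r ∣ Nat.card M := by
      have h2 := hr.2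
      unfold Cfsg.PRankLE at h2
      push Not at h2
      obtain ⟨A, -, hA, hcard⟩ := h2
      have hne : A ≠ ⊥ := by
        intro h
        subst h
        have h1 : Nat.card (⊥ : Subgroup M) = 1 := Subgroup.card_bot
        have : 1 ≤ r ^ 2 := Nat.one_le_pow _ _ hrp.pos
        omega
      obtain ⟨a, ha1⟩ := (Subgroup.ne_bot_iff_exists_ne_one).1 hne
      haveI : Fact r.Prime := ⟨hrp⟩
      have hord : orderOf (a : M) = r := by
        refine orderOf_eq_prime (hA a a.2) ?_
        intro h; exact ha1 (Subtype.ext h)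
      rw [← hord]
      exact orderOf_dvd_natCard _
    have hmul := Cfsg.Agent.Lib.Helper55.card_mul_relIndex_eq hHall.1
    have hdvd : r ∣ Nat.card (Cfsg.alphaCore M) := by
      rw [← hmul] at hrM
      rcases (Nat.Prime.dvd_mul hrp).1 hrM with h | h
      · exact h
      · exact absurd h (hHall.2.2 r hrp hr)
    intro hbot
    have hαbot : Cfsg.alphaCore M = ⊥ := le_bot_iff.1 (hbot ▸ hle)
    rw [hαbot] at hdvd
    simp at hdvd
    exact hrp.one_lt.ne' hdvd
  · -- `α(M) = ∅`, hence `β(M) = ∅`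
    have hβ : ∀ p, p ∉ Cfsg.beta M := fun p hp => hα ⟨p, hp.1⟩
    obtain ⟨-, -, -, -, hlast⟩ := Cfsg.Agent.S1414.result hG M hM
    have hMbot : M ≠ ⊥ := coatom_ne_bot hG hM
    have hcard1 : 1 < Nat.card M := by
      rcases Nat.lt_or_ge 1 (Nat.card M) with h | h
      · exact h
      · exfalso
        apply hMbot
        have : Nat.card M = 1 := le_antisymm h Nat.card_pos
        exact Subgroup.card_eq_one.1 this
    have hne : (Nat.card M).primeFactors.Nonempty := Nat.nonempty_primeFactors.2 hcard1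
    set q := (Nat.card M).primeFactors.max' hne with hqdef
    have hqmem : q ∈ (Nat.card M).primeFactors := Finset.max'_mem _ hne
    have hqp : q.Prime := Nat.prime_of_mem_primeFactors hqmem
    have hqM : q ∣ Nat.card M := Nat.dvd_of_mem_primeFactors hqmem
    have hqmax : ∀ r : ℕ, r.Prime → r ∣ Nat.card M → r ≤ q := by
      intro r hr hrM
      apply Finset.le_max'
      exact Nat.mem_primeFactors.2 ⟨hr, hrM, by omega⟩
    haveI : Fact q.Prime := ⟨hqp⟩
    -- the intersection of the `O_{r'}(M)`, `r ≠ q`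
    let I := {r : ℕ // r.Prime ∧ r ∣ Nat.card M ∧ r ≠ q}
    set N : Subgroup M := ⨅ r : I, Cfsg.pPrimeCore r.1 M with hNdef
    haveI hNn : N.Normal := Subgroup.normal_iInf_normal fun r => inferInstance
    obtain ⟨P⟩ : Nonempty (Sylow q M) := inferInstance
    have hPN : (P : Subgroup M) ≤ N := by
      refine le_iInf fun r => ?_
      apply le_of_not_dvd_index hqp _ _ P.2
      intro hdvd
      have h1 := (hlast r.1 r.2.1 r.2.2.1 (hβ _)).2.2 q hqp hdvd
      have h2 := hqmax r.1 r.2.1 r.2.2.1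
      exact r.2.2.2 (le_antisymm h2 h1)
    have hNq : IsPGroup q N := by
      have hcardN : Nat.card N = q ^ (Nat.card N).primeFactorsList.length := by
        apply Nat.eq_prime_pow_of_unique_prime_dvd Nat.card_pos.ne'
        intro r hr hrN
        by_contra hrq
        have hrM : r ∣ Nat.card M := hrN.trans (Subgroup.card_subgroup_dvd_card N)
        have hle : N ≤ Cfsg.pPrimeCore r M := iInf_le _ (⟨r, hr, hrM, hrq⟩ : I)
        have hdvd : r ∣ Nat.card (Cfsg.pPrimeCore r M) :=
          hrN.trans (Subgroup.card_dvd_of_le hle)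
        have hcop := Cfsg.Agent.Lib.Helper55.pPrimeCore_card_coprime (G := M) r
        have : r ∣ Nat.gcd (Nat.card (Cfsg.pPrimeCore r M)) r := Nat.dvd_gcd hdvd dvd_rfl
        rw [hcop] at this
        exact hr.one_lt.ne' (Nat.dvd_one.1 this)
      exact IsPGroup.of_card hcardN
    have hNP : N = (P : Subgroup M) := P.is_maximal' hNq hPN
    haveI hPn : (P : Subgroup M).Normal := hNP ▸ hNn
    -- `N_G(P) = M`
    set P' : Subgroup G := (P : Subgroup M).map M.subtype with hP'
    have hP'M : P' ≤ M := by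
      rintro _ ⟨x, -, rfl⟩
      exact x.2
    have hMle : M ≤ Subgroup.normalizer (P' : Set G) := by
      rw [Subgroup.le_normalizer_iff]
      rintro m hm _ ⟨x, hx, rfl⟩
      refine ⟨(⟨m, hm⟩ : M) * x * (⟨m, hm⟩ : M)⁻¹, hPn.conj_mem x hx _, ?_⟩
      simp
    have hPne : (P : Subgroup M) ≠ ⊥ := by
      intro h
      have hc : Nat.card (P : Subgroup M) = 1 := by rw [h]; simp
      have := P.card_eq_multiplicity
      rw [hc] at this
      have hfac : 0 < (Nat.card M).factorization q :=
        hqp.factorization_pos_of_dvd Nat.card_pos.ne' hqM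
      have : 1 < q ^ (Nat.card M).factorization q :=
        Nat.one_lt_pow hfac.ne' hqp.one_lt
      omega
    have hP'ne : P' ≠ ⊥ := by
      intro h
      apply hPne
      rw [hP'] at h
      exact (Subgroup.map_eq_bot_iff_of_injective _ M.subtype_injective).1 h
    have hnorm : Subgroup.normalizer (P' : Set G) ≤ M := by
      have hne_top : Subgroup.normalizer (P' : Set G) ≠ ⊤ := by
        intro htop
        have hn : P'.Normal := Subgroup.normalizer_eq_top_iff.1 htop
        haveI := hG.2.1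
        rcases hn.eq_bot_or_eq_top with h | h
        · exact hP'ne h
        · exact hM.1 (top_le_iff.1 (h ▸ hP'M))
      rcases eq_or_lt_of_le hMle with h | h
      · exact h.ge
      · exact absurd (hM.2 _ h) hne_top
    have hqσ : q ∈ Cfsg.sigma M := ⟨hqp, hqM, P, hnorm⟩
    -- `P ≤ O_σ(M)`
    have hPle : (P : Subgroup M) ≤ Cfsg.piCore (Cfsg.sigma M) M := by
      apply le_sSup
      refine ⟨hPn, ?_⟩
      intro r hr hrP
      obtain ⟨k, hk⟩ := (IsPGroup.iff_card).1 P.2
      rw [hk] at hrP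
      have := (Nat.prime_dvd_prime_iff_eq hr hqp).1 (hr.dvd_of_dvd_pow hrP)
      exact this ▸ hqσ
    intro hbot
    unfold Cfsg.sigmaCore at hbot
    have h1 : Cfsg.piCore (Cfsg.sigma M) M = ⊥ :=
      (Subgroup.map_eq_bot_iff_of_injective _ M.subtype_injective).1 hbot
    exact hPne (le_bot_iff.1 (h1 ▸ hPle))

end Cfsg.Agent.Lib.Helper59.BG
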