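import Mathlib
import Cfsg.Prelude.Def_GeometricClasses

/-!
# SPT-E4 (S5980 hive, owner helper31): an orthogonal involution with prescribed `(-1)`-eigenspace
dimension, for the Gram matrix of a symmetric form in characteristic `≠ 2`.

Only the symmetry of the Gram matrix is used: orthogonal basis `v` (columns of `M`), `D` diagonal with
`-1` at `i < k` and `1` otherwise, `B = M D M⁻¹`.
-/

set_option autoImplicit false
open Matrix

namespace Cfsg.Agent.Lib.Helper31.SpTns

universe v

variable {F : Type v} [Field F]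

/-- number of indices `i : Fin b` with `¬ i < k`. -/
theorem e4_card {b k : ℕ} (hk : k ≤ b) :
    Fintype.card {i : Fin b // ¬ ((i : ℕ) < k)} = b - k := by
  rw [Fintype.card_subtype_compl, Fintype.card_fin, Fintype.card_subtype, Fin.card_filter_val_lt,
    min_eq_right hk]

/-- pure matrix version. -/
theorem e4_core {b : ℕ} (h2 : (2 : F) ≠ 0) (G : Matrix (Fin b) (Fin b) F) (hG : G.IsSymm)
    (k : ℕ) (hk : k ≤ b) :
    ∃ B : GL (Fin b) F, B.valᵀ * G * B.val = G ∧ B * B = 1 ∧ (B.val + 1).rank = b - k := by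
  classical
  haveI : Invertible (2 : F) := invertibleOfNonzero h2
  have hsymm : (Matrix.toBilin' G).IsSymm := Matrix.isSymm_toBilin'_iff_isSymm.mpr hG
  obtain ⟨v0, hv0⟩ := LinearMap.BilinForm.exists_orthogonal_basis
    (LinearMap.BilinForm.isSymm_iff.mp hsymm)
  have hfr : Module.finrank F (Fin b → F) = b := by simp
  let v : Module.Basis (Fin b) F (Fin b → F) := v0.reindex (finCongr hfr)
  have hv : ∀ i j, i ≠ j → (v i) ⬝ᵥ (G *ᵥ (v j)) = 0 := by
    intro i j hij
    have h1 := hv0 (i := (finCongr hfr).symm i) (j := (finCongr hfr).symm j)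
      (fun h => hij ((finCongr hfr).symm.injective h))
    have h2 : (Matrix.toBilin' G) (v i) (v j) = 0 := by
      simpa [v, Function.onFun, LinearMap.IsOrtho] using h1
    rw [Matrix.toBilin'_apply'] at h2
    exact h2
  let M : Matrix (Fin b) (Fin b) F := (Pi.basisFun F (Fin b)).toMatrix v
  let M' : Matrix (Fin b) (Fin b) F := v.toMatrix (Pi.basisFun F (Fin b))
  have hMM' : M * M' = 1 := Module.Basis.toMatrix_mul_toMatrix_flip _ _
  have hM'M : M' * M = 1 := Module.Basis.toMatrix_mul_toMatrix_flip _ _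
  have hMapp : ∀ i j, M i j = v j i := by
    intro i j
    simp [M, Module.Basis.toMatrix_apply]
  -- `Mᵀ G M` is diagonal
  have hΔ : ∀ i j, (Mᵀ * G * M) i j = (v i) ⬝ᵥ (G *ᵥ (v j)) := by
    intro i j
    rw [Matrix.mul_assoc, Matrix.mul_apply]
    simp only [dotProduct, mulVec, Matrix.transpose_apply, Matrix.mul_apply, hMapp]
  set δ : Fin b → F := fun i => (Mᵀ * G * M) i i with hδ
  have hΔd : Mᵀ * G * M = diagonal δ := by
    ext i j
    by_cases hij : i = j
    · subst hij; simp [hδ]
    · rw [Matrix.diagonal_apply_ne _ hij, hΔ, hv i j hij]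
  set ε : Fin b → F := fun i => if (i : ℕ) < k then -1 else 1 with hε
  have hεsq : ∀ i, ε i * ε i = 1 := by
    intro i
    simp only [hε]
    split_ifs <;> simp
  have hDD : diagonal ε * diagonal ε = (1 : Matrix (Fin b) (Fin b) F) := by
    rw [Matrix.diagonal_mul_diagonal, ← Matrix.diagonal_one]
    congr 1
    funext i
    exact hεsq i
  have hDΔD : diagonal ε * diagonal δ * diagonal ε = diagonal δ := by
    rw [Matrix.diagonal_mul_diagonal, Matrix.diagonal_mul_diagonal]
    congr 1
    funext i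
    rw [mul_comm (ε i) (δ i), mul_assoc, hεsq, mul_one]
  have hBB : (M * diagonal ε * M') * (M * diagonal ε * M') = 1 := by
    calc (M * diagonal ε * M') * (M * diagonal ε * M')
        = M * diagonal ε * (M' * M) * diagonal ε * M' := by simp only [Matrix.mul_assoc]
      _ = M * (diagonal ε * diagonal ε) * M' := by rw [hM'M]; simp only [Matrix.mul_assoc, Matrix.one_mul]
      _ = 1 := by rw [hDD, Matrix.mul_one, hMM']
  refine ⟨⟨M * diagonal ε * M', M * diagonal ε * M', hBB, hBB⟩, ?_, ?_, ?_⟩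
  · show (M * diagonal ε * M')ᵀ * G * (M * diagonal ε * M') = G
    have hG' : G = M'ᵀ * (Mᵀ * G * M) * M' := by
      calc G = (M * M')ᵀ * G * (M * M') := by rw [hMM']; simp
        _ = M'ᵀ * (Mᵀ * G * M) * M' := by
          rw [Matrix.transpose_mul]; simp only [Matrix.mul_assoc]
    calc (M * diagonal ε * M')ᵀ * G * (M * diagonal ε * M')
        = M'ᵀ * (diagonal ε * (Mᵀ * G * M) * diagonal ε) * M' := by
          rw [Matrix.transpose_mul, Matrix.transpose_mul, Matrix.diagonal_transpose]
          simp only [Matrix.mul_assoc]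
      _ = M'ᵀ * (Mᵀ * G * M) * M' := by rw [hΔd, hDΔD]
      _ = G := hG'.symm
  · apply Units.ext
    exact hBB
  · show (M * diagonal ε * M' + 1).rank = b - k
    have hMu : IsUnit M.det := (Matrix.isUnit_iff_isUnit_det _).mp ⟨⟨M, M', hMM', hM'M⟩, rfl⟩
    have hM'u : IsUnit M'.det := (Matrix.isUnit_iff_isUnit_det _).mp ⟨⟨M', M, hM'M, hMM'⟩, rfl⟩
    have h1 : M * diagonal ε * M' + 1 = M * (diagonal (fun i => ε i + 1)) * M' := by
      have : (diagonal (fun i => ε i + 1) : Matrix (Fin b) (Fin b) F) = diagonal ε + 1 := by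
        rw [← Matrix.diagonal_one, Matrix.diagonal_add]
      rw [this, Matrix.mul_add, Matrix.add_mul, Matrix.mul_one, hMM']
    rw [h1, Matrix.rank_mul_eq_left_of_isUnit_det _ _ hM'u,
      Matrix.rank_mul_eq_right_of_isUnit_det _ _ hMu, Matrix.rank_diagonal, ← e4_card hk]
    apply Fintype.card_congr
    refine Equiv.subtypeEquivRight (fun i => ?_)
    simp only [hε]
    split_ifs with h
    · simp [h]
    · simp only [h, not_false_eq_true, iff_true]
      rw [one_add_one_eq_two]
      exact h2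

/-- SPT-E4. -/
theorem exists_orth_invol {b : ℕ} (h2 : (2 : F) ≠ 0) (f₂ : (Fin b → F) → (Fin b → F) → F)
    (hf₂ : Cfsg.Geo.IsSymmetricForm f₂) (k : ℕ) (hk : k ≤ b) :
    ∃ B : GL (Fin b) F, B.valᵀ * Cfsg.Geo.gramMatrix f₂ * B.val = Cfsg.Geo.gramMatrix f₂ ∧
      B * B = 1 ∧ (B.val + 1).rank = b - k := by
  refine e4_core h2 _ ?_ k hk
  ext i j
  simp only [Matrix.transpose_apply, Cfsg.Geo.gramMatrix]
  exact hf₂.symm _ _

end Cfsg.Agent.Lib.Helper31.SpTns
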