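import Mathlib
import Cfsg.Prelude.Def_GeometricClasses
import Cfsg.Agent.Lib.Helper13.Symp
import Cfsg.Agent.Lib.Helper8.SpTransv

/-!
# SPT-S1 (S5980 hive, owner helper31): a symplectic transvection of `Sp_{2d}(F)`, char `p`:
`x = sympTransvection d (Pi.single (inl 0) 1) 1`, `x^p = 1`, non-scalar, `rank (x - 1) = 1`.
-/

set_option autoImplicit false
open scoped MatrixGroups Kronecker
open Matrix Polynomial

namespace Cfsg.Agent.Lib.Helper31.SpTns

universe v

variable {F : Type v} [Field F]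

theorem s1_pow (d : ℕ) (v : Fin d ⊕ Fin d → F) (k : ℕ) :
    Cfsg.sympTransvection d v (1 : F) ^ k = Cfsg.sympTransvection d v (k : F) := by
  induction k with
  | zero => simp [Cfsg.Agent.Lib.Helper13.sympTransvection_zero]
  | succ k ih =>
    rw [pow_succ, ih, Cfsg.Agent.Lib.Helper13.sympTransvection_mul, Nat.cast_succ]

section S
variable [Fintype F]

/-- SPT-S1. -/
theorem sp_exists_transvection {p : ℕ} [Fact p.Prime] [CharP F p] (d : ℕ) (hd : 1 ≤ d) :
    ∃ x : GL (Fin d ⊕ Fin d) F, x ∈ Cfsg.spGL d F ∧ x ^ p = 1 ∧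
      (∀ z : F, (x : Matrix (Fin d ⊕ Fin d) (Fin d ⊕ Fin d) F) ≠ z • 1) ∧
      ((x : Matrix (Fin d ⊕ Fin d) (Fin d ⊕ Fin d) F) - 1).rank = 1 := by
  classical
  set i0 : Fin d := ⟨0, hd⟩ with hi0
  set v : Fin d ⊕ Fin d → F := Pi.single (Sum.inl i0) 1 with hv
  have hv1 : v (Sum.inl i0) = 1 := by simp [hv]
  have hv0 : v ≠ 0 := by
    intro h
    rw [h] at hv1
    simp at hv1
  set x : GL (Fin d ⊕ Fin d) F := ⟨Cfsg.sympTransvection d v 1, Cfsg.sympTransvection d v (-1),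
    by rw [Cfsg.Agent.Lib.Helper13.sympTransvection_mul, add_neg_cancel,
      Cfsg.Agent.Lib.Helper13.sympTransvection_zero],
    by rw [Cfsg.Agent.Lib.Helper13.sympTransvection_mul, neg_add_cancel,
      Cfsg.Agent.Lib.Helper13.sympTransvection_zero]⟩ with hx
  have hxc : (x : Matrix (Fin d ⊕ Fin d) (Fin d ⊕ Fin d) F) = Cfsg.sympTransvection d v 1 := rfl
  have hrank : ((x : Matrix (Fin d ⊕ Fin d) (Fin d ⊕ Fin d) F) - 1).rank = 1 := by
    rw [hxc]
    exact Cfsg.Agent.Lib.Helper8.rank_sympTransvection_sub_one d v 1 hv0 one_ne_zero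
  refine ⟨x, ?_, ?_, ?_, hrank⟩
  · intro u w
    exact Cfsg.Agent.Lib.Helper13.sympTransvection_preserves d v 1 u w
  · apply Units.ext
    rw [Units.val_pow_eq_pow_val, Units.val_one]
    show Cfsg.sympTransvection d v 1 ^ p = 1
    rw [s1_pow, CharP.cast_eq_zero, Cfsg.Agent.Lib.Helper13.sympTransvection_zero]
  · intro z hz
    rw [hz] at hrank
    by_cases hz1 : z = 1
    · rw [hz1, one_smul, sub_self, Matrix.rank_zero] at hrank
      exact zero_ne_one hrank
    · have hsub : z • (1 : Matrix (Fin d ⊕ Fin d) (Fin d ⊕ Fin d) F) - 1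
          = (z - 1) • (1 : Matrix (Fin d ⊕ Fin d) (Fin d ⊕ Fin d) F) := by
        rw [sub_smul, one_smul]
      have hne : z - 1 ≠ 0 := sub_ne_zero.mpr hz1
      have hunit : IsUnit ((z - 1) • (1 : Matrix (Fin d ⊕ Fin d) (Fin d ⊕ Fin d) F)) := by
        refine ⟨⟨(z - 1) • 1, (z - 1)⁻¹ • 1, ?_, ?_⟩, rfl⟩
        · rw [Matrix.smul_mul, Matrix.mul_smul, Matrix.mul_one, smul_smul, mul_inv_cancel₀ hne,
            one_smul]
        · rw [Matrix.smul_mul, Matrix.mul_smul, Matrix.mul_one, smul_smul, inv_mul_cancel₀ hne,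
            one_smul]
      rw [hsub, Matrix.rank_of_isUnit _ hunit] at hrank
      simp at hrank
      omega

end S

end Cfsg.Agent.Lib.Helper31.SpTns
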