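import Mathlib
import Cfsg.Agent.S1137

/-!
# Suzuki 2-groups: basic data (no hypothesis on the order)

Adapted from `Cfsg.Agent.Lib.Helper6.SuzA9` (which assumes `|P| = |Z(P)|²`).
-/

set_option autoImplicit false
set_option linter.style.haveILetI false

namespace Cfsg.Agent.Lib.Helper59.SuzBase

universe u

variable {P : Type u} [Group P]

/-- the basic data of a Suzuki 2-group -/
structure SBase (K : Subgroup (MulAut P)) : Prop where
  fin : Finite P
  pg : IsPGroup 2 P
  nonab : ∃ x y : P, x * y ≠ y * x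
  zsq : ∀ z ∈ Subgroup.center P, z * z = 1
  invc : ∀ x : P, x * x = 1 → x ∈ Subgroup.center P
  two : ∃ z ∈ Subgroup.center P, ∃ z' ∈ Subgroup.center P, z ≠ z' ∧ z ≠ 1 ∧ z' ≠ 1
  trans : ∀ z ∈ Subgroup.center P, z ≠ 1 → ∀ z' ∈ Subgroup.center P, z' ≠ 1 →
    ∃ k : K, (k : MulAut P) z = z'
  free : ∀ k : K, ∀ z ∈ Subgroup.center P, z ≠ 1 → (k : MulAut P) z = z → k = 1
  cyc : IsCyclic K

theorem sbase_of (hP : Cfsg.IsSuzukiTwoGroup P) : ∃ K : Subgroup (MulAut P), SBase K := by
  obtain ⟨hfin, hpg, hnab, ⟨i₁, i₂, hne, hi₁, hi₁', hi₂, hi₂'⟩, K, hK, hreg⟩ := hP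
  have hP' : Cfsg.IsSuzukiTwoGroup P :=
    ⟨hfin, hpg, hnab, ⟨i₁, i₂, hne, hi₁, hi₁', hi₂, hi₂'⟩, K, hK, hreg⟩
  obtain ⟨hinv, hzsq⟩ := Cfsg.Agent.S1137.result hP'
  refine ⟨K, hfin, hpg, hnab, hzsq, ?_,
    ⟨i₁, ((hinv i₁).mp ⟨hi₁, hi₁'⟩).1, i₂, ((hinv i₂).mp ⟨hi₂, hi₂'⟩).1, hne, hi₁, hi₂⟩, ?_, ?_, hK⟩
  · intro x hx
    by_cases h1 : x = 1
    · rw [h1]; exact Subgroup.one_mem _
    · exact ((hinv x).mp ⟨h1, hx⟩).1
  · intro z hz hz1 z' hz' hz'1
    obtain ⟨k, hk, -⟩ := hreg z z' hz1 (hzsq z hz) hz'1 (hzsq z' hz')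
    exact ⟨k, hk⟩
  · intro k z hz hz1 hkz
    obtain ⟨k₀, -, huniq⟩ := hreg z z hz1 (hzsq z hz) hz1 (hzsq z hz)
    rw [huniq k hkz, huniq 1 (by simp)]

variable {K : Subgroup (MulAut P)}

theorem map_center (σ : MulAut P) {z : P} (hz : z ∈ Subgroup.center P) : σ z ∈ Subgroup.center P :=
  Cfsg.Agent.S1137.map_mem_center σ hz

theorem map_center_iff (σ : MulAut P) {z : P} : σ z ∈ Subgroup.center P ↔ z ∈ Subgroup.center P := by
  refine ⟨fun h => ?_, map_center σ⟩
  have := map_center σ⁻¹ h
  simpa using this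

theorem SBase.nt (hB : SBase K) : ∃ z ∈ Subgroup.center P, z ≠ 1 := by
  obtain ⟨z, hz, _, _, _, hz1, _⟩ := hB.two
  exact ⟨z, hz, hz1⟩

/-- nonidentity elements of `K` have no fixed points besides `1`. -/
theorem SBase.fp_trivial (hB : SBase K) (k : K) (hk : k ≠ 1) (y : P) (hy : (k : MulAut P) y = y) :
    y = 1 := by
  by_contra hy1
  have hex : ∃ a : ℕ, y ^ 2 ^ a = 1 := hB.pg y
  classical
  let a := Nat.find hex
  have ha : y ^ 2 ^ a = 1 := Nat.find_spec hex
  have ha0 : a ≠ 0 := by
    intro h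
    rw [h, pow_zero, pow_one] at ha
    exact hy1 ha
  obtain ⟨b, hb⟩ : ∃ b, a = b + 1 := ⟨a - 1, by omega⟩
  have hmin : y ^ 2 ^ b ≠ 1 := Nat.find_min hex (by omega : b < a)
  have htt : y ^ 2 ^ b * y ^ 2 ^ b = 1 := by
    rw [← pow_add, ← two_mul, ← pow_succ', ← hb, ha]
  have htc := hB.invc _ htt
  have hkt : (k : MulAut P) (y ^ 2 ^ b) = y ^ 2 ^ b := by rw [map_pow, hy]
  exact hk (hB.free k _ htc hmin hkt)

/-- `K` is semiregular on the nontrivial cosets of any `K`-invariant subgroup. -/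
theorem SBase.semireg (hB : SBase K) (N : Subgroup P)
    (hN : ∀ k : K, ∀ n ∈ N, (k : MulAut P) n ∈ N) (k : K) (hk : k ≠ 1) (x : P)
    (hx : x⁻¹ * (k : MulAut P) x ∈ N) : x ∈ N := by
  haveI := hB.fin
  let h : N → N := fun n => ⟨n.1 * ((k : MulAut P) n.1)⁻¹, N.mul_mem n.2 (N.inv_mem (hN k _ n.2))⟩
  have hinj : Function.Injective h := by
    intro n m hnm
    have h1 : n.1 * ((k : MulAut P) n.1)⁻¹ = m.1 * ((k : MulAut P) m.1)⁻¹ := congrArg Subtype.val hnm
    have h2 : (k : MulAut P) (m.1⁻¹ * n.1) = m.1⁻¹ * n.1 := by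
      rw [map_mul, map_inv]
      have : n.1 = m.1 * ((k : MulAut P) m.1)⁻¹ * (k : MulAut P) n.1 := by
        rw [← h1]; group
      conv_rhs => rw [this]
      group
    have h3 := hB.fp_trivial k hk _ h2
    apply Subtype.ext
    exact (inv_mul_eq_one.mp h3).symm
  have hsurj : Function.Surjective h := Finite.injective_iff_surjective.mp hinj
  obtain ⟨n, hn⟩ := hsurj ⟨x⁻¹ * (k : MulAut P) x, hx⟩
  have hn' : n.1 * ((k : MulAut P) n.1)⁻¹ = x⁻¹ * (k : MulAut P) x := congrArg Subtype.val hn
  have hfix : (k : MulAut P) (x * n.1) = x * n.1 := by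
    rw [map_mul]
    have : (k : MulAut P) x = x * (n.1 * ((k : MulAut P) n.1)⁻¹) := by rw [hn']; group
    rw [this]; group
  have h7 := hB.fp_trivial k hk _ hfix
  have : x = n.1⁻¹ := eq_inv_of_mul_eq_one_left h7
  rw [this]
  exact N.inv_mem n.2

theorem SBase.inj_K (hB : SBase K) {z : P} (hz : z ∈ Subgroup.center P) (hz1 : z ≠ 1) {k k' : K}
    (h : (k : MulAut P) z = (k' : MulAut P) z) : k = k' := by
  have h1 : ((k⁻¹ * k' : K) : MulAut P) z = z := by
    rw [Subgroup.coe_mul, MulAut.mul_apply, ← h, Subgroup.coe_inv, MulAut.inv_apply_self]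
  have := hB.free _ z hz hz1 h1
  exact (inv_mul_eq_one.mp this)

theorem SBase.finite_K (hB : SBase K) : Finite K := by
  haveI := hB.fin
  obtain ⟨z₀, hz₀, hz₀1⟩ := hB.nt
  exact Finite.of_injective (fun k : K => (k : MulAut P) z₀) (fun k k' h => hB.inj_K hz₀ hz₀1 h)

theorem SBase.card_K (hB : SBase K) : Nat.card K + 1 = Nat.card (Subgroup.center P) := by
  haveI := hB.fin
  haveI := hB.finite_K
  obtain ⟨z₀, hz₀, hz₀1⟩ := hB.nt
  let g : Option K → Subgroup.center P := fun o =>
    match o with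
    | none => 1
    | some k => ⟨(k : MulAut P) z₀, map_center _ hz₀⟩
  have hg : Function.Bijective g := by
    constructor
    · intro o o' h
      match o, o' with
      | none, none => rfl
      | none, some k =>
        exfalso
        have h1 : (1 : P) = (k : MulAut P) z₀ := congrArg Subtype.val h
        apply hz₀1
        have := congrArg ((k : MulAut P)⁻¹) h1
        simpa using this.symm
      | some k, none =>
        exfalso
        have h1 : (k : MulAut P) z₀ = (1 : P) := congrArg Subtype.val h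
        apply hz₀1
        have := congrArg ((k : MulAut P)⁻¹) h1
        simpa using this
      | some k, some k' =>
        have h1 : (k : MulAut P) z₀ = (k' : MulAut P) z₀ := congrArg Subtype.val h
        rw [hB.inj_K hz₀ hz₀1 h1]
    · intro z
      by_cases hz : z = 1
      · exact ⟨none, hz.symm⟩
      · obtain ⟨k, hk⟩ := hB.trans z₀ hz₀ hz₀1 z.1 z.2 (fun h => hz (Subtype.ext h))
        exact ⟨some k, Subtype.ext hk⟩
  rw [← Nat.card_congr (Equiv.ofBijective g hg), Finite.card_option]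

/-- `|K|` divides `|P| - 1` (Burnside's orbit count for the fixed-point-free action). -/
theorem SBase.card_K_dvd (hB : SBase K) : Nat.card K ∣ Nat.card P - 1 := by
  classical
  haveI := hB.fin
  haveI := hB.finite_K
  haveI : Fintype P := Fintype.ofFinite P
  haveI : Fintype K := Fintype.ofFinite K
  have hBurn := MulAction.sum_card_fixedBy_eq_card_orbits_mul_card_group K P
  have h1 : ∀ k : K, Fintype.card (MulAction.fixedBy P k) = if k = 1 then Fintype.card P else 1 := by
    intro k
    split_ifs with hk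
    · subst hk
      have : MulAction.fixedBy P (1 : K) = Set.univ := by
        ext x; simp [MulAction.mem_fixedBy]
      rw [← Fintype.card_congr (Equiv.Set.univ P)]
      exact Fintype.card_congr (Equiv.setCongr this)
    · have : MulAction.fixedBy P k = {1} := by
        ext x
        simp only [MulAction.mem_fixedBy, Set.mem_singleton_iff]
        constructor
        · intro hx
          exact hB.fp_trivial k hk x hx
        · rintro rfl
          exact map_one (k : MulAut P)
      rw [Fintype.card_congr (Equiv.setCongr this)]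
      simp
  have h2 : ∑ k : K, Fintype.card (MulAction.fixedBy P k) = Fintype.card P + (Fintype.card K - 1) := by
    rw [Finset.sum_congr rfl (fun k _ => h1 k), Finset.sum_ite, Finset.sum_const, Finset.sum_const]
    have e1 : (Finset.univ.filter (fun k : K => k = 1)) = {1} := by
      ext k; simp
    have e2 : (Finset.univ.filter (fun k : K => ¬ k = 1)).card = Fintype.card K - 1 := by
      have := Finset.card_filter_add_card_filter_not (s := (Finset.univ : Finset K)) (fun k : K => k = 1)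
      rw [e1, Finset.card_singleton, Finset.card_univ] at this
      omega
    rw [e1, Finset.card_singleton, e2]
    simp
  rw [h2] at hBurn
  rw [Nat.card_eq_fintype_card, Nat.card_eq_fintype_card]
  have hKpos : 0 < Fintype.card K := Fintype.card_pos
  have hPpos : 0 < Fintype.card P := Fintype.card_pos
  have h3 : Fintype.card P - 1 + Fintype.card K =
      Fintype.card (Quotient (MulAction.orbitRel K P)) * Fintype.card K := by
    rw [← hBurn]; omega
  have h4 : Fintype.card K ∣ Fintype.card P - 1 + Fintype.card K := ⟨_, by rw [h3, mul_comm]⟩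
  exact (Nat.dvd_add_left (dvd_refl _)).mp h4

end Cfsg.Agent.Lib.Helper59.SuzBase
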