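import Cfsg.Agent.Lib.Helper87.OmegaAut
import Cfsg.Agent.Lib.Helper87.Saturation
import Cfsg.Agent.Lib.Helper87.Chain
import Cfsg.Agent.S5086
import Cfsg.Agent.S1137

/-!
# Resistant groups: a class-two criterion

If `W ≤ S` is strongly closed in the saturated fusion system `F`, central in `S`, and contains all
commutators of `S`, then `S` is normal in `F`.  Applied to Suzuki 2-groups.
-/

set_option autoImplicit false
set_option linter.style.haveILetI false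

namespace Cfsg.Agent.Lib.Helper59.SuzResistant

open Cfsg Cfsg.FusionSystem Cfsg.Agent.Lib.Helper87

variable {Ω : Type*} [Group Ω] {S : Subgroup Ω}

theorem isNormal_of_central_stronglyClosed [Finite S] {p : ℕ} [Fact p.Prime] (hS : IsPGroup p S)
    (F : FusionSystem S) (hF : F.IsSaturated p) (W : Subgroup Ω) (hW : F.StronglyClosed W)
    (hWc : ∀ w ∈ W, ∀ s ∈ S, s * w = w * s)
    (hcomm : ∀ s ∈ S, ∀ t ∈ S, s⁻¹ * (t * s * t⁻¹) ∈ W) : F.IsNormal S := by
  rw [Cfsg.Agent.S5086.result p hS F hF S]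
  refine ⟨⟨le_rfl, fun R _ φ hφ x => (F.le_of_mem hφ).2 x⟩, ?_⟩
  intro R hRc hrad
  have hRS : R ≤ S := hRc.1
  by_contra hSR
  have hne : R ≠ S := fun h => hSR (h ▸ le_rfl)
  obtain ⟨g, hgN, hgR⟩ := exists_mem_normalizerIn_not_mem hS hRS hne
  have hα : conjAut R g hgN.2 ∈ F.autGroup R :=
    autInducedBy_le_autGroup F hRS (conjAut_mem_autInducedBy hgN.1 hgN.2)
  have hαp : conjAut R g hgN.2 ∈ (pCore p (F.autGroup R)).map (F.autGroup R).subtype := by
    apply mem_pCore_of_stabilizes hS F hRS hW hα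
    · intro y
      rw [conjAut_coe]
      exact hcomm _ (hRS y.2) _ hgN.1
    · intro y hy
      apply Subtype.ext
      rw [conjAut_coe]
      have := hWc _ hy g hgN.1
      rw [this]
      group
  have hαinn : conjAut R g hgN.2 ∈ Inn R := by
    rw [← hrad.2]
    exact hαp
  obtain ⟨r, hr⟩ := hαinn
  have hcen' : (r : Ω)⁻¹ * g ∈ centralizerIn S R := by
    refine ⟨S.mul_mem (S.inv_mem (hRS r.2)) hgN.1, ?_⟩
    intro x hx
    have h1 : ((MulAut.conj r ⟨x, hx⟩ : R) : Ω) = ((conjAut R g hgN.2 ⟨x, hx⟩ : R) : Ω) := by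
      rw [hr]
    have h2 : (r : Ω) * x * (r : Ω)⁻¹ = g * x * g⁻¹ := h1
    calc x * ((r : Ω)⁻¹ * g) = (r : Ω)⁻¹ * ((r : Ω) * x * (r : Ω)⁻¹) * g := by group
      _ = (r : Ω)⁻¹ * (g * x * g⁻¹) * g := by rw [h2]
      _ = (r : Ω)⁻¹ * g * x := by group
  have hcenR := hRc.2 R (isConj_refl F hRS) hcen'
  apply hgR
  have : g = (r : Ω) * ((r : Ω)⁻¹ * g) := by group
  rw [this]
  exact R.mul_mem r.2 hcenR

/-- Suzuki 2-groups with squares and commutators central are resistant. -/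
theorem suzuki_resistant [Finite S] (hS : IsPGroup 2 S) (F : FusionSystem S)
    (hF : F.IsSaturated 2) (hsz : Cfsg.IsSuzukiTwoGroup ↥S)
    (hcm : ∀ x y : S, x⁻¹ * y⁻¹ * x * y ∈ Subgroup.center S) : F.IsNormal S := by
  obtain ⟨hinv, hzsq⟩ := Cfsg.Agent.S1137.result hsz
  haveI : Fact (Nat.Prime 2) := ⟨Nat.prime_two⟩
  -- W = the centre of S inside Ω
  let W : Subgroup Ω := (Subgroup.center S).map S.subtype
  have hWmem : ∀ w : Ω, w ∈ W ↔ ∃ hw : w ∈ S, (⟨w, hw⟩ : S) ∈ Subgroup.center S := by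
    intro w
    constructor
    · rintro ⟨z, hz, rfl⟩
      exact ⟨z.2, hz⟩
    · rintro ⟨hw, hz⟩
      exact ⟨⟨w, hw⟩, hz, rfl⟩
  have hWS : W ≤ S := by
    intro w hw
    obtain ⟨h, -⟩ := (hWmem w).mp hw
    exact h
  -- characterisation: elements of S with square 1
  have hWchar : ∀ w : Ω, w ∈ W ↔ w ∈ S ∧ w * w = 1 := by
    intro w
    constructor
    · intro hw
      obtain ⟨h, hz⟩ := (hWmem w).mp hw
      refine ⟨h, ?_⟩
      have := hzsq _ hz
      exact congrArg Subtype.val this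
    · rintro ⟨h, hww⟩
      rw [hWmem]
      refine ⟨h, ?_⟩
      by_cases h1 : (⟨w, h⟩ : S) = 1
      · rw [h1]; exact Subgroup.one_mem _
      · exact ((hinv ⟨w, h⟩).mp ⟨h1, Subtype.ext hww⟩).1
  apply isNormal_of_central_stronglyClosed hS F hF W
  · refine ⟨hWS, ?_⟩
    intro R hRW φ hφ x
    rw [hWchar]
    refine ⟨(F.le_of_mem hφ).2 x, ?_⟩
    have hx : (x : Ω) * (x : Ω) = 1 := ((hWchar _).mp (hRW x.2)).2
    have hx' : x * x = 1 := Subtype.ext hx
    rw [← map_mul, hx', map_one]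
  · intro w hw s hs
    obtain ⟨h, hz⟩ := (hWmem w).mp hw
    have := Subgroup.mem_center_iff.mp hz ⟨s, hs⟩
    exact congrArg Subtype.val this
  · intro s hs t ht
    rw [hWmem]
    have h1 := hcm ⟨s, hs⟩ ⟨t⁻¹, S.inv_mem ht⟩
    refine ⟨S.mul_mem (S.inv_mem hs) (S.mul_mem (S.mul_mem ht hs) (S.inv_mem ht)), ?_⟩
    have e : (⟨s⁻¹ * (t * s * t⁻¹), S.mul_mem (S.inv_mem hs) (S.mul_mem (S.mul_mem ht hs) (S.inv_mem ht))⟩ : S)
        = (⟨s, hs⟩ : S)⁻¹ * (⟨t⁻¹, S.inv_mem ht⟩ : S)⁻¹ * ⟨s, hs⟩ * ⟨t⁻¹, S.inv_mem ht⟩ := by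
      apply Subtype.ext
      simp [mul_assoc]
    rw [e]
    exact h1

end Cfsg.Agent.Lib.Helper59.SuzResistant
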