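import Mathlib
import Cfsg.Prelude.Def_ClassicalGeometry
import Cfsg.Agent.Lib.Helper99.SympForm

/-!
# Definitions for the S5955 hive (owner helper59): totally isotropic invariant subspaces

`TI ω W` (totally isotropic), `Isom ω X` (isometry), `HasTI ω X m` (an `X`-invariant totally isotropic
subspace of dimension `m`), `Nd ω M` (= `Cfsg.Agent.Lib.Helper99.Nd`, nondegenerate on `M`),
`fixSp X = ker (X - 1)`, `movSp r X = ker (Φ_r(X))`.
-/

set_option autoImplicit false

namespace Cfsg.Agent.Lib.Helper59.Ti

open Cfsg.Agent.Lib.Helper99 (Nd sympB)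

variable {F : Type*} [Field F] {V : Type*} [AddCommGroup V] [Module F V]

/-- totally isotropic subspace -/
def TI (ω : LinearMap.BilinForm F V) (W : Submodule F V) : Prop :=
  ∀ u ∈ W, ∀ v ∈ W, ω u v = 0

/-- isometry of a bilinear form -/
def Isom (ω : LinearMap.BilinForm F V) (X : Module.End F V) : Prop :=
  ∀ u v, ω (X u) (X v) = ω u v

/-- `X` has an invariant totally isotropic subspace of dimension `m` -/
def HasTI (ω : LinearMap.BilinForm F V) (X : Module.End F V) (m : ℕ) : Prop :=
  ∃ W : Submodule F V, Module.finrank F W = m ∧ TI ω W ∧ W.map X ≤ W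

/-- the fixed space -/
def fixSp (X : Module.End F V) : Submodule F V := LinearMap.ker (X - 1)

/-- the moved space (for `X ^ r = 1`, `r` prime different from the characteristic) -/
noncomputable def movSp (r : ℕ) (X : Module.End F V) : Submodule F V :=
  LinearMap.ker (Polynomial.aeval X (Polynomial.cyclotomic r F))

theorem mem_fixSp (X : Module.End F V) (v : V) : v ∈ fixSp X ↔ X v = v := by
  unfold fixSp
  rw [LinearMap.mem_ker, LinearMap.sub_apply, Module.End.one_apply, sub_eq_zero]

theorem TI.mono {ω : LinearMap.BilinForm F V} {W W' : Submodule F V} (h : TI ω W) (hle : W' ≤ W) :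
    TI ω W' := fun u hu v hv => h u (hle hu) v (hle hv)

theorem ti_bot (ω : LinearMap.BilinForm F V) : TI ω ⊥ := by
  intro u hu v _
  rw [(Submodule.mem_bot F).mp hu, map_zero, LinearMap.zero_apply]

end Cfsg.Agent.Lib.Helper59.Ti
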