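import Mathlib
import Cfsg.Prelude.Def_ClassicalGeometry
import Cfsg.Agent.Lib.Helper2.BGLin
import Cfsg.Agent.Lib.Helper2.BGPoly
import Cfsg.Agent.Lib.Helper99.SympForm
import Cfsg.Agent.Lib.Helper48.TiDefs
import Cfsg.Agent.Lib.Helper13.Symp
import Cfsg.Agent.Lib.Helper8.SpIrredElt

/-! # S5955 hive (helper48), leaf TI-TRANSPORT (helper59):
an isometry of an abstract nondegenerate alternating space of dimension `2d` is realised by a
symplectic matrix. -/

set_option autoImplicit false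

namespace Cfsg.Agent.Lib.Helper48.Ti

open Polynomial Module
open Cfsg.Agent.Lib.Helper2.BG Cfsg.Agent.Lib.Helper99

section concrete

variable {F : Type*} [Field F]

/-- TI-TRANSPORT (tool for TI-D2): an isometry of an abstract nondegenerate alternating space
of dimension `2d` is realised by a symplectic matrix -/
theorem exists_symp_of_model (d : ℕ) {W : Type*} [AddCommGroup W] [Module F W]
    [FiniteDimensional F W] (ω : LinearMap.BilinForm F W) (halt : ω.IsAlt)
    (hnd : ω.Nondegenerate) (hfr : finrank F W = 2 * d) (g : W ≃ₗ[F] W)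
    (hg : ∀ u v, ω (g u) (g v) = ω u v) :
    ∃ (x : ↥(Matrix.symplecticGroup (Fin d) F)) (Θ : W ≃ₗ[F] (Fin d ⊕ Fin d → F)),
      (∀ u v, Cfsg.sympForm d F (Θ u) (Θ v) = ω u v) ∧
      ∀ w, Matrix.toLin' (x : Matrix (Fin d ⊕ Fin d) (Fin d ⊕ Fin d) F) (Θ w) = Θ (g w) := by
  obtain ⟨Θ, hΘ⟩ := Cfsg.Agent.Lib.Helper8.exists_symp_coords_gen ω halt hnd d hfr
  let fL : (Fin d ⊕ Fin d → F) →ₗ[F] (Fin d ⊕ Fin d → F) :=
    (Θ.symm.trans (g.trans Θ)).toLinearMap
  let X : Matrix (Fin d ⊕ Fin d) (Fin d ⊕ Fin d) F := LinearMap.toMatrix' fL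
  have hXv : ∀ v, Matrix.mulVec X v = Θ (g (Θ.symm v)) := by
    intro v
    rw [← Matrix.toLin'_apply, Matrix.toLin'_toMatrix']
    rfl
  have hXΘ : ∀ a, Matrix.mulVec X (Θ a) = Θ (g a) := by
    intro a
    rw [hXv, LinearEquiv.symm_apply_apply]
  have hXmem : X ∈ Matrix.symplecticGroup (Fin d) F := by
    apply Cfsg.Agent.Lib.Helper13.mem_symplectic_of_preserves
    intro u v
    rw [hXv, hXv, hΘ, hg, ← hΘ, LinearEquiv.apply_symm_apply, LinearEquiv.apply_symm_apply]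
  refine ⟨⟨X, hXmem⟩, Θ, hΘ, fun w => ?_⟩
  rw [Matrix.toLin'_apply]
  exact hXΘ w

end concrete

end Cfsg.Agent.Lib.Helper48.Ti
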