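import Mathlib
import Cfsg.Prelude.Def_ClassicalGeometry
import Cfsg.Prelude.Def_GeometricClasses
import Cfsg.Agent.Lib.Helper59.TqDefs
import Cfsg.Agent.Lib.Helper23.TqSCAL
import Cfsg.Agent.Lib.Helper27.TqWITT
import Cfsg.Agent.Lib.Helper64.TqTRF
import Cfsg.Agent.Lib.Helper59.TqOMEGA
import Cfsg.Agent.Lib.Helper43.TqTRANS
import Cfsg.Agent.Lib.Helper33.TqTYPEODD
import Cfsg.Agent.Lib.Helper97.TqTYPEEVEN
import Cfsg.Agent.Lib.Helper72.TqAREVEN
import Cfsg.Agent.Lib.Helper79.TqFIXODD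
import Cfsg.Agent.Lib.Helper79.TqFIXEVEN
import Cfsg.Agent.Lib.Helper83.TqBRP
import Cfsg.Agent.Lib.Helper83.TqBRM
import Cfsg.Agent.Lib.Helper51.TqARP
import Cfsg.Agent.Lib.Helper51.TqARODD
import Cfsg.Agent.Lib.Helper82.TqCNT
import Cfsg.Agent.Lib.Helper37.TqTWODER
import Cfsg.Agent.Lib.Helper30.TqDERODD
import Cfsg.Agent.Lib.Helper48.TqDEREVEN
import Cfsg.Agent.Lib.Helper67.TqTWOFIX

/-! # Tq hive (helper59): assembly of S5973 and S5987 from the interface -/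

set_option autoImplicit false

namespace Cfsg.Agent.Lib.Helper59.Tq

open Module

section asm

variable {ι : Type} [Fintype ι] [DecidableEq ι] {F : Type*} [Field F] [Fintype F]

theorem asm_typeE_cases {Q : (ι → F) → F} {e : ℕ} (he : TypeE Q e) : e = 0 ∨ e = 1 := by
  rcases he with ⟨h, -⟩ | ⟨h, -⟩
  · exact Or.inl h
  · exact Or.inr h

theorem asm_card_pow {p : ℕ} [Fact p.Prime] [CharP F p] :
    ∃ f, 1 ≤ f ∧ Fintype.card F = p ^ f := by
  obtain ⟨n, -, hn⟩ := FiniteField.card F p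
  exact ⟨n, n.pos, hn⟩

/-- the generic main theorem -/
theorem asm_main {p : ℕ} [Fact p.Prime] [CharP F p] (Q : (ι → F) → F) (d e m : ℕ)
    (hS : Std Q d) (he : TypeE Q e) (hd : 4 ≤ d) (hm : 1 ≤ m) (hmd : m + 1 ≤ d)
    (r : ℕ) [Fact r.Prime]
    (hrΩ : r ∣ Nat.card {W : Submodule F (ι → F) // finrank F W = m ∧ ∀ w ∈ W, Q w = 0})
    (i : ℕ) (hi : i = orderOf ((Fintype.card F : ℕ) : ZMod r)) :
    (∀ x : GL ι F, x ∈ Cfsg.Geo.omegaGL Q →
      (∃ z : F, ((x ^ r : GL ι F) : Matrix ι ι F) = z • (1 : Matrix ι ι F)) →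
      NonScalar x → FixTS Q m x) ↔
    ((r = 2 ∧ p ≠ 2 ∧ ((e = 0 ∧ (Fintype.card F % 4 = 1 ∨
        (Fintype.card F % 4 = 3 ∧ m + 2 ≤ d ∧ (Even m ∨ Odd d)))) ∨
      (e = 1 ∧ (Even d ∨ Even m ∨ Fintype.card F % 8 ≠ 7)))) ∨
     (r ≠ p ∧ 2 < r ∧ Odd i ∧ i ≤ m ∧ (if e = 0 then 2 * (m % i) ≤ (2 * d) % (2 * i)
        else ((2 * d) % (2 * i) = 0 ∨ 2 * (m % i) < (2 * d) % (2 * i)))) ∨
     (r ≠ p ∧ 2 < r ∧ Even i ∧ i ≤ m ∧ (r - 1) / i + 2 * (m / i) ≤ (2 * d) / i ∧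
        ((2 * (m % i) ≤ i ∧ (2 * d) % i = 0 ∧ ((2 * d) / i + e) % 2 = 1 ∧
            (r - 1) / i + 2 * (m / i) < (2 * d) / i) ∨
          (2 * (m % i) ≤ (2 * d) % i ∧ ((2 * d) / i + e) % 2 = 0) ∨
          (2 * (m % i) < (2 * d) % i ∧ ((2 * d) / i + e) % 2 = 1)))) := by
  have hrp' : r.Prime := Fact.out
  have hpp : p.Prime := Fact.out
  have he01 := asm_typeE_cases he
  have hq := asm_card_pow (F := F) (p := p)
  have hM := card_ts_mul Q d e m hS he hmd
  have hrp : r ≠ p := arith_ne_p (Fintype.card F) p hpp hq d e m _ he01 hmd hM r hrp' hrΩ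
  have hd1 : 1 ≤ d := by omega
  by_cases hr2 : r = 2
  · -- r = 2
    subst hr2
    have hp2 : p ≠ 2 := fun h => hrp h.symm
    constructor
    · intro hL
      refine Or.inl ⟨rfl, hp2, ?_⟩
      by_contra hcond
      obtain ⟨x, hxΩ, hx2, hns, hnf⟩ := two_der hp2 Q d e m hS he hd hm hmd hcond
      exact hnf (hL x hxΩ hx2 hns)
    · rintro (⟨-, -, hcond⟩ | ⟨-, h, -⟩ | ⟨-, h, -⟩)
      · intro x hxΩ hx2 hns
        exact two_fix hp2 Q d e m hS he hd hm hmd hcond x hxΩ hx2 hns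
      · omega
      · omega
  · -- r odd
    have hr3 : 2 < r := by
      have := hrp'.two_le
      omega
    have hrodd : Odd r := hrp'.odd_of_ne_two hr2
    rcases Nat.even_or_odd i with hie | hio
    · -- i even
      have hA := arith_even (Fintype.card F) p hpp hq d e m _ he01 hm hmd hM r hrp' hr2 hrp hrΩ i
        hi hie
      constructor
      · intro hL
        refine Or.inr (Or.inr ?_)
        have hall : ∀ N, 1 ≤ N → i * N ≤ 2 * d → (i * N = 2 * d → (N + e) % 2 = 0) →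
            ∃ a b, a + b * i = m ∧ (b = 0 ∨ 2 * b + (r - 1) / i ≤ N + 1) ∧
              2 * a + 2 * ((N + e) % 2) + i * N ≤ 2 * d := by
          intro N hN1 hN hNe
          obtain ⟨x, hxΩ, hxr, hx1, hx⟩ := der_even Q d e hS he r hr2 hrp i hi hie (by omega) N hN1 hN hNe
          have hxI := omegaGL_le Q hxΩ
          have hns := nonScalar_of_pow_eq_one Q d hd1 hS r hrodd x hxI hxr hx1
          have hxr' : ∃ z : F, ((x ^ r : GL ι F) : Matrix ι ι F) = z • (1 : Matrix ι ι F) :=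
            ⟨1, by rw [hxr, one_smul]; rfl⟩
          exact hx m (hL x hxΩ hxr' hns)
        obtain ⟨h1, h2, h3⟩ := hA.mp hall
        exact ⟨hrp, hr3, hie, h1, h2, h3⟩
      · rintro (⟨h, -⟩ | ⟨-, -, hio, -⟩ | ⟨-, -, -, h1, h2, h3⟩)
        · exact absurd h hr2
        · exact absurd hie (Nat.not_even_iff_odd.mpr hio)
        · intro x hxΩ hxr hns
          have hxI := omegaGL_le Q hxΩ
          obtain ⟨y, hyI, hyr, hy1, hyx⟩ := exists_pow_eq_one Q d hd1 hS r hrodd x hxI hxr hns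
          obtain ⟨N, hN1, hN, hNe, hfix⟩ := fix_even Q d e hS he r hr2 hrp i hi hie y hyI hyr hy1
          obtain ⟨a, b, hab, hb, ha⟩ := hA.mpr ⟨h1, h2, h3⟩ N hN1 hN hNe
          exact hyx m (hfix m a b hab hb ha)
    · -- i odd
      have hA := arith_odd (Fintype.card F) p hpp hq d e m _ he01 hm hmd hM r hrp' hr2 hrp hrΩ i
        hi hio
      constructor
      · intro hL
        refine Or.inr (Or.inl ?_)
        have hall : ∀ j, 1 ≤ j → i * j + e ≤ d →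
            ∃ a b, a + b * i = m ∧ b ≤ j ∧ a + i * j + e ≤ d := by
          intro j hj1 hj
          obtain ⟨x, hxΩ, hxr, hx1, hx⟩ := der_odd Q d e hS he r hr2 hrp i hi hio (by omega) j hj1 hj
          have hxI := omegaGL_le Q hxΩ
          have hns := nonScalar_of_pow_eq_one Q d hd1 hS r hrodd x hxI hxr hx1
          have hxr' : ∃ z : F, ((x ^ r : GL ι F) : Matrix ι ι F) = z • (1 : Matrix ι ι F) :=
            ⟨1, by rw [hxr, one_smul]; rfl⟩
          exact hx m (hL x hxΩ hxr' hns)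
        obtain ⟨h1, h2⟩ := hA.mp hall
        exact ⟨hrp, hr3, hio, h1, h2⟩
      · rintro (⟨h, -⟩ | ⟨-, -, -, h1, h2⟩ | ⟨-, -, hie, -⟩)
        · exact absurd h hr2
        · intro x hxΩ hxr hns
          have hxI := omegaGL_le Q hxΩ
          obtain ⟨y, hyI, hyr, hy1, hyx⟩ := exists_pow_eq_one Q d hd1 hS r hrodd x hxI hxr hns
          obtain ⟨j, hj1, hj, hfix⟩ := fix_odd Q d e hS he r hr2 hrp i hi hio y hyI hyr hy1
          obtain ⟨a, b, hab, hb, ha⟩ := hA.mpr ⟨h1, h2⟩ j hj1 hj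
          exact hyx m (hfix m a b hab hb ha)
        · exact absurd hie (Nat.not_even_iff_odd.mpr hio)

end asm

end Cfsg.Agent.Lib.Helper59.Tq
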