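import Mathlib

set_option autoImplicit false

namespace Cfsg.Agent.Lib.Helper59.UP

open Equiv Equiv.Perm

universe u v w

/-- `σ` fixes a partition of `α` into blocks of size `a` indexed by `ι`. -/
def Fixes {α : Type u} (σ : Perm α) (a : ℕ) (ι : Type v) : Prop :=
  ∃ f : α → ι, (∀ j : ι, Nat.card {x : α // f x = j} = a) ∧
    ∃ π : Perm ι, ∀ x : α, f (σ x) = π (f x)

/-- number of fixed points -/
noncomputable def nfix {α : Type u} (σ : Perm α) : ℕ := Nat.card {x : α // σ x = x}

section Transfer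

variable {α : Type u} {β : Type v} {ι : Type w} {ι' : Type*}

theorem Fixes.congr_index {σ : Perm α} {a : ℕ} (e : ι ≃ ι') (h : Fixes σ a ι) : Fixes σ a ι' := by
  obtain ⟨f, hf, π, hπ⟩ := h
  refine ⟨fun x => e (f x), ?_, e.permCongr π, ?_⟩
  · intro j
    rw [← hf (e.symm j)]
    apply Nat.card_congr
    apply Equiv.subtypeEquivRight
    intro x
    constructor
    · intro hx; rw [← hx]; simp
    · intro hx; show e (f x) = j; rw [hx]; simp
  · intro x
    simp [hπ x]

theorem Fixes.congr_dom {σ : Perm α} {a : ℕ} (e : α ≃ β) (h : Fixes σ a ι) :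
    Fixes (e.permCongr σ) a ι := by
  obtain ⟨f, hf, π, hπ⟩ := h
  refine ⟨fun y => f (e.symm y), ?_, π, ?_⟩
  · intro j
    rw [← hf j]
    apply Nat.card_congr
    exact Equiv.subtypeEquiv e.symm (fun y => Iff.rfl)
  · intro y
    simp [hπ]

theorem Fixes.conj {σ : Perm α} {a : ℕ} (g : Perm α) (h : Fixes σ a ι) :
    Fixes (g * σ * g⁻¹) a ι := by
  have := h.congr_dom g
  rwa [Equiv.permCongr_eq_mul] at this

theorem nfix_permCongr (σ : Perm α) (e : α ≃ β) : nfix (e.permCongr σ) = nfix σ := by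
  unfold nfix
  apply Nat.card_congr
  refine Equiv.subtypeEquiv e.symm ?_
  intro y
  simp only [Equiv.permCongr_apply]
  constructor
  · intro h
    have := congrArg e.symm h
    simpa using this
  · intro h
    rw [h]; simp

theorem nfix_sumCongr [Finite α] [Finite β] (σ₁ : Perm α) (σ₂ : Perm β) :
    nfix (Perm.sumCongr σ₁ σ₂) = nfix σ₁ + nfix σ₂ := by
  unfold nfix
  rw [Nat.card_congr (Equiv.subtypeSum), Nat.card_sum]
  · congr 1
    · apply Nat.card_congr
      apply Equiv.subtypeEquivRight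
      intro x
      simp
    · apply Nat.card_congr
      apply Equiv.subtypeEquivRight
      intro x
      simp

theorem Fixes.sum {σ₁ : Perm α} {σ₂ : Perm β} {a : ℕ} (h₁ : Fixes σ₁ a ι) (h₂ : Fixes σ₂ a ι') :
    Fixes (Perm.sumCongr σ₁ σ₂) a (ι ⊕ ι') := by
  obtain ⟨f₁, hf₁, π₁, hπ₁⟩ := h₁
  obtain ⟨f₂, hf₂, π₂, hπ₂⟩ := h₂
  refine ⟨Sum.map f₁ f₂, ?_, Perm.sumCongr π₁ π₂, ?_⟩
  · rintro (j | j)
    · rw [← hf₁ j]
      apply Nat.card_congr
      refine (Equiv.subtypeSum).trans ?_
      have hE : IsEmpty {b // Sum.map f₁ f₂ (Sum.inr b) = Sum.inl j} := by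
        constructor
        rintro ⟨x, hx⟩
        simp at hx
      refine (Equiv.sumCongr (Equiv.subtypeEquivRight (q := fun x => f₁ x = j) ?_)
        (Equiv.equivOfIsEmpty _ PEmpty.{1})).trans (Equiv.sumEmpty _ _)
      intro x; simp
    · rw [← hf₂ j]
      apply Nat.card_congr
      refine (Equiv.subtypeSum).trans ?_
      have hE : IsEmpty {a // Sum.map f₁ f₂ (Sum.inl a) = Sum.inr j} := by
        constructor
        rintro ⟨x, hx⟩
        simp at hx
      refine (Equiv.sumCongr (Equiv.equivOfIsEmpty _ PEmpty.{1})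
        (Equiv.subtypeEquivRight (q := fun x => f₂ x = j) ?_)).trans (Equiv.emptySum _ _)
      intro x; simp
  · rintro (x | x)
    · simp [hπ₁]
    · simp [hπ₂]

theorem sumCongr_pow (σ₁ : Perm α) (σ₂ : Perm β) (n : ℕ) :
    (Perm.sumCongr σ₁ σ₂) ^ n = Perm.sumCongr (σ₁ ^ n) (σ₂ ^ n) := by
  induction n with
  | zero => simp
  | succ n ih => rw [pow_succ, ih, Perm.sumCongr_mul, ← pow_succ, ← pow_succ]

end Transfer

section Fin

variable {α : Type u} [Fintype α] [DecidableEq α]

theorem nfix_eq_card_compl_support (σ : Perm α) : nfix σ = (σ.support)ᶜ.card := by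
  unfold nfix
  rw [Nat.card_eq_fintype_card, Fintype.card_subtype]
  congr 1
  ext x
  simp

theorem nfix_add_card_support (σ : Perm α) : nfix σ + σ.support.card = Fintype.card α := by
  rw [nfix_eq_card_compl_support, Finset.card_compl]
  have := Finset.card_le_univ σ.support
  omega

theorem cycleType_eq_replicate_of_pow_prime {r : ℕ} (hr : r.Prime) {σ : Perm α} (hσ : σ ^ r = 1) :
    σ.cycleType = Multiset.replicate ((Fintype.card α - nfix σ) / r) r := by
  have : Fact r.Prime := ⟨hr⟩
  have hall : ∀ c ∈ σ.cycleType, c = r := (pow_prime_eq_one_iff).1 hσ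
  have h1 : σ.cycleType = Multiset.replicate (Multiset.card σ.cycleType) r :=
    Multiset.eq_replicate.2 ⟨rfl, hall⟩
  have h2 : σ.support.card = Multiset.card σ.cycleType * r := by
    rw [← sum_cycleType]
    conv_lhs => rw [h1]
    rw [Multiset.sum_replicate, smul_eq_mul]
  have h3 := nfix_add_card_support σ
  have h4 : (Fintype.card α - nfix σ) / r = Multiset.card σ.cycleType := by
    have : Fintype.card α - nfix σ = Multiset.card σ.cycleType * r := by omega
    rw [this, Nat.mul_div_cancel _ hr.pos]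
  rw [h4]
  exact h1

theorem isConj_of_pow_prime {r : ℕ} (hr : r.Prime) {σ τ : Perm α} (hσ : σ ^ r = 1)
    (hτ : τ ^ r = 1) (h : nfix σ = nfix τ) : IsConj σ τ := by
  rw [isConj_iff_cycleType_eq, cycleType_eq_replicate_of_pow_prime hr hσ,
    cycleType_eq_replicate_of_pow_prime hr hτ, h]

/-- existence of a permutation of order dividing `r` with a prescribed number of fixed points -/
theorem exists_perm_nfix {r : ℕ} (hr : r.Prime) (g : ℕ) (hg : g ≤ Fintype.card α)
    (hmod : g % r = Fintype.card α % r) : ∃ τ : Perm α, τ ^ r = 1 ∧ nfix τ = g := by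
  have : Fact r.Prime := ⟨hr⟩
  have hdvd : r ∣ Fintype.card α - g := (Nat.modEq_iff_dvd' hg).1 hmod
  obtain ⟨τ, hτ⟩ := (exists_with_cycleType_iff α
      (m := Multiset.replicate ((Fintype.card α - g) / r) r)).2
    ⟨by
      rw [Multiset.sum_replicate, smul_eq_mul, Nat.div_mul_cancel hdvd]
      exact Nat.sub_le _ _,
     by
      intro a ha
      rw [Multiset.eq_of_mem_replicate ha]
      exact hr.two_le⟩
  refine ⟨τ, ?_, ?_⟩
  · rw [pow_prime_eq_one_iff, hτ]
    intro c hc
    exact Multiset.eq_of_mem_replicate hc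
  · have h1 := nfix_add_card_support τ
    rw [← sum_cycleType, hτ, Multiset.sum_replicate, smul_eq_mul, Nat.div_mul_cancel hdvd] at h1
    omega

end Fin

section Build

/-- the `r`-cycle block: rotate the first coordinate of `Fin r × β` -/
def rotBlock (r : ℕ) (β : Type u) : Perm (Fin r × β) :=
  Equiv.prodCongr (finRotate r) (Equiv.refl β)

theorem rotBlock_pow_apply (r : ℕ) (β : Type u) (n : ℕ) (x : Fin r × β) :
    (rotBlock r β ^ n) x = ((finRotate r ^ n) x.1, x.2) := by
  induction n generalizing x with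
  | zero => simp
  | succ n ih =>
    rw [pow_succ, Perm.mul_apply, ih, pow_succ, Perm.mul_apply]
    rfl

theorem finRotate_pow_self (r : ℕ) (hr : r.Prime) : finRotate r ^ r = 1 := by
  have : Fact r.Prime := ⟨hr⟩
  rw [pow_prime_eq_one_iff, cycleType_finRotate_of_le hr.two_le]
  intro c hc
  simpa using hc

theorem rotBlock_pow_self (r : ℕ) (hr : r.Prime) (β : Type u) : rotBlock r β ^ r = 1 := by
  ext x : 1
  rw [rotBlock_pow_apply, finRotate_pow_self r hr]
  rfl

theorem nfix_rotBlock (r : ℕ) (hr : 2 ≤ r) (β : Type u) : nfix (rotBlock r β) = 0 := by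
  unfold nfix
  have : IsEmpty {x : Fin r × β // rotBlock r β x = x} := by
    constructor
    rintro ⟨⟨i, y⟩, hx⟩
    have h1 : finRotate r i = i := congrArg Prod.fst hx
    have h2 : i ∈ (finRotate r).support := by
      rw [support_finRotate_of_le hr]; exact Finset.mem_univ _
    rw [Perm.mem_support] at h2
    exact h2 h1
  exact Nat.card_of_isEmpty

theorem fixes_rotBlock (r : ℕ) (β : Type u) : Fixes (rotBlock r β) (Nat.card β) (Fin r) := by
  refine ⟨Prod.fst, ?_, finRotate r, ?_⟩
  · intro j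
    apply Nat.card_congr
    exact
      { toFun := fun x => x.1.2
        invFun := fun y => ⟨(j, y), rfl⟩
        left_inv := by
          rintro ⟨⟨i, y⟩, hx⟩
          simp only at hx
          subst hx
          rfl
        right_inv := fun y => rfl }
  · intro x
    rfl

theorem fixes_one_block {α : Type u} (σ : Perm α) : Fixes σ (Nat.card α) PUnit.{1} := by
  refine ⟨fun _ => PUnit.unit, ?_, 1, ?_⟩
  · intro j
    apply Nat.card_congr
    exact Equiv.subtypeUnivEquiv (fun x => rfl)
  · intro x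
    rfl

/-- `Q r a b f`: there is a permutation of some finite type, of order dividing `r`, with `f`
fixed points, fixing a partition into `b` blocks of size `a`. -/
def Q (r a b f : ℕ) : Prop :=
  ∃ (α ι : Type) (_ : Fintype α) (_ : Fintype ι) (σ : Perm α),
    Fintype.card ι = b ∧ σ ^ r = 1 ∧ nfix σ = f ∧ Fixes σ a ι

theorem Q_zero (r a : ℕ) : Q r a 0 0 := by
  refine ⟨PEmpty, PEmpty, inferInstance, inferInstance, 1, by simp, by simp, ?_, ?_⟩
  · unfold nfix
    exact Nat.card_of_isEmpty
  · refine ⟨fun x => x, ?_, 1, ?_⟩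
    · intro j; exact j.elim
    · intro x; exact x.elim

theorem Q_add_fixed {r a b f : ℕ} (hr : r.Prime) (h : Q r a b f) (g : ℕ) (hg : g ≤ a)
    (hmod : g % r = a % r) : Q r a (b + 1) (f + g) := by
  classical
  obtain ⟨α, ι, _, _, σ, hι, hσ, hf, hfix⟩ := h
  obtain ⟨τ, hτ, hτf⟩ := exists_perm_nfix (α := Fin a) hr g (by simpa using hg) (by simpa using hmod)
  refine ⟨α ⊕ Fin a, ι ⊕ PUnit.{1}, inferInstance, inferInstance, Perm.sumCongr σ τ, ?_, ?_, ?_, ?_⟩
  · simp [hι]
  · rw [sumCongr_pow, hσ, hτ, Perm.sumCongr_one]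
  · rw [nfix_sumCongr, hf, hτf]
  · have h2 := fixes_one_block τ
    rw [Nat.card_eq_fintype_card, Fintype.card_fin] at h2
    exact hfix.sum h2

theorem Q_add_cycle {r a b f : ℕ} (hr : r.Prime) (h : Q r a b f) : Q r a (b + r) f := by
  classical
  obtain ⟨α, ι, _, _, σ, hι, hσ, hf, hfix⟩ := h
  refine ⟨α ⊕ (Fin r × Fin a), ι ⊕ Fin r, inferInstance, inferInstance,
    Perm.sumCongr σ (rotBlock r (Fin a)), ?_, ?_, ?_, ?_⟩
  · simp [hι]
  · rw [sumCongr_pow, hσ, rotBlock_pow_self r hr, Perm.sumCongr_one]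
  · rw [nfix_sumCongr, hf, nfix_rotBlock r hr.two_le, add_zero]
  · have h2 := fixes_rotBlock r (Fin a)
    rw [Nat.card_eq_fintype_card, Fintype.card_fin] at h2
    exact hfix.sum h2

theorem Q_fixed {r a : ℕ} (hr : r.Prime) (b₀ s : ℕ) (hs : s ≤ b₀ * (a / r)) :
    Q r a b₀ (b₀ * (a % r) + r * s) := by
  induction b₀ generalizing s with
  | zero =>
    have : s = 0 := by simpa using hs
    subst this
    simpa using Q_zero r a
  | succ b₀ ih =>
    set t := min s (a / r) with ht
    have ht1 : t ≤ s := min_le_left _ _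
    have ht2 : t ≤ a / r := min_le_right _ _
    have hs' : s - t ≤ b₀ * (a / r) := by
      rcases le_total s (a / r) with h | h
      · have : t = s := min_eq_left h
        omega
      · have : t = a / r := min_eq_right h
        rw [this]
        have : (b₀ + 1) * (a / r) = b₀ * (a / r) + a / r := by ring
        omega
    have h1 := ih (s - t) hs'
    have hdm := Nat.div_add_mod a r
    have hrt : r * t ≤ r * (a / r) := Nat.mul_le_mul_left r ht2
    have h2 := Q_add_fixed hr h1 (a % r + r * t) (by omega)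
      (by rw [Nat.add_mul_mod_self_left, Nat.mod_mod])
    have heq : b₀ * (a % r) + r * (s - t) + (a % r + r * t) = (b₀ + 1) * (a % r) + r * s := by
      have : r * (s - t) + r * t = r * s := by
        rw [← Nat.mul_add, Nat.sub_add_cancel ht1]
      have : (b₀ + 1) * (a % r) = b₀ * (a % r) + a % r := by ring
      omega
    rw [heq] at h2
    exact h2

theorem Q_add_cycles {r a b f : ℕ} (hr : r.Prime) (h : Q r a b f) (m : ℕ) :
    Q r a (b + r * m) f := by
  induction m with
  | zero => simpa using h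
  | succ m ih =>
    have := Q_add_cycle hr ih
    have heq : b + r * m + r = b + r * (m + 1) := by ring
    rwa [heq] at this

theorem Q_of_good {r a b f : ℕ} (hr : r.Prime) (b₀ : ℕ) (hb₀ : b₀ ≤ b) (hmod : b₀ % r = b % r)
    (h1 : b₀ * (a % r) ≤ f) (h2 : f ≤ b₀ * a) (hf : f % r = (a * b) % r) : Q r a b f := by
  have hd1 : r ∣ b - b₀ := (Nat.modEq_iff_dvd' hb₀).1 hmod
  obtain ⟨m, hm⟩ := hd1
  have hfm : f ≡ b₀ * (a % r) [MOD r] := by
    have h3 : a * b ≡ (a % r) * b₀ [MOD r] :=
      Nat.ModEq.mul (Nat.mod_modEq a r).symm (Nat.ModEq.symm hmod)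
    have h4 : f ≡ a * b [MOD r] := hf
    rw [mul_comm b₀]
    exact h4.trans h3
  have hd2 : r ∣ f - b₀ * (a % r) := (Nat.modEq_iff_dvd' h1).1 hfm.symm
  obtain ⟨s, hs⟩ := hd2
  have hdm := Nat.div_add_mod a r
  have hs2 : s ≤ b₀ * (a / r) := by
    have h5 : r * s ≤ r * (b₀ * (a / r)) := by
      have h6 : b₀ * a = r * (b₀ * (a / r)) + b₀ * (a % r) := by
        conv_lhs => rw [← hdm]
        ring
      omega
    exact Nat.le_of_mul_le_mul_left h5 hr.pos
  have hQ := Q_add_cycles hr (Q_fixed (a := a) hr b₀ s hs2) m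
  have e1 : b₀ + r * m = b := by omega
  have e2 : b₀ * (a % r) + r * s = f := by omega
  rwa [e1, e2] at hQ

end Build

section Count

theorem Fixes.card_eq {α : Type u} {ι : Type v} [Finite α] [Fintype ι] {σ : Perm α} {a : ℕ}
    (h : Fixes σ a ι) : Nat.card α = Fintype.card ι * a := by
  obtain ⟨f, hf, -⟩ := h
  rw [Nat.card_congr (Equiv.sigmaFiberEquiv f).symm, Nat.card_sigma]
  simp [hf]

theorem permCongr_pow {α : Type u} {β : Type v} (e : α ≃ β) (σ : Perm α) (n : ℕ) :
    (e.permCongr σ) ^ n = e.permCongr (σ ^ n) := by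
  induction n with
  | zero =>
    ext y
    simp
  | succ n ih =>
    rw [pow_succ, ih, pow_succ]
    ext y
    simp

theorem fixes_of_Q {r a b f : ℕ} (hr : r.Prime) (h : Q r a b f) (σ : Perm (Fin (a * b)))
    (hσ : σ ^ r = 1) (hf : nfix σ = f) : Fixes σ a (Fin b) := by
  classical
  obtain ⟨α, ι, _, _, σ', hι, hσ', hf', hfix⟩ := h
  have hcard : Fintype.card α = a * b := by
    have := hfix.card_eq
    rw [Nat.card_eq_fintype_card, hι] at this
    rw [this, mul_comm]
  have hcard' : Fintype.card α = Fintype.card (Fin (a * b)) := by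
    rw [hcard, Fintype.card_fin]
  let e : α ≃ Fin (a * b) := Fintype.equivOfCardEq hcard'
  have h1 : (e.permCongr σ') ^ r = 1 := by
    rw [permCongr_pow, hσ']
    ext y
    simp
  have h2 : nfix (e.permCongr σ') = nfix σ := by
    rw [nfix_permCongr, hf', hf]
  have h3 : IsConj (e.permCongr σ') σ := isConj_of_pow_prime hr h1 hσ h2
  rw [isConj_iff] at h3
  obtain ⟨g, hg⟩ := h3
  have h4 := (hfix.congr_dom e).conj g
  rw [hg] at h4
  exact h4.congr_index (Fintype.equivFinOfCardEq hι)

theorem card_fixed_in_invariant {α : Type u} [Fintype α] [DecidableEq α] {r : ℕ} (hr : r.Prime)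
    (σ : Perm α) (hσ : σ ^ r = 1) (p : α → Prop) (hp : ∀ x, p (σ x) ↔ p x) :
    Nat.card {x // p x ∧ σ x = x} ≡ Nat.card {x // p x} [MOD r] := by
  classical
  have : Fact r.Prime := ⟨hr⟩
  set τ : Perm {x // p x} := σ.subtypePerm hp with hτ
  have hτr : τ ^ r ^ 1 = 1 := by
    rw [pow_one, hτ, subtypePerm_pow]
    ext x
    simp [hσ]
  have h1 := card_compl_support_modEq hτr
  rw [← nfix_eq_card_compl_support, ← Nat.card_eq_fintype_card] at h1
  have h2 : Nat.card {x // p x ∧ σ x = x} = nfix τ := by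
    unfold nfix
    apply Nat.card_congr
    refine (Equiv.subtypeSubtypeEquivSubtypeInter p (fun x => σ x = x)).symm.trans ?_
    apply Equiv.subtypeEquivRight
    intro y
    rw [hτ, Subtype.ext_iff]
    simp
  rw [h2]
  exact h1

theorem necessity {α : Type u} {ι : Type v} [Fintype α] [DecidableEq α] [Fintype ι]
    [DecidableEq ι] {r a : ℕ} (hr : r.Prime) (ha : 1 ≤ a) (σ : Perm α) (hσ : σ ^ r = 1)
    (h : Fixes σ a ι) :
    ∃ b₀, b₀ ≤ Fintype.card ι ∧ b₀ % r = Fintype.card ι % r ∧
      b₀ * (a % r) ≤ nfix σ ∧ nfix σ ≤ b₀ * a := by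
  have : Fact r.Prime := ⟨hr⟩
  obtain ⟨f, hf, π, hπ⟩ := h
  have hsurj : ∀ j, ∃ x, f x = j := by
    intro j
    have h1 : 0 < Nat.card {x // f x = j} := by rw [hf j]; exact ha
    obtain ⟨⟨x, hx⟩⟩ := (Nat.card_pos_iff.1 h1).1
    exact ⟨x, hx⟩
  have hpow : ∀ (n : ℕ) (x : α), f ((σ ^ n) x) = (π ^ n) (f x) := by
    intro n
    induction n with
    | zero => intro x; simp
    | succ n ih =>
      intro x
      rw [pow_succ', Perm.mul_apply, hπ, ih, pow_succ', Perm.mul_apply]
  have hπr : π ^ r ^ 1 = 1 := by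
    rw [pow_one]
    ext j
    obtain ⟨x, rfl⟩ := hsurj j
    rw [← hpow, hσ]
    simp
  have hmod := card_compl_support_modEq hπr
  set F : ι → ℕ := fun j => Nat.card {x // f x = j ∧ σ x = x} with hF
  have hsum : nfix σ = ∑ j, F j := by
    unfold nfix
    rw [Nat.card_congr (Equiv.sigmaFiberEquiv (fun y : {x // σ x = x} => f y.1)).symm,
      Nat.card_sigma]
    apply Finset.sum_congr rfl
    intro j _
    rw [hF]
    apply Nat.card_congr
    refine (Equiv.subtypeSubtypeEquivSubtypeInter (fun x => σ x = x) (fun x => f x = j)).trans ?_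
    apply Equiv.subtypeEquivRight
    intro x
    exact and_comm
  have hzero : ∀ j, π j ≠ j → F j = 0 := by
    intro j hj
    rw [hF]
    have : IsEmpty {x // f x = j ∧ σ x = x} := by
      constructor
      rintro ⟨x, hx1, hx2⟩
      apply hj
      rw [← hx1, ← hπ, hx2]
    exact Nat.card_of_isEmpty
  have hbd : ∀ j, π j = j → a % r ≤ F j ∧ F j ≤ a := by
    intro j hj
    have hp : ∀ x, f (σ x) = j ↔ f x = j := by
      intro x
      rw [hπ]
      constructor
      · intro h1
        apply π.injective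
        rw [h1, hj]
      · intro h1
        rw [h1, hj]
    have h1 := card_fixed_in_invariant hr σ hσ (fun x => f x = j) hp
    rw [hf j] at h1
    have h2 : F j % r = a % r := h1
    constructor
    · rw [← h2]; exact Nat.mod_le _ _
    · rw [← hf j]
      exact Nat.card_le_card_of_injective (fun x : {x // f x = j ∧ σ x = x} =>
        (⟨x.1, x.2.1⟩ : {x // f x = j})) (by
          rintro ⟨x, hx⟩ ⟨y, hy⟩ hxy
          simpa using hxy)
  have hsum2 : ∑ j, F j = ∑ j ∈ (π.support)ᶜ, F j := by
    symm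
    apply Finset.sum_subset (Finset.subset_univ _)
    intro j _ hj
    apply hzero
    rw [Finset.mem_compl, Perm.notMem_support] at hj
    exact hj
  refine ⟨(π.support)ᶜ.card, Finset.card_le_univ _, hmod, ?_, ?_⟩
  · rw [hsum, hsum2]
    have := Finset.card_nsmul_le_sum (π.support)ᶜ F (a % r) (by
      intro j hj
      rw [Finset.mem_compl, Perm.notMem_support] at hj
      exact (hbd j hj).1)
    simpa using this
  · rw [hsum, hsum2]
    have := Finset.sum_le_card_nsmul (π.support)ᶜ F a (by
      intro j hj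
      rw [Finset.mem_compl, Perm.notMem_support] at hj
      exact (hbd j hj).2)
    simpa using this

end Count

end Cfsg.Agent.Lib.Helper59.UP
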